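import Cfsg.Agent.Lib.OrthDeg48.Alt

/-!
Abstract data of a Siegel parabolic `Q ⋊ SL_r` and the eigenspaces of the centre of `Q`.
-/

set_option autoImplicit false
set_option linter.unusedSectionVars false

namespace Cfsg.Agent.Lib.OrthDeg48

open Matrix Module Cfsg.Agent.Lib.SLDeg48 Cfsg.Agent.Lib.UniDeg48

/-- The relations of a Siegel parabolic. -/
structure Siegel (F : Type*) [Field F] (r : ℕ) (κ : Type*) [Fintype κ] (G : Type*) [Group G] where
  /-- The Levi part. -/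
  L : SL' r F →* G
  /-- The centre of the unipotent radical. -/
  Zh : altM F r → G
  /-- The remaining root elements. -/
  Qv : (Fin r → F) → (κ → F) → G
  /-- The bilinear form on the anisotropic part. -/
  B0 : (κ → F) →ₗ[F] (κ → F) →ₗ[F] F
  /-- The quadratic form on the anisotropic part. -/
  Q0 : (κ → F) → F
  Zh_add : ∀ A B, Zh (A + B) = Zh A * Zh B
  Qv_add : ∀ u n n', Qv u (n + n') = Qv u n * Qv u n'
  Qv_smul : ∀ (c : F) u n, Qv (c • u) n = Qv u (c • n)
  Qv_add_left : ∀ u u' n, Qv (u + u') n = Qv u n * Qv u' n * Zh (Q0 n • altE u u')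
  Qv_comm : ∀ u u' n n', Qv u n * Qv u' n' = Qv u' n' * Qv u n * Zh (B0 n n' • altE u' u)
  Zh_Qv : ∀ A u n, Commute (Zh A) (Qv u n)
  L_Zh : ∀ g A, L g * Zh A = Zh (congA g.1 A) * L g
  L_Qv : ∀ g u n, L g * Qv u n = Qv (g.1 *ᵥ u) n * L g
  B0_nd : ∀ n, n ≠ 0 → ∃ n', B0 n' n ≠ 0

variable {F : Type*} [Field F] {r : ℕ} {κ : Type*} [Fintype κ] {G : Type*} [Group G]

namespace Siegel

variable (S : Siegel F r κ G)

/-- The centre as a homomorphism. -/
def zhHom : Multiplicative (altM F r) →* G :=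
  MonoidHom.mk' (fun A => S.Zh A.toAdd) (fun A B => S.Zh_add A.toAdd B.toAdd)

theorem zhHom_apply (A : altM F r) : S.zhHom (Multiplicative.ofAdd A) = S.Zh A := rfl

/-- A root subgroup as a homomorphism. -/
def qHom (u : Fin r → F) : Multiplicative (κ → F) →* G :=
  MonoidHom.mk' (fun n => S.Qv u n.toAdd) (fun n n' => S.Qv_add u n.toAdd n'.toAdd)

theorem qHom_apply (u : Fin r → F) (n : κ → F) : S.qHom u (Multiplicative.ofAdd n) = S.Qv u n := rfl

theorem Zh_zero : S.Zh 0 = 1 := map_one S.zhHom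

theorem Qv_zero (u : Fin r → F) : S.Qv u 0 = 1 := map_one (S.qHom u)

/-- `τ` acts on the radical as the Levi matrix `g`. -/
def IsLev (τ : G) (g : Matrix (Fin r) (Fin r) F) : Prop :=
  (∀ A, τ * S.Zh A = S.Zh (congA g A) * τ) ∧ ∀ u n, τ * S.Qv u n = S.Qv (g *ᵥ u) n * τ

theorem isLev_L (g : SL' r F) : S.IsLev (S.L g) g.1 := ⟨S.L_Zh g, S.L_Qv g⟩

variable [Fintype F] {M : Type*} [AddCommGroup M] [Module ℂ M]
variable (ρ : Representation ℂ G M) (ψ : AddChar F ℂ)

/-- The eigenspace of the centre for an alternating matrix. -/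
def D (β : altM F r) : Submodule ℂ M := eigSub ρ S.zhHom (chA ψ β)

theorem mem_D {β : altM F r} {z : M} :
    z ∈ S.D ρ ψ β ↔ ∀ A, ρ (S.Zh A) z = ψ (pairA β A) • z := by
  rw [D, mem_eigSub]
  rfl

theorem mem_D_zero {z : M} : z ∈ S.D ρ ψ 0 ↔ ∀ A, ρ (S.Zh A) z = z := by
  simp [mem_D, pairA]

theorem map_D {τ : G} {g h : Matrix (Fin r) (Fin r) F} (hτ : ∀ A, τ * S.Zh A = S.Zh (congA g A) * τ)
    (hgh : hᵀ * g = 1) {β : altM F r} {z : M} (hz : z ∈ S.D ρ ψ β) :
    ρ τ z ∈ S.D ρ ψ (congA h β) := by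
  rw [mem_D] at hz ⊢
  intro A
  have hA : congA g (congA hᵀ A) = A := by rw [congA_congA, mul_eq_one_comm.1 hgh, congA_one]
  calc ρ (S.Zh A) (ρ τ z) = ρ (S.Zh (congA g (congA hᵀ A)) * τ) z := by
        rw [hA, map_mul, Module.End.mul_apply]
    _ = ρ τ (ρ (S.Zh (congA hᵀ A)) z) := by rw [← hτ, map_mul, Module.End.mul_apply]
    _ = _ := by
        rw [hz, map_smul, ← pairA_congA hgh β (congA hᵀ A), hA]

theorem invT_cond (h : SL' r F) : h.1ᵀ * (invT r F h).1 = 1 := by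
  show h.1ᵀ * (h⁻¹).1ᵀ = 1
  rw [← transpose_mul, show (h⁻¹).1 * h.1 = 1 from congrArg Subtype.val (inv_mul_cancel h),
    transpose_one]

theorem map_D_L (h : SL' r F) {β : altM F r} {z : M} (hz : z ∈ S.D ρ ψ β) :
    ρ (S.L (invT r F h)) z ∈ S.D ρ ψ (congA h.1 β) :=
  S.map_D ρ ψ (S.L_Zh _) (invT_cond h) hz

theorem ρ_inj (g : G) {a b : M} (h : ρ g a = ρ g b) : a = b := by
  have := congrArg (ρ g⁻¹) h
  rwa [← Module.End.mul_apply, ← Module.End.mul_apply, ← map_mul, inv_mul_cancel, map_one,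
    Module.End.one_apply, Module.End.one_apply] at this

theorem finrank_le_of_maps [FiniteDimensional ℂ M] {A B : Submodule ℂ M} (g : G)
    (h : ∀ z ∈ A, ρ g z ∈ B) : finrank ℂ A ≤ finrank ℂ B :=
  LinearMap.finrank_le_finrank_of_injective (f := (ρ g).restrict h) fun a b hab =>
    Subtype.ext (ρ_inj ρ g (congrArg Subtype.val hab))

theorem finrank_D_congA [FiniteDimensional ℂ M] (h : SL' r F) (β : altM F r) :
    finrank ℂ (S.D ρ ψ (congA h.1 β)) = finrank ℂ (S.D ρ ψ β) := by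
  refine le_antisymm ?_ (finrank_le_of_maps ρ _ fun z hz => S.map_D_L ρ ψ h hz)
  refine finrank_le_of_maps ρ (S.L (invT r F h⁻¹)) fun z hz => ?_
  have := S.map_D_L ρ ψ h⁻¹ hz
  rwa [congA_congA, show (h⁻¹).1 * h.1 = 1 from congrArg Subtype.val (inv_mul_cancel h),
    congA_one] at this

theorem map_D_Qv (u : Fin r → F) (n : κ → F) {β : altM F r} {z : M} (hz : z ∈ S.D ρ ψ β) :
    ρ (S.Qv u n) z ∈ S.D ρ ψ β :=
  map_eigSub ρ S.zhHom _ (fun A => (S.Zh_Qv A u n).symm) hz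

/-- Moving `Qv u n` past `Qv u' n'` on an eigenspace. -/
theorem Qv_Qv {β : altM F r} {z : M} (hz : z ∈ S.D ρ ψ β) (u u' : Fin r → F) (n n' : κ → F) :
    ρ (S.Qv u n) (ρ (S.Qv u' n') z) =
      ψ (S.B0 n n' * pairA β (altE u' u)) • ρ (S.Qv u' n') (ρ (S.Qv u n) z) := by
  rw [← Module.End.mul_apply, ← map_mul ρ, S.Qv_comm, map_mul ρ, Module.End.mul_apply,
    (S.mem_D ρ ψ).1 hz, pairA_smul_right, map_smul, map_mul ρ, Module.End.mul_apply]

/-- Splitting a vector of the first argument on an eigenspace. -/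
theorem Qv_add_left_apply {β : altM F r} {z : M} (hz : z ∈ S.D ρ ψ β) (u u' : Fin r → F)
    (n : κ → F) : ρ (S.Qv (u + u') n) z =
      ψ (S.Q0 n * pairA β (altE u u')) • ρ (S.Qv u n) (ρ (S.Qv u' n) z) := by
  rw [S.Qv_add_left, map_mul ρ, Module.End.mul_apply, (S.mem_D ρ ψ).1 hz, pairA_smul_right,
    map_smul, map_mul ρ, Module.End.mul_apply]

end Siegel

/-- Dimensions of eigenspaces add up on an invariant subspace. -/
theorem sum_inf_eig {M : Type*} [AddCommGroup M] [Module ℂ M] [FiniteDimensional ℂ M]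
    {A : Type*} [AddCommGroup A] [Fintype A]
    (ρ : Representation ℂ G M) (τ : Multiplicative A →* G) (R : Submodule ℂ M)
    (hR : ∀ a, ∀ z ∈ R, ρ (τ a) z ∈ R) :
    ∑ χ : AddChar A ℂ, finrank ℂ (R ⊓ eigSub ρ τ χ : Submodule ℂ M) = finrank ℂ R := by
  let σ : Representation ℂ (Multiplicative A) R :=
    { toFun := fun y => (ρ (τ y)).restrict (fun z hz => hR y z hz)
      map_one' := by
        apply LinearMap.ext; intro w; apply Subtype.ext
        show ρ (τ 1) w.1 = w.1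
        rw [map_one, map_one, Module.End.one_apply]
      map_mul' := fun g h => by
        apply LinearMap.ext; intro w; apply Subtype.ext
        show ρ (τ (g * h)) w.1 = ρ (τ g) (ρ (τ h) w.1)
        rw [map_mul, map_mul, Module.End.mul_apply] }
  rw [← sum_finrank_eigSub σ (MonoidHom.id _)]
  refine Finset.sum_congr rfl fun χ _ => ?_
  have : eigSub σ (MonoidHom.id _) χ = (R ⊓ eigSub ρ τ χ).comap R.subtype := by
    ext z
    simp only [mem_eigSub, Submodule.mem_comap, Submodule.subtype_apply, Submodule.mem_inf,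
      z.2, true_and, Subtype.ext_iff]
    rfl
  rw [this]
  exact (Submodule.comapSubtypeEquivOfLe inf_le_left).finrank_eq.symm

end Cfsg.Agent.Lib.OrthDeg48
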