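import Cfsg.Agent.Lib.SLDeg48.Start

/-!
Alternating matrices, their pairing, and decomposable elements.
-/

set_option autoImplicit false
set_option linter.unusedSectionVars false

namespace Cfsg.Agent.Lib.OrthDeg48

open Matrix Cfsg.Agent.Lib.SLDeg48

variable {F : Type*} [Field F] {r : ℕ}

/-- Alternating matrices. -/
def altM (F : Type*) [Field F] (r : ℕ) : Submodule F (Matrix (Fin r) (Fin r) F) where
  carrier := {A | (∀ a, A a a = 0) ∧ ∀ a b, A b a = -A a b}
  add_mem' {A B} hA hB := ⟨fun a => by simp [hA.1 a, hB.1 a],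
    fun a b => by simp [hA.2 a b, hB.2 a b]; ring⟩
  zero_mem' := ⟨fun _ => rfl, fun _ _ => by simp⟩
  smul_mem' c A hA := ⟨fun a => by simp [hA.1 a], fun a b => by simp [hA.2 a b]⟩

theorem mem_altM {A : Matrix (Fin r) (Fin r) F} :
    A ∈ altM F r ↔ (∀ a, A a a = 0) ∧ ∀ a b, A b a = -A a b := Iff.rfl

/-- `u vᵀ - v uᵀ`. -/
def alt2 (u v : Fin r → F) : Matrix (Fin r) (Fin r) F := vecMulVec u v - vecMulVec v u

theorem alt2_apply (u v : Fin r → F) (a b : Fin r) : alt2 u v a b = u a * v b - v a * u b := by
  simp [alt2, vecMulVec_apply]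

theorem alt2_mem (u v : Fin r → F) : alt2 u v ∈ altM F r :=
  ⟨fun a => by simp [alt2_apply]; ring, fun a b => by simp [alt2_apply]; ring⟩

/-- `alt2` as an alternating matrix. -/
def altE (u v : Fin r → F) : altM F r := ⟨alt2 u v, alt2_mem u v⟩

theorem altE_coe (u v : Fin r → F) : (altE u v).1 = alt2 u v := rfl

theorem altE_self (u : Fin r → F) : altE u u = 0 := Subtype.ext (by simp [altE, alt2])

theorem altE_swap (u v : Fin r → F) : altE v u = -altE u v :=
  Subtype.ext (by simp [altE, alt2])

theorem altE_add_left (u u' v : Fin r → F) : altE (u + u') v = altE u v + altE u' v :=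
  Subtype.ext (by simp [altE, alt2, add_vecMulVec, vecMulVec_add]; abel)

theorem altE_add_right (u v v' : Fin r → F) : altE u (v + v') = altE u v + altE u v' :=
  Subtype.ext (by simp [altE, alt2, add_vecMulVec, vecMulVec_add]; abel)

theorem altE_smul_left (c : F) (u v : Fin r → F) : altE (c • u) v = c • altE u v :=
  Subtype.ext (by ext a b; simp [altE, alt2_apply]; ring)

theorem altE_smul_right (c : F) (u v : Fin r → F) : altE u (c • v) = c • altE u v :=
  Subtype.ext (by ext a b; simp [altE, alt2_apply]; ring)

/-- Congruence by a matrix. -/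
def congA (g : Matrix (Fin r) (Fin r) F) (A : altM F r) : altM F r :=
  ⟨g * A.1 * gᵀ, by
    have hdot : ∀ x : Fin r → F, x ⬝ᵥ (A.1 *ᵥ x) = 0 := by
      intro x
      simp only [dotProduct, mulVec, Finset.mul_sum]
      rw [← Finset.sum_product']
      refine Finset.sum_involution (fun p _ => (p.2, p.1)) ?_ ?_ (fun _ _ => Finset.mem_univ _)
        (fun _ _ => rfl)
      · intro p _
        rw [A.2.2 p.1 p.2]
        ring
      · intro p _ hp heq
        have : p.1 = p.2 := (congrArg Prod.fst heq).symm
        rw [this, A.2.1] at hp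
        exact hp (by simp)
    have hap : ∀ a b, (g * A.1 * gᵀ) a b = g a ⬝ᵥ (A.1 *ᵥ g b) := fun a b => by
      rw [Matrix.mul_assoc, Matrix.mul_apply]
      rfl
    refine ⟨fun a => by rw [hap]; exact hdot _, fun a b => ?_⟩
    rw [hap, hap]
    have := hdot (g a + g b)
    simp only [mulVec_add, dotProduct_add, add_dotProduct, hdot] at this
    linear_combination this⟩

theorem congA_coe (g : Matrix (Fin r) (Fin r) F) (A : altM F r) :
    (congA g A).1 = g * A.1 * gᵀ := rfl

theorem congA_congA (g h : Matrix (Fin r) (Fin r) F) (A : altM F r) :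
    congA g (congA h A) = congA (g * h) A :=
  Subtype.ext (by simp [congA, transpose_mul, Matrix.mul_assoc])

theorem congA_one (A : altM F r) : congA 1 A = A := Subtype.ext (by simp [congA])

theorem congA_add (g : Matrix (Fin r) (Fin r) F) (A B : altM F r) :
    congA g (A + B) = congA g A + congA g B :=
  Subtype.ext (by simp [congA, mul_add, add_mul])

theorem congA_altE (g : Matrix (Fin r) (Fin r) F) (u v : Fin r → F) :
    congA g (altE u v) = altE (g *ᵥ u) (g *ᵥ v) := by
  apply Subtype.ext
  show g * alt2 u v * gᵀ = alt2 (g *ᵥ u) (g *ᵥ v)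
  simp [alt2, mul_sub, sub_mul, mul_vecMulVec, vecMulVec_mul, vecMul_transpose]

/-- The pairing of alternating matrices. -/
def pairA (β A : altM F r) : F := ∑ a, ∑ b, if a < b then β.1 a b * A.1 a b else 0

theorem pairA_add_right (β A B : altM F r) : pairA β (A + B) = pairA β A + pairA β B := by
  simp only [pairA, ← Finset.sum_add_distrib]
  refine Finset.sum_congr rfl fun a _ => Finset.sum_congr rfl fun b _ => ?_
  split_ifs <;> simp [mul_add]

theorem pairA_add_left (β γ A : altM F r) : pairA (β + γ) A = pairA β A + pairA γ A := by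
  simp only [pairA, ← Finset.sum_add_distrib]
  refine Finset.sum_congr rfl fun a _ => Finset.sum_congr rfl fun b _ => ?_
  split_ifs <;> simp [add_mul]

theorem pairA_smul_left (c : F) (β A : altM F r) : pairA (c • β) A = c * pairA β A := by
  simp only [pairA, Finset.mul_sum]
  refine Finset.sum_congr rfl fun a _ => Finset.sum_congr rfl fun b _ => ?_
  split_ifs <;> simp [mul_assoc]

theorem pairA_smul_right (c : F) (β A : altM F r) : pairA β (c • A) = c * pairA β A := by
  simp only [pairA, Finset.mul_sum]
  refine Finset.sum_congr rfl fun a _ => Finset.sum_congr rfl fun b _ => ?_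
  split_ifs <;> simp [mul_left_comm]

theorem pairA_comm (β A : altM F r) : pairA β A = pairA A β := by
  simp only [pairA, mul_comm]

theorem pairA_altE_left (u v : Fin r → F) (A : altM F r) :
    pairA (altE u v) A = u ⬝ᵥ (A.1 *ᵥ v) := by
  have h : ∀ a b, u a * A.1 a b * v b =
      (if a < b then u a * A.1 a b * v b else 0) + (if b < a then u a * A.1 a b * v b else 0) := by
    intro a b
    rcases lt_trichotomy a b with h | h | h
    · rw [if_pos h, if_neg h.not_gt, add_zero]
    · subst h; simp [A.2.1]
    · rw [if_neg h.not_gt, if_pos h, zero_add]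
  simp only [dotProduct, mulVec, Finset.mul_sum, ← mul_assoc]
  rw [Finset.sum_congr rfl fun a _ => Finset.sum_congr rfl fun b _ => h a b]
  simp only [Finset.sum_add_distrib]
  rw [Finset.sum_comm (f := fun a b => if b < a then u a * A.1 a b * v b else 0)]
  rw [pairA, ← Finset.sum_add_distrib]
  refine Finset.sum_congr rfl fun a _ => ?_
  rw [← Finset.sum_add_distrib]
  refine Finset.sum_congr rfl fun b _ => ?_
  rw [altE_coe, alt2_apply, A.2.2 a b]
  split_ifs <;> ring

theorem pairA_single (β : altM F r) (a b : Fin r) :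
    pairA β (altE (Pi.single a 1) (Pi.single b 1)) = β.1 a b := by
  rw [pairA_comm, pairA_altE_left, mulVec_single_one, single_dotProduct, one_mul, Matrix.col_apply]

theorem eq_of_pairA {β γ : altM F r} (h : ∀ A, pairA β A = pairA γ A) : β = γ :=
  Subtype.ext (Matrix.ext fun a b => by rw [← pairA_single β, h, pairA_single])

theorem pairA_congA_altE {g h : Matrix (Fin r) (Fin r) F} (hgh : hᵀ * g = 1) (u v : Fin r → F)
    (A : altM F r) : pairA (altE (h *ᵥ u) (h *ᵥ v)) (congA g A) = pairA (altE u v) A := by
  have hgh' : gᵀ * h = 1 := by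
    have := congrArg Matrix.transpose hgh
    simpa [transpose_mul] using this
  rw [pairA_altE_left, pairA_altE_left, congA_coe, mulVec_mulVec, dotProduct_mulVec,
    dotProduct_mulVec]
  congr 1
  rw [← vecMul_transpose, vecMul_vecMul, show hᵀ * (g * A.1 * gᵀ * h) = A.1 by
    rw [Matrix.mul_assoc (g * A.1), hgh', Matrix.mul_one, ← Matrix.mul_assoc, hgh, Matrix.one_mul]]

theorem pairA_congA {g h : Matrix (Fin r) (Fin r) F} (hgh : hᵀ * g = 1) (β A : altM F r) :
    pairA (congA h β) (congA g A) = pairA β A := by
  have hgh' : gᵀ * h = 1 := by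
    have := congrArg Matrix.transpose hgh
    simpa [transpose_mul] using this
  -- both sides are linear in `A`, and agree on the generators
  have hA : A = ∑ a, ∑ b, (if a < b then A.1 a b else 0) •
      altE (Pi.single a (1 : F)) (Pi.single b 1) := by
    apply Subtype.ext
    ext x y
    simp only [Submodule.coe_sum, Submodule.coe_smul, Matrix.sum_apply, Matrix.smul_apply,
      altE_coe, alt2_apply, Pi.single_apply, smul_eq_mul]
    simp only [mul_sub, Finset.sum_sub_distrib, ite_mul, mul_ite, one_mul, mul_one, zero_mul,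
      mul_zero, Finset.sum_ite_eq, Finset.sum_ite_irrel, Finset.sum_const_zero, Finset.mem_univ,
      if_true]
    rcases lt_trichotomy x y with h | h | h
    · simp [h, h.not_gt]
    · subst h; simp [A.2.1]
    · simp [h, h.not_gt, A.2.2 y x]
  have hlin : ∀ (γ : altM F r) (c : Fin r → Fin r → F) (X : Fin r → Fin r → altM F r),
      pairA γ (∑ a, ∑ b, c a b • X a b) = ∑ a, ∑ b, c a b * pairA γ (X a b) := by
    intro γ c X
    let φ : altM F r →ₗ[F] F :=
      { toFun := pairA γ, map_add' := pairA_add_right γ,
        map_smul' := fun c A => pairA_smul_right c γ A }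
    show φ _ = _
    simp [map_sum, φ, pairA_smul_right]
  have hcong : congA g A = ∑ a, ∑ b, (if a < b then A.1 a b else 0) •
      congA g (altE (Pi.single a (1 : F)) (Pi.single b 1)) := by
    let φ : altM F r →ₗ[F] altM F r :=
      { toFun := congA g, map_add' := congA_add g,
        map_smul' := fun c B => Subtype.ext (by simp [congA]) }
    conv_lhs => rw [hA]
    show φ _ = _
    simp only [map_sum, map_smul]
    rfl
  rw [hcong, hlin]
  conv_rhs => rw [hA, hlin]
  refine Finset.sum_congr rfl fun a _ => Finset.sum_congr rfl fun b _ => ?_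
  congr 1
  rw [congA_altE, pairA_comm, pairA_congA_altE hgh', pairA_comm]

section Fintype

variable [Fintype F]

/-- Finiteness of alternating matrices. -/
noncomputable instance altFintype : Fintype (altM F r) := Fintype.ofFinite _

/-- The character of the alternating matrices attached to `β`. -/
def chA (ψ : AddChar F ℂ) (β : altM F r) : AddChar (altM F r) ℂ :=
  ψ.compAddMonoidHom (AddMonoidHom.mk' (pairA β) (pairA_add_right β))

theorem chA_apply (ψ : AddChar F ℂ) (β A : altM F r) : chA ψ β A = ψ (pairA β A) := rfl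

theorem chA_zero (ψ : AddChar F ℂ) : chA (r := r) ψ 0 = 1 := by
  ext A
  simp [chA_apply, pairA]

theorem chA_injective {ψ : AddChar F ℂ} (hψ : ψ.IsPrimitive) :
    Function.Injective (chA (r := r) ψ) := by
  intro β γ h
  refine eq_of_pairA fun A => ?_
  have h1 : ψ.mulShift (pairA β A) = ψ.mulShift (pairA γ A) := by
    ext c
    have := DFunLike.congr_fun h (c • A)
    rw [chA_apply, chA_apply, pairA_smul_right, pairA_smul_right] at this
    rwa [AddChar.mulShift_apply, AddChar.mulShift_apply, mul_comm, mul_comm (pairA γ A)]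
  exact AddChar.to_mulShift_inj_of_isPrimitive hψ h1

theorem chA_bijective {ψ : AddChar F ℂ} (hψ : ψ.IsPrimitive) :
    Function.Bijective (chA (r := r) ψ) := by
  rw [Fintype.bijective_iff_injective_and_card]
  exact ⟨chA_injective hψ, AddChar.card_eq.symm⟩

end Fintype

/-- Decomposable alternating matrices. -/
def Dec (β : altM F r) : Prop := ∃ u v, β = altE u v

/-- A decomposable matrix with non-zero row at `k` in normal form. -/
theorem dec_normal_form {β : altM F r} (hβ : Dec β) {k : Fin r}
    (hlow : ∀ a : Fin r, a < k → ∀ b, β.1 a b = 0) (hk : ∃ b, β.1 k b ≠ 0) :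
    ∃ (ρ t : Fin r → F), ρ = β.1 k ∧ t ∈ tail F r k.val ∧ ρ ∈ tail F r k.val ∧
      β = altE (Pi.single k 1) ρ + altE ρ t := by
  obtain ⟨u, v, rfl⟩ := hβ
  obtain ⟨b, hb⟩ := hk
  set ρ : Fin r → F := (altE u v).1 k with hρ
  have hρt : ρ ∈ tail F r k.val := by
    intro j hj
    rcases lt_or_eq_of_le (show j ≤ k from hj) with h | h
    · rw [hρ, (altE u v).2.2 j k, hlow j h, neg_zero]
    · rw [hρ, h]
      exact (altE u v).2.1 k
  -- reduce to a non-zero `k`-coordinate of the first vector
  obtain ⟨u', v', he, hu'⟩ : ∃ u' v', altE u v = altE u' v' ∧ u' k ≠ 0 := by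
    by_cases hu : u k = 0
    · refine ⟨-v, u, ?_, ?_⟩
      · apply Subtype.ext
        ext a b
        simp [altE, alt2_apply]
        ring
      · intro hv
        have hv' : v k = 0 := by simpa using hv
        exact hb (by simp [hρ, altE, alt2_apply, hu, hv'])
    · exact ⟨u, v, rfl, hu⟩
  have hρ' : ρ = fun b => u' k * v' b - v' k * u' b := by
    funext b; rw [hρ, he, altE_coe, alt2_apply]
  refine ⟨ρ, fun j => if j.val ≤ k.val then 0 else -(u' j / u' k), rfl,
    fun j hj => if_pos hj, hρt, ?_⟩
  apply Subtype.ext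
  ext a b
  rw [he, Submodule.coe_add, Matrix.add_apply, altE_coe, altE_coe, altE_coe, alt2_apply,
    alt2_apply, alt2_apply]
  have hb0 : ∀ j, j.val ≤ k.val → u' k * v' j - v' k * u' j = 0 := fun j hj => by
    have := hρt j hj
    rwa [hρ'] at this
  simp only [hρ', Pi.single_apply]
  by_cases ha : a.val ≤ k.val <;> by_cases hb' : b.val ≤ k.val
  all_goals simp only [ha, hb', if_true, if_false]
  · have h1 := hb0 a ha
    have h2 := hb0 b hb'
    have h3 : u' k * (u' a * v' b - v' a * u' b) = 0 := by
      linear_combination u' a * h2 - u' b * h1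
    rw [(mul_eq_zero.1 h3).resolve_left hu', h1, h2]
    ring
  · have h1 := hb0 a ha
    rw [h1]
    by_cases hak : a = k
    · subst hak; simp [show b ≠ a from fun e => hb' (by rw [e])]
    · have h2 : (altE u v).1 a b = 0 := hlow a (lt_of_le_of_ne ha hak) b
      rw [he, altE_coe, alt2_apply] at h2
      rw [h2, if_neg hak, if_neg (show b ≠ k from fun e => hb' (by rw [e]))]
      field_simp
      ring
  · have h1 := hb0 b hb'
    rw [h1]
    by_cases hbk : b = k
    · subst hbk; simp [show a ≠ b from fun e => ha (by rw [e])]; ring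
    · have h2 : (altE u v).1 a b = 0 := by
        rw [(altE u v).2.2 b a, hlow b (lt_of_le_of_ne hb' hbk), neg_zero]
      rw [he, altE_coe, alt2_apply] at h2
      rw [h2, if_neg hbk, if_neg (show a ≠ k from fun e => ha (by rw [e]))]
      field_simp
      ring
  · rw [if_neg (show a ≠ k from fun e => ha (by rw [e])),
      if_neg (show b ≠ k from fun e => hb' (by rw [e]))]
    field_simp
    ring

end Cfsg.Agent.Lib.OrthDeg48
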