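import Cfsg.Agent.Lib.OrthDeg48.Levi
import Cfsg.Agent.Lib.SLDeg48.Main

/-!
The stabiliser blocks of a marked eigenspace of the centre.
-/

set_option autoImplicit false
set_option linter.unusedSectionVars false

namespace Cfsg.Agent.Lib.OrthDeg48

open Matrix Module Cfsg.Agent.Lib.SLDeg48 Cfsg.Agent.Lib.UniDeg48

variable {F : Type*} [Field F] {r : ℕ}

theorem invT_transvection {a b : Fin r} (hab : a ≠ b) (t : F) :
    invT r F (SpecialLinearGroup.transvection hab t) =
      SpecialLinearGroup.transvection hab.symm (-t) := by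
  show SpecialLinearGroup.transpose (SpecialLinearGroup.transvection hab t)⁻¹ = _
  rw [SpecialLinearGroup.transvection_inv]
  apply Subtype.ext
  show (SpecialLinearGroup.transvection hab (-t)).1ᵀ = _
  rw [SpecialLinearGroup.transvection_coe, SpecialLinearGroup.transvection_coe]
  ext x y
  simp only [transpose_apply, Matrix.add_apply, Matrix.one_apply, single_apply]
  grind

theorem transvection_mulVec {a b : Fin r} (hab : a ≠ b) (t : F) (v : Fin r → F) :
    (SpecialLinearGroup.transvection hab t).1 *ᵥ v = v + Pi.single a (t * v b) := by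
  rw [SpecialLinearGroup.transvection_coe, add_mulVec, one_mulVec, single_mulVec]
  funext x
  simp [Pi.single_apply, Function.update_apply]

/-- The position types of the blocks. -/
def BlockPair (i j a b : Fin r) : Prop :=
  (a ≠ i ∧ a ≠ j ∧ b ≠ i ∧ b ≠ j) ∨ (a = i ∧ b = j) ∨ (a = j ∧ b = i)

theorem BlockPair.symm {i j a b : Fin r} (h : BlockPair i j a b) : BlockPair i j b a := by
  rcases h with ⟨h1, h2, h3, h4⟩ | ⟨h1, h2⟩ | ⟨h1, h2⟩
  · exact Or.inl ⟨h3, h4, h1, h2⟩
  · exact Or.inr (Or.inr ⟨h2, h1⟩)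
  · exact Or.inr (Or.inl ⟨h2, h1⟩)

theorem congA_transvection {i j a b : Fin r} (hij : i ≠ j) (hab : a ≠ b) (h : BlockPair i j a b)
    (t : F) :
    congA (SpecialLinearGroup.transvection hab t).1 (altE (Pi.single i 1) (Pi.single j 1)) =
      altE (Pi.single i (1 : F)) (Pi.single j 1) := by
  rw [congA_altE, transvection_mulVec, transvection_mulVec]
  rcases h with ⟨-, -, h1, h2⟩ | ⟨rfl, rfl⟩ | ⟨rfl, rfl⟩
  · simp [h1, h2]
  · have e : (Pi.single a t : Fin r → F) = t • Pi.single a 1 := by
      rw [← Pi.single_smul', smul_eq_mul, mul_one]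
    simp [hij.symm, e, altE_add_right, altE_smul_right, altE_self]
  · have e : (Pi.single a t : Fin r → F) = t • Pi.single a 1 := by
      rw [← Pi.single_smul', smul_eq_mul, mul_one]
    simp [hij.symm, e, altE_add_left, altE_smul_left, altE_self]

theorem diagE_hT_eq {i j : Fin r} (hij : i ≠ j) (u : Fˣ) :
    diagE F r (hT i j hij u) = SpecialLinearGroup.diag2n hij (u : F) u.ne_zero := by
  apply Subtype.ext
  rw [diagE_coe, SpecialLinearGroup.diag2n_coe]
  congr 1
  funext x
  rw [hT_apply]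
  by_cases hx : x = i
  · subst hx; simp [hij]
  · by_cases hx' : x = j
    · subst hx'; simp [hij.symm]
    · simp [hx, hx']

theorem diagE_hT_transvection {i j : Fin r} (hij : i ≠ j) (u : Fˣ) (t : F) :
    diagE F r (hT i j hij u) * SpecialLinearGroup.transvection hij t =
      SpecialLinearGroup.transvection hij ((u : F) ^ 2 * t) * diagE F r (hT i j hij u) := by
  refine diag_transvection hij (d := fun x => ((hT i j hij u).1 x : F)) (diagE_coe _) ?_ t
  simp only [hT_apply]
  simp [hij]
  field_simp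

/-- Additive scalars invariant under a square are trivial. -/
theorem trivial_of_sq (φ : F → ℂ) (h0 : φ 0 = 1) (hadd : ∀ s t, φ (s + t) = φ s * φ t) {u : F}
    (hu : u ^ 2 ≠ 1) (h : ∀ t, φ (u ^ 2 * t) = φ t) (t : F) : φ t = 1 := by
  have hne : u ^ 2 - 1 ≠ 0 := sub_ne_zero.2 hu
  have e : t = u ^ 2 * (t / (u ^ 2 - 1)) + -(t / (u ^ 2 - 1)) := by field_simp; ring
  rw [e, hadd, h, ← hadd, add_neg_cancel, h0]

variable [Fintype F] {κ : Type*} [Fintype κ] {G : Type*} [Group G] (S : Siegel F r κ G)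
variable {M : Type*} [AddCommGroup M] [Module ℂ M] [FiniteDimensional ℂ M]
variable (ρ : Representation ℂ G M) {ψ : AddChar F ℂ}

namespace Siegel

theorem map_D_block {i j a b : Fin r} (hij : i ≠ j) (hab : a ≠ b) (h : BlockPair i j a b) (t c : F)
    {z : M} (hz : z ∈ S.D ρ ψ (c • altE (Pi.single i 1) (Pi.single j 1))) :
    ρ (S.L (SpecialLinearGroup.transvection hab t)) z ∈
      S.D ρ ψ (c • altE (Pi.single i 1) (Pi.single j 1)) := by
  have h' := S.map_D_L ρ ψ (invT r F (SpecialLinearGroup.transvection hab t)) hz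
  rwa [invT_invT, invT_transvection, congA_smul, congA_transvection hij hab.symm h.symm] at h'

theorem map_D_block_diag {i j a b : Fin r} (hij : i ≠ j) (hab : a ≠ b) (h : BlockPair i j a b)
    (u : Fˣ) (c : F) {z : M} (hz : z ∈ S.D ρ ψ (c • altE (Pi.single i 1) (Pi.single j 1))) :
    ρ (S.L (diagE F r (hT a b hab u))) z ∈
      S.D ρ ψ (c • altE (Pi.single i 1) (Pi.single j 1)) := by
  rw [diagE_hT_eq, AutPSL.diag2n_eq_prod_transvection hab _ u.ne_zero]
  simp only [map_mul, Module.End.mul_apply]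
  exact S.map_D_block ρ hij hab h _ c (S.map_D_block ρ hij hab.symm h.symm _ c (S.map_D_block ρ hij
    hab h _ c (S.map_D_block ρ hij hab h _ c (S.map_D_block ρ hij hab.symm h.symm _ c
      (S.map_D_block ρ hij hab h _ c hz)))))

theorem L_transvection_add {a b : Fin r} (hab : a ≠ b) (s t : F) :
    S.L (SpecialLinearGroup.transvection hab (s + t)) =
      S.L (SpecialLinearGroup.transvection hab s) * S.L (SpecialLinearGroup.transvection hab t) := by
  rw [← map_mul, SpecialLinearGroup.transvection_add]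

/-- A block root subgroup acting by scalars acts trivially. -/
theorem fix_of_scalar {i j a b : Fin r} (hij : i ≠ j) (hab : a ≠ b) (h : BlockPair i j a b)
    {c : F} {u : Fˣ} (hu : (u : F) ^ 2 ≠ 1)
    (hsc : ∀ t, ∃ φ : ℂ, ∀ z ∈ S.D ρ ψ (c • altE (Pi.single i 1) (Pi.single j 1)),
      ρ (S.L (SpecialLinearGroup.transvection hab t)) z = φ • z) :
    ∀ t, ∀ z ∈ S.D ρ ψ (c • altE (Pi.single i 1) (Pi.single j 1)),
      ρ (S.L (SpecialLinearGroup.transvection hab t)) z = z := by
  intro t z hz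
  by_cases hz0 : z = 0
  · rw [hz0, map_zero]
  choose φ hφ using hsc
  have hinj : ∀ {p q : ℂ}, p • z = q • z → p = q := fun h => smul_left_injective ℂ hz0 h
  have h0 : φ 0 = 1 := hinj (by
    rw [← hφ 0 z hz, one_smul, SpecialLinearGroup.transvection_coeff_zero, map_one, map_one,
      Module.End.one_apply])
  have hadd : ∀ s s', φ (s + s') = φ s * φ s' := fun s s' => hinj (by
    rw [← hφ _ z hz, S.L_transvection_add, map_mul, Module.End.mul_apply, hφ _ z hz, map_smul,
      hφ _ z hz, smul_smul, mul_comm])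
  have hsq : ∀ s, φ ((u : F) ^ 2 * s) = φ s := by
    intro s
    have hd := S.map_D_block_diag ρ hij hab h u c hz
    have e : ρ (S.L (SpecialLinearGroup.transvection hab ((u : F) ^ 2 * s)))
        (ρ (S.L (diagE F r (hT a b hab u))) z) = φ s • ρ (S.L (diagE F r (hT a b hab u))) z := by
      rw [← Module.End.mul_apply, ← map_mul, ← map_mul, ← diagE_hT_transvection, map_mul, map_mul,
        Module.End.mul_apply, hφ s z hz, map_smul]
    rw [hφ _ _ hd] at e
    exact smul_left_injective ℂ (fun e' => hz0 (ρ_inj ρ _ (e'.trans (map_zero _).symm))) e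
  rw [hφ t z hz, trivial_of_sq φ h0 hadd hu hsq, one_smul]

variable (hψ : ψ.IsPrimitive)
  (hone : ∀ (β : altM F r), β ≠ 0 → Dec β →
    finrank ℂ (S.D ρ ψ β) = Fintype.card F ^ Fintype.card κ)

include hψ hone in
/-- The blocks away from the marked pair fix the eigenspace. -/
theorem fix_away {i j a b : Fin r} (hij : i ≠ j) (hab : a ≠ b)
    (hai : a ≠ i) (haj : a ≠ j) (hbi : b ≠ i) (hbj : b ≠ j)
    {c : F} (hc : c ≠ 0) {u : Fˣ} (hu : (u : F) ^ 2 ≠ 1) :
    ∀ t, ∀ z ∈ S.D ρ ψ (c • altE (Pi.single i 1) (Pi.single j 1)),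
      ρ (S.L (SpecialLinearGroup.transvection hab t)) z = z := by
  set β := c • altE (Pi.single i (1 : F)) (Pi.single j 1) with hβ
  have hij' : β.1 i j = c := by simp [hβ, altE_coe, alt2_apply, hij, hij.symm]
  have hβ0 : β ≠ 0 := fun h => hc (by rw [← hij', h]; rfl)
  have hdec : Dec β := ⟨c • Pi.single i 1, Pi.single j 1, by rw [hβ, altE_smul_left]⟩
  have hp : pairA β (altE (Pi.single j 1) (Pi.single i 1)) ≠ 0 := by
    rw [pairA_single, β.2.2, hij', neg_ne_zero]; exact hc
  refine S.fix_of_scalar ρ hij hab (Or.inl ⟨hai, haj, hbi, hbj⟩) hu fun t => ?_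
  refine S.exists_scalar ρ hψ hp (S.finrank_Fix_eq_one ρ hψ hone hβ0 hdec hp) _
    (fun z hz => S.map_D_block ρ hij hab (Or.inl ⟨hai, haj, hbi, hbj⟩) t c hz) ?_ ?_
  all_goals
    intro n z _
    rw [← Module.End.mul_apply, ← map_mul, S.L_Qv, transvection_mulVec, map_mul,
      Module.End.mul_apply]
    simp [hbi, hbj]

end Siegel

end Cfsg.Agent.Lib.OrthDeg48
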