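import Cfsg.Agent.Lib.OrthDeg48.Normal

/-!
Counting decomposable matrices and orbits, and the resulting dimension bounds.
-/

set_option autoImplicit false
set_option linter.unusedSectionVars false

namespace Cfsg.Agent.Lib.OrthDeg48

open Matrix Module Cfsg.Agent.Lib.SLDeg48 Cfsg.Agent.Lib.UniDeg48

variable {F : Type*} [Field F] {r : ℕ}

open Classical in
/-- A coordinate where `x` is non-zero. -/
noncomputable def piv (k : Fin r) (x : Fin r → F) : Fin r :=
  if h : ∃ j, x j ≠ 0 then h.choose else k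

theorem piv_ne (k : Fin r) {x : Fin r → F} (hx : x ≠ 0) : x (piv k x) ≠ 0 := by
  have h : ∃ j, x j ≠ 0 := Function.ne_iff.1 hx
  rw [piv, dif_pos h]
  exact h.choose_spec

theorem piv_lt {k : Fin r} {x : tail F r k.val} (hx : x ≠ 0) : k.val < (piv k x.1).val := by
  by_contra hcon
  exact piv_ne k (fun e => hx (Subtype.ext e)) (x.2 _ (by omega))

/-- Pairs parametrising decomposable matrices. -/
abbrev Pts (F : Type*) [Field F] {r : ℕ} (k : Fin r) :=
  Σ x : {x : tail F r k.val // x ≠ 0}, {w : tail F r k.val // w.1 (piv k x.1.1) = 0}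

variable [Fintype F]

noncomputable instance ptsFintype (k : Fin r) : Fintype (Pts F k) := Fintype.ofFinite _

theorem card_Pts (k : Fin r) :
    Fintype.card (Pts F k) =
      (Fintype.card F ^ (r - k.val - 1) - 1) * Fintype.card F ^ (r - k.val - 2) := by
  classical
  rw [@Fintype.card_congr _ _ (ptsFintype k) Sigma.instFintype (Equiv.refl _), Fintype.card_sigma]
  have hx : ∀ x : {x : tail F r k.val // x ≠ 0},
      Fintype.card {w : tail F r k.val // w.1 (piv k x.1.1) = 0} =
        Fintype.card F ^ (r - k.val - 2) := by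
    intro x
    set p := piv k x.1.1
    have hp : k.val < p.val := piv_lt x.2
    let e : tail F r k.val ≃ {w : tail F r k.val // w.1 p = 0} × F :=
      { toFun := fun w => (⟨w - ⟨Pi.single p (w.1 p), single_mem_tail hp _⟩, by simp⟩, w.1 p)
        invFun := fun wc => wc.1.1 + ⟨Pi.single p wc.2, single_mem_tail hp _⟩
        left_inv := fun w => sub_add_cancel _ _
        right_inv := fun wc => by
          obtain ⟨⟨w, hw⟩, c⟩ := wc
          have h1 : (w + ⟨Pi.single p c, single_mem_tail hp _⟩ : tail F r k.val).1 p = c := by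
            simp [hw]
          refine Prod.ext (Subtype.ext (Subtype.ext ?_)) h1
          show (w.1 + Pi.single p c) - Pi.single p ((w.1 + Pi.single p c : Fin r → F) p) = w.1
          rw [Pi.add_apply, hw, zero_add, Pi.single_eq_same, add_sub_cancel_right] }
    have h := Fintype.card_congr e
    rw [Fintype.card_prod, card_tail] at h
    have hlt := p.isLt
    rw [show r - k.val - 1 = r - k.val - 2 + 1 by omega, pow_succ] at h
    exact (Nat.eq_of_mul_eq_mul_right Fintype.card_pos h).symm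
  rw [Finset.sum_congr rfl (fun x _ => hx x), Finset.sum_const, Finset.card_univ, smul_eq_mul,
    Fintype.card_subtype_compl, Fintype.card_subtype_eq, card_tail]

/-- The number of non-zero decomposable matrices. -/
def numDec (q r : ℕ) : ℕ := ∑ i ∈ Finset.range r, (q ^ (r - i - 1) - 1) * q ^ (r - i - 2)

theorem numDec_mul (q : ℕ) (hq : 1 ≤ q) :
    ∀ r, 1 ≤ r → numDec q r * (q ^ 2 - 1) = (q ^ r - 1) * (q ^ (r - 1) - 1) := by
  intro r hr
  induction r, hr using Nat.le_induction with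
  | base => simp [numDec]
  | succ r hr ih =>
    have hsum : numDec q (r + 1) = (q ^ r - 1) * q ^ (r - 1) + numDec q r := by
      rw [numDec, Finset.sum_range_succ', add_comm]
      congr 1
      refine Finset.sum_congr rfl fun i _ => ?_
      rw [show r + 1 - (i + 1) - 1 = r - i - 1 by omega, show r + 1 - (i + 1) - 2 = r - i - 2 by omega]
    rw [hsum, add_mul, ih]
    obtain ⟨s, rfl⟩ : ∃ s, r = s + 1 := ⟨r - 1, by omega⟩
    simp only [Nat.add_sub_cancel]
    zify [Nat.one_le_pow _ _ hq]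
    ring

theorem card_sigma_Pts :
    Fintype.card (Σ k : Fin r, Pts F k) = numDec (Fintype.card F) r := by
  rw [Fintype.card_sigma, numDec, ← Fin.sum_univ_eq_sum_range]
  exact Finset.sum_congr rfl fun k _ => card_Pts k

/-- The decomposable matrix of a parameter. -/
def decOf (p : Σ k : Fin r, Pts F k) : altM F r :=
  altE (Pi.single p.1 1 - p.2.2.1.1) p.2.1.1.1

theorem decOf_row (p : Σ k : Fin r, Pts F k) : (decOf p).1 p.1 = p.2.1.1.1 := by
  obtain ⟨k, x, w⟩ := p
  funext b
  simp [decOf, altE_coe, alt2_apply, x.1.2 k le_rfl, w.1.2 k le_rfl]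

theorem decOf_low (p : Σ k : Fin r, Pts F k) {a : Fin r} (ha : a.val < p.1.val) :
    (decOf p).1 a = 0 := by
  obtain ⟨k, x, w⟩ := p
  funext b
  have : a ≠ k := fun e => by rw [e] at ha; exact lt_irrefl _ ha
  simp [decOf, altE_coe, alt2_apply, this, x.1.2 a (le_of_lt ha), w.1.2 a (le_of_lt ha)]

theorem decOf_ne_zero (p : Σ k : Fin r, Pts F k) : decOf p ≠ 0 := by
  intro h
  have h1 := decOf_row p
  rw [h] at h1
  exact p.2.1.2 (Subtype.ext h1.symm)

theorem decOf_injective : Function.Injective (decOf (F := F) (r := r)) := by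
  intro p p' h
  have hk : p.1 = p'.1 := by
    by_contra hne
    rcases lt_or_gt_of_ne (fun e => hne (Fin.ext e) : p.1.val ≠ p'.1.val) with hlt | hlt
    · have h1 := decOf_low p' hlt
      rw [← h, decOf_row] at h1
      exact p.2.1.2 (Subtype.ext h1)
    · have h1 := decOf_low p hlt
      rw [h, decOf_row] at h1
      exact p'.2.1.2 (Subtype.ext h1)
  obtain ⟨k, x, w⟩ := p
  obtain ⟨k', x', w'⟩ := p'
  obtain rfl : k = k' := hk
  have hx : x = x' := by
    have h1 := decOf_row ⟨k, x, w⟩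
    have h2 := decOf_row ⟨k, x', w'⟩
    rw [h] at h1
    exact Subtype.ext (Subtype.ext (h1.symm.trans h2))
  subst hx
  have hp : k.val < (piv k x.1.1).val := piv_lt x.2
  have hne : piv k x.1.1 ≠ k := fun e => by rw [e] at hp; exact lt_irrefl _ hp
  have hp0 := piv_ne k (fun e => x.2 (Subtype.ext e) : x.1.1 ≠ 0)
  have hw : w = w' := by
    apply Subtype.ext; apply Subtype.ext; funext b
    have h1 := congrArg (fun A : altM F r => A.1 (piv k x.1.1) b) h
    simp [decOf, altE_coe, alt2_apply, hne, w.2, w'.2] at h1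
    rcases h1 with h1 | h1
    · exact h1
    · exact absurd h1 hp0
  subst hw
  rfl

theorem dec_decOf (p : Σ k : Fin r, Pts F k) : Dec (decOf p) := ⟨_, _, rfl⟩

/-- The orbit parameters give distinct translates. -/
theorem orbit_exists (hr : 3 ≤ r) {β : altM F r} (hβ : β ≠ 0) :
    ∃ Φ : Pts F (⟨0, by omega⟩ : Fin r) → altM F r, Function.Injective Φ ∧
      ∀ p, ∃ h : SL' r F, Φ p = congA h.1 β := by
  classical
  set k : Fin r := ⟨0, by omega⟩ with hk
  obtain ⟨h1, -, hne⟩ := exists_row_ne (k := k) hβ (fun a ha => absurd ha (Nat.not_lt_zero _))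
  set β1 := congA h1.1 β
  have ht : β1.1 k ∈ tail F r 0 := fun j hj => by
    rw [show j = k from Fin.ext (Nat.le_zero.1 hj)]
    exact β1.2.1 k
  choose g hg1 hg2 using fun x : {x : tail F r k.val // x ≠ 0} =>
    blk_one_transitive (F := F) hr ht hne x.1.2 (fun e => x.2 (Subtype.ext e))
  have hdot : ∀ w : tail F r k.val, (Pi.single k 1 : Fin r → F) ⬝ᵥ w.1 = 0 := fun w => by
    rw [single_dotProduct, one_mul, w.2 k le_rfl]
  have hrow : ∀ x, (congA (g x).1 β1).1 k = x.1.1 := fun x => by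
    rw [congA_row_blk (hg1 x) β1 (show k.val < 1 by simp [hk]), hg2]
  refine ⟨fun p => congA (rk1 p.2.1.1 (Pi.single k 1) (hdot p.2.1)).1 (congA (g p.1).1 β1),
    ?_, fun p => ⟨rk1 p.2.1.1 (Pi.single k 1) (hdot p.2.1) * (g p.1 * h1), by
      rw [congA_mul, congA_mul]⟩⟩
  rintro ⟨x, w⟩ ⟨x', w'⟩ h
  simp only [congA_rk1, hrow] at h
  have hx : x = x' := by
    apply Subtype.ext; apply Subtype.ext; funext b
    have h1 := congrArg (fun A : altM F r => A.1 k b) h
    simpa [altE_coe, alt2_apply, hrow, w.1.2 k le_rfl, w'.1.2 k le_rfl, x.1.2 k le_rfl,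
      x'.1.2 k le_rfl] using h1
  subst hx
  have hp0 := piv_ne k (fun e => x.2 (Subtype.ext e) : x.1.1 ≠ 0)
  have hw : w = w' := by
    apply Subtype.ext; apply Subtype.ext; funext b
    have h1 := congrArg (fun A : altM F r => A.1 b (piv k x.1.1)) h
    simpa [altE_coe, alt2_apply, w.2, w'.2, hp0] using h1
  subst hw
  rfl

variable {κ : Type*} [Fintype κ] {G : Type*} [Group G] (S : Siegel F r κ G)
variable {M : Type*} [AddCommGroup M] [Module ℂ M] [FiniteDimensional ℂ M]
variable (ρ : Representation ℂ G M)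

theorem sum_D {ψ : AddChar F ℂ} (hψ : ψ.IsPrimitive) :
    ∑ β : altM F r, finrank ℂ (S.D ρ ψ β) = finrank ℂ M := by
  rw [← sum_finrank_eigSub ρ S.zhHom]
  exact (chA_bijective hψ).sum_comp (fun χ => finrank ℂ (eigSub ρ S.zhHom χ))

/-- An injective family of non-zero matrices gives a lower bound. -/
theorem add_card_mul_le_D {ψ : AddChar F ℂ} (hψ : ψ.IsPrimitive) {ι : Type*} [Fintype ι]
    (f : ι → altM F r) (hf : Function.Injective f) (h0 : ∀ i, f i ≠ 0) {d : ℕ}
    (hd : ∀ i, d ≤ finrank ℂ (S.D ρ ψ (f i))) :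
    finrank ℂ (S.D ρ ψ 0) + Fintype.card ι * d ≤ finrank ℂ M := by
  classical
  rw [← sum_D S ρ hψ, ← Finset.add_sum_erase _ _ (Finset.mem_univ (0 : altM F r))]
  refine Nat.add_le_add_left ?_ _
  calc Fintype.card ι * d = ∑ _i : ι, d := by simp
    _ ≤ ∑ i, finrank ℂ (S.D ρ ψ (f i)) := Finset.sum_le_sum fun i _ => hd i
    _ = ∑ β ∈ Finset.univ.image f, finrank ℂ (S.D ρ ψ β) := by
        rw [Finset.sum_image (hf.injOn)]
    _ ≤ _ := Finset.sum_le_sum_of_subset (fun β hβ => by
        obtain ⟨i, -, rfl⟩ := Finset.mem_image.1 hβ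
        exact Finset.mem_erase.2 ⟨h0 i, Finset.mem_univ _⟩)

/-- A non-decomposable matrix with non-zero eigenspace gives a large dimension. -/
theorem bound_of_nondec (hr : 3 ≤ r) {ψ : AddChar F ℂ} (hψ : ψ.IsPrimitive) {β : altM F r}
    (hβ : β ≠ 0) (hdec : ¬ Dec β) (hD : finrank ℂ (S.D ρ ψ β) ≠ 0) :
    (Fintype.card F ^ (r - 1) - 1) * Fintype.card F ^ (r - 2) *
      (Fintype.card F ^ Fintype.card κ) ^ 2 ≤ finrank ℂ M := by
  obtain ⟨Φ, hΦ, hΦh⟩ := orbit_exists (F := F) hr hβ
  letI : Fintype (Pts F (⟨0, by omega⟩ : Fin r)) := ptsFintype _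
  have h := add_card_mul_le_D S ρ hψ Φ hΦ
    (fun p => by obtain ⟨h, e⟩ := hΦh p; rw [e]; exact congA_ne_zero h hβ)
    (d := (Fintype.card F ^ Fintype.card κ) ^ 2)
    (fun p => by
      obtain ⟨h, e⟩ := hΦh p
      rw [e, S.finrank_D_congA]
      exact S.pow_two_le_finrank_D ρ hψ hβ hdec hD)
  rw [card_Pts] at h
  simp only [Nat.sub_zero] at h
  omega

theorem finrank_D_dec (hr : 3 ≤ r) (ψ : AddChar F ℂ) {β : altM F r} (hβ : β ≠ 0) (hdec : Dec β) :
    finrank ℂ (S.D ρ ψ β) =
      finrank ℂ (S.D ρ ψ (altE (Pi.single ⟨0, by omega⟩ 1) (Pi.single ⟨1, by omega⟩ 1))) := by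
  obtain ⟨h, e⟩ := dec_standard hr hβ hdec
  rw [← e, S.finrank_D_congA]

theorem bound_dec (hr : 3 ≤ r) {ψ : AddChar F ℂ} (hψ : ψ.IsPrimitive) :
    finrank ℂ (S.D ρ ψ 0) + numDec (Fintype.card F) r *
      finrank ℂ (S.D ρ ψ (altE (Pi.single ⟨0, by omega⟩ 1) (Pi.single ⟨1, by omega⟩ 1))) ≤
        finrank ℂ M := by
  rw [← card_sigma_Pts]
  exact add_card_mul_le_D S ρ hψ decOf decOf_injective decOf_ne_zero
    (fun p => (finrank_D_dec S ρ hr ψ (decOf_ne_zero p) (dec_decOf p)).ge)

end Cfsg.Agent.Lib.OrthDeg48
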