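import Cfsg.Agent.Lib.OrthDeg48.Count

/-!
The parametrisation of non-zero decomposable matrices is surjective, giving exact counts.
-/

set_option autoImplicit false
set_option linter.unusedSectionVars false

namespace Cfsg.Agent.Lib.OrthDeg48

open Matrix Module Cfsg.Agent.Lib.SLDeg48 Cfsg.Agent.Lib.UniDeg48

variable {F : Type*} [Field F] [Fintype F] {r : ℕ}

theorem exists_decOf {β : altM F r} (hβ : β ≠ 0) (hdec : Dec β) :
    ∃ p : Σ k : Fin r, Pts F k, decOf p = β := by
  classical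
  obtain ⟨k, hk, hmin⟩ : ∃ k : Fin r, β.1 k ≠ 0 ∧ ∀ j : Fin r, j.val < k.val → β.1 j = 0 := by
    have hs : ((Finset.univ : Finset (Fin r)).filter fun a => β.1 a ≠ 0).Nonempty := by
      by_contra hcon
      refine hβ (Subtype.ext (funext fun a => ?_))
      by_contra ha
      exact hcon ⟨a, Finset.mem_filter.2 ⟨Finset.mem_univ _, ha⟩⟩
    obtain ⟨k, hk, hle⟩ := Finset.exists_min_image _ (fun a : Fin r => a.val) hs
    refine ⟨k, (Finset.mem_filter.1 hk).2, fun j hj => ?_⟩
    by_contra hne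
    exact absurd (hle j (Finset.mem_filter.2 ⟨Finset.mem_univ _, hne⟩)) (not_le.2 hj)
  set x : tail F r k.val := ⟨β.1 k, fun j hj => by
    rcases lt_or_eq_of_le hj with hlt | heq
    · rw [β.2.2 j k, hmin j hlt]; simp
    · rw [show j = k from Fin.ext heq]; exact β.2.1 k⟩ with hx
  have hx0 : x ≠ 0 := fun e => hk (congrArg Subtype.val e)
  set p := piv k x.1 with hp
  have hlt : k.val < p.val := piv_lt hx0
  have hpk : p ≠ k := fun e => by rw [e] at hlt; exact lt_irrefl _ hlt
  have hne : β.1 k p ≠ 0 := piv_ne k (fun e => hx0 (Subtype.ext e))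
  set u : Fin r → F := -((β.1 k p)⁻¹ • β.1 p) with hu
  have heq : β = altE u x.1 := by
    conv_lhs => rw [dec_eq hdec hne]
    apply Subtype.ext
    ext a b
    simp only [hu, hx, Submodule.coe_smul, Matrix.smul_apply, altE_coe, alt2_apply, Pi.neg_apply,
      Pi.smul_apply, smul_eq_mul]
    ring
  have huk : u k = 1 := by
    simp only [hu, Pi.neg_apply, Pi.smul_apply, smul_eq_mul, β.2.2 k p]
    field_simp
  set w : tail F r k.val := ⟨Pi.single k 1 - u, fun j hj => by
    rcases lt_or_eq_of_le hj with hlt' | heq'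
    · have hjk : j ≠ k := fun e => by rw [e] at hlt'; exact lt_irrefl _ hlt'
      simp only [Pi.sub_apply, Pi.single_eq_of_ne hjk, hu, Pi.neg_apply, Pi.smul_apply,
        smul_eq_mul, β.2.2 j p, hmin j hlt']
      simp
    · rw [show j = k from Fin.ext heq']; simp [huk]⟩ with hw
  have hwp : w.1 p = 0 := by simp [hw, hu, hpk, β.2.1 p]
  refine ⟨⟨k, ⟨⟨x, hx0⟩, ⟨w, hwp⟩⟩⟩, ?_⟩
  show altE (Pi.single k 1 - w.1) x.1 = β
  rw [heq]
  congr 1
  simp [hw]

variable {κ : Type*} [Fintype κ] {G : Type*} [Group G] (S : Siegel F r κ G)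
variable {M : Type*} [AddCommGroup M] [Module ℂ M] [FiniteDimensional ℂ M]
variable (ρ : Representation ℂ G M)

/-- The exact dimension when only decomposable matrices occur, with multiplicity one. -/
theorem dim_eq {ψ : AddChar F ℂ} (hψ : ψ.IsPrimitive)
    (hnd : ∀ β : altM F r, β ≠ 0 → ¬ Dec β → finrank ℂ (S.D ρ ψ β) = 0)
    (hone : ∀ β : altM F r, β ≠ 0 → Dec β →
      finrank ℂ (S.D ρ ψ β) = Fintype.card F ^ Fintype.card κ) :
    finrank ℂ M = finrank ℂ (S.D ρ ψ 0) +
      Fintype.card F ^ Fintype.card κ * numDec (Fintype.card F) r := by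
  classical
  rw [← sum_D S ρ hψ, ← Finset.add_sum_erase _ _ (Finset.mem_univ (0 : altM F r))]
  congr 1
  have himg : Finset.univ.image (decOf (F := F) (r := r)) ⊆ Finset.univ.erase (0 : altM F r) :=
    fun β hβ => by
      obtain ⟨i, -, rfl⟩ := Finset.mem_image.1 hβ
      exact Finset.mem_erase.2 ⟨decOf_ne_zero i, Finset.mem_univ _⟩
  rw [← Finset.sum_subset himg fun β hβ hnot => ?_]
  · rw [Finset.sum_image decOf_injective.injOn,
      Finset.sum_congr rfl fun i _ => hone _ (decOf_ne_zero i) (dec_decOf i), Finset.sum_const,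
      Finset.card_univ, smul_eq_mul, card_sigma_Pts, mul_comm]
  · refine hnd β (Finset.mem_erase.1 hβ).1 fun hd => hnot ?_
    obtain ⟨p, hp⟩ := exists_decOf (Finset.mem_erase.1 hβ).1 hd
    exact Finset.mem_image.2 ⟨p, Finset.mem_univ _, hp⟩

end Cfsg.Agent.Lib.OrthDeg48
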