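import Cfsg.Agent.Lib.OrthDeg48.Data

/-!
The dimension of an eigenspace of the centre and the Heisenberg action on it.
-/

set_option autoImplicit false
set_option linter.unusedSectionVars false

namespace Cfsg.Agent.Lib.OrthDeg48

open Matrix Module Cfsg.Agent.Lib.SLDeg48 Cfsg.Agent.Lib.UniDeg48

variable {F : Type*} [Field F] {r : ℕ}

theorem pairA_altE (β : altM F r) (u v : Fin r → F) : pairA β (altE u v) = u ⬝ᵥ (β.1 *ᵥ v) := by
  rw [pairA_comm, pairA_altE_left]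

/-- A decomposable matrix is determined by two of its rows. -/
theorem dec_eq {β : altM F r} (hβ : Dec β) {a b : Fin r} (h : β.1 a b ≠ 0) :
    β = (β.1 a b)⁻¹ • altE (β.1 a) (β.1 b) := by
  obtain ⟨u, v, rfl⟩ := hβ
  rw [eq_inv_smul_iff₀ h]
  apply Subtype.ext
  ext p q
  simp only [Submodule.coe_smul, Matrix.smul_apply, altE_coe, alt2_apply, smul_eq_mul]
  ring

/-- A matrix that is not decomposable has two orthogonal non-degenerate pairs. -/
theorem exists_pairs {β : altM F r} (hβ : β ≠ 0) (hdec : ¬ Dec β) :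
    ∃ u w u' w' : Fin r → F, pairA β (altE w u) ≠ 0 ∧ pairA β (altE u u') = 0 ∧
      pairA β (altE u w') = 0 ∧ pairA β (altE w' u') ≠ 0 := by
  obtain ⟨a, b, hc⟩ : ∃ a b, β.1 a b ≠ 0 := by
    by_contra hcon
    push Not at hcon
    exact hβ (Subtype.ext (Matrix.ext fun a b => hcon a b))
  obtain ⟨p, q, hpq⟩ : ∃ p q, β.1 p q * β.1 a b ≠ β.1 a p * β.1 b q - β.1 b p * β.1 a q := by
    by_contra hcon
    push Not at hcon
    refine hdec ⟨(β.1 a b)⁻¹ • β.1 a, β.1 b, ?_⟩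
    rw [altE_smul_left, eq_inv_smul_iff₀ hc]
    apply Subtype.ext
    ext p q
    simp only [Submodule.coe_smul, Matrix.smul_apply, altE_coe, alt2_apply, smul_eq_mul]
    rw [mul_comm, hcon p q]
  refine ⟨Pi.single a 1, Pi.single b 1, Pi.single p 1 - ((β.1 a b)⁻¹ * β.1 a p) • Pi.single b 1 +
    ((β.1 a b)⁻¹ * β.1 b p) • Pi.single a 1,
    Pi.single q 1 - ((β.1 a b)⁻¹ * β.1 a q) • Pi.single b 1, ?_, ?_, ?_, ?_⟩
  · rw [pairA_single, β.2.2 a b, neg_ne_zero]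
    exact hc
  · simp only [pairA_altE, mulVec_add, mulVec_sub, mulVec_smul, dotProduct_add, dotProduct_sub,
      dotProduct_smul, mulVec_single_one, single_dotProduct, Matrix.col_apply, one_mul, smul_eq_mul,
      β.2.1]
    field_simp
    ring
  · simp only [pairA_altE, mulVec_sub, mulVec_smul, dotProduct_sub, dotProduct_smul,
      mulVec_single_one, single_dotProduct, Matrix.col_apply, one_mul, smul_eq_mul]
    field_simp
    ring
  · intro h0
    apply hpq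
    rw [altE_swap, ← neg_one_smul F, pairA_smul_right, neg_one_mul, neg_eq_zero] at h0
    simp only [pairA_altE, mulVec_add, mulVec_sub, mulVec_smul, dotProduct_add, dotProduct_sub,
      dotProduct_smul, sub_dotProduct, smul_dotProduct, mulVec_single_one, single_dotProduct,
      Matrix.col_apply, one_mul, smul_eq_mul, β.2.1, add_dotProduct] at h0
    field_simp at h0
    have h1 : β.1 a p = -β.1 p a := β.2.2 p a
    have h2 : β.1 b p = -β.1 p b := β.2.2 p b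
    refine mul_left_cancel₀ hc ?_
    linear_combination h0 + β.1 a b * β.1 a q * h2

variable {κ : Type*} [Fintype κ] {G : Type*} [Group G]

namespace Siegel

variable (S : Siegel F r κ G) [Fintype F]

/-- The character of a root subgroup attached to an element of the anisotropic part. -/
def chB (ψ : AddChar F ℂ) (c : F) (m : κ → F) : AddChar (κ → F) ℂ :=
  ψ.compAddMonoidHom (AddMonoidHom.mk' (fun n => S.B0 n m * c)
    (fun a b => by simp [add_mul]))

theorem chB_apply (ψ : AddChar F ℂ) (c : F) (m n : κ → F) :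
    S.chB ψ c m n = ψ (S.B0 n m * c) := rfl

theorem chB_zero (ψ : AddChar F ℂ) (c : F) : S.chB ψ c 0 = 1 := by
  ext n
  simp [chB_apply]

theorem chB_bijective {ψ : AddChar F ℂ} (hψ : ψ.IsPrimitive) {c : F} (hc : c ≠ 0) :
    Function.Bijective (S.chB ψ c) := by
  classical
  rw [Fintype.bijective_iff_injective_and_card]
  refine ⟨fun m m' h => ?_, AddChar.card_eq.symm⟩
  by_contra hne
  obtain ⟨n, hn⟩ := S.B0_nd _ (sub_ne_zero.2 hne)
  have h1 : ψ.mulShift (S.B0 n m * c) = ψ.mulShift (S.B0 n m' * c) := by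
    ext x
    have := DFunLike.congr_fun h (x • n)
    simp only [chB_apply, map_smul, LinearMap.smul_apply, smul_eq_mul] at this
    rw [AddChar.mulShift_apply, AddChar.mulShift_apply]
    convert this using 2 <;> ring
  have h2 := mul_right_cancel₀ hc (AddChar.to_mulShift_inj_of_isPrimitive hψ h1)
  exact hn (by rw [map_sub, h2, sub_self])

variable {M : Type*} [AddCommGroup M] [Module ℂ M]
variable (ρ : Representation ℂ G M) (ψ : AddChar F ℂ)

/-- Translation between the eigenspaces of a root subgroup. -/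
theorem shift {β : altM F r} {u w : Fin r → F} {m m' : κ → F} {z : M} (hz : z ∈ S.D ρ ψ β)
    (hm : z ∈ eigSub ρ (S.qHom u) (S.chB ψ (pairA β (altE w u)) m)) :
    ρ (S.Qv w m') z ∈ eigSub ρ (S.qHom u) (S.chB ψ (pairA β (altE w u)) (m + m')) := by
  rw [mem_eigSub] at hm ⊢
  intro n
  have h := hm n
  rw [qHom_apply] at h ⊢
  rw [S.Qv_Qv ρ ψ hz, h, map_smul, smul_smul, chB_apply, chB_apply, ← AddChar.map_add_eq_mul]
  congr 2
  rw [map_add]
  ring

/-- Splitting an invariant subspace of an eigenspace. -/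
theorem split [FiniteDimensional ℂ M] {ψ} (hψ : ψ.IsPrimitive) {β : altM F r} {u w : Fin r → F}
    (hc : pairA β (altE w u) ≠ 0) (R : Submodule ℂ M) (hR : R ≤ S.D ρ ψ β)
    (hu : ∀ n, ∀ z ∈ R, ρ (S.Qv u n) z ∈ R) (hw : ∀ n, ∀ z ∈ R, ρ (S.Qv w n) z ∈ R) :
    finrank ℂ R = Fintype.card F ^ Fintype.card κ *
      finrank ℂ (R ⊓ eigSub ρ (S.qHom u) 1 : Submodule ℂ M) := by
  classical
  set c := pairA β (altE w u) with hcdef
  set E : (κ → F) → Submodule ℂ M := fun m => R ⊓ eigSub ρ (S.qHom u) (S.chB ψ c m) with hE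
  have hle : ∀ m m', finrank ℂ (E m) ≤ finrank ℂ (E (m + m')) := fun m m' =>
    finrank_le_of_maps ρ (S.Qv w m') fun z hz =>
      ⟨hw m' z hz.1, S.shift ρ ψ (hR hz.1) hz.2⟩
  have heq : ∀ m, finrank ℂ (E m) = finrank ℂ (E 0) := fun m =>
    le_antisymm (le_of_le_of_eq (hle m (-m)) (by rw [add_neg_cancel]))
      (le_of_le_of_eq (hle 0 m) (by rw [zero_add]))
  rw [← sum_inf_eig ρ (S.qHom u) R (fun a z hz => hu a.toAdd z hz),
    ← (S.chB_bijective hψ hc).sum_comp (fun χ => finrank ℂ (R ⊓ eigSub ρ (S.qHom u) χ :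
      Submodule ℂ M))]
  show ∑ m, finrank ℂ (E m) = _
  simp only [heq, Finset.sum_const, Finset.card_univ, Fintype.card_fun, smul_eq_mul]
  rw [show E 0 = R ⊓ eigSub ρ (S.qHom u) 1 by simp [hE, S.chB_zero]]

/-- The fixed space of a root subgroup in an eigenspace. -/
def Fix (β : altM F r) (u : Fin r → F) : Submodule ℂ M :=
  S.D ρ ψ β ⊓ eigSub ρ (S.qHom u) 1

theorem mem_Fix {β : altM F r} {u : Fin r → F} {z : M} :
    z ∈ S.Fix ρ ψ β u ↔ z ∈ S.D ρ ψ β ∧ ∀ n, ρ (S.Qv u n) z = z := by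
  rw [Fix, Submodule.mem_inf, mem_eigSub]
  simp [qHom_apply]

variable [FiniteDimensional ℂ M] {ψ}

theorem finrank_D (hψ : ψ.IsPrimitive) {β : altM F r} {u w : Fin r → F}
    (hc : pairA β (altE w u) ≠ 0) :
    finrank ℂ (S.D ρ ψ β) = Fintype.card F ^ Fintype.card κ * finrank ℂ (S.Fix ρ ψ β u) :=
  S.split ρ hψ hc _ le_rfl (fun n _ hz => S.map_D_Qv ρ ψ u n hz)
    (fun n _ hz => S.map_D_Qv ρ ψ w n hz)

theorem dvd_finrank_D (hψ : ψ.IsPrimitive) {β : altM F r} (hβ : β ≠ 0) :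
    Fintype.card F ^ Fintype.card κ ∣ finrank ℂ (S.D ρ ψ β) := by
  obtain ⟨a, b, hc⟩ : ∃ a b, β.1 a b ≠ 0 := by
    by_contra hcon
    push Not at hcon
    exact hβ (Subtype.ext (Matrix.ext fun a b => hcon a b))
  rw [S.finrank_D ρ hψ (u := Pi.single b 1) (w := Pi.single a 1) (by rwa [pairA_single])]
  exact Dvd.intro _ rfl

/-- A matrix that is not decomposable has large eigenspace. -/
theorem pow_two_le_finrank_D (hψ : ψ.IsPrimitive) {β : altM F r} (hβ : β ≠ 0) (hdec : ¬ Dec β)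
    (hD : finrank ℂ (S.D ρ ψ β) ≠ 0) :
    (Fintype.card F ^ Fintype.card κ) ^ 2 ≤ finrank ℂ (S.D ρ ψ β) := by
  obtain ⟨u, w, u', w', h1, h2, h3, h4⟩ := exists_pairs hβ hdec
  have key : ∀ v, pairA β (altE u v) = 0 → ∀ n, ∀ z ∈ S.Fix ρ ψ β u,
      ρ (S.Qv v n) z ∈ S.Fix ρ ψ β u := by
    intro v hv n z hz
    rw [mem_Fix] at hz ⊢
    refine ⟨S.map_D_Qv ρ ψ v n hz.1, fun m => ?_⟩
    rw [S.Qv_Qv ρ ψ hz.1, altE_swap u v, ← neg_one_smul F, pairA_smul_right, hv, mul_zero,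
      mul_zero, AddChar.map_zero_eq_one, one_smul, hz.2]
  have hsplit := S.split ρ hψ h4 (S.Fix ρ ψ β u) inf_le_left (key u' h2) (key w' h3)
  rw [S.finrank_D ρ hψ h1, hsplit, ← mul_assoc, ← pow_two] at hD ⊢
  exact Nat.le_mul_of_pos_right _ (Nat.pos_of_ne_zero (right_ne_zero_of_mul hD))

/-- An operator commuting with a non-degenerate pair acts as a scalar when the pair acts
irreducibly. -/
theorem exists_scalar (hψ : ψ.IsPrimitive) {β : altM F r} {u w : Fin r → F}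
    (hc : pairA β (altE w u) ≠ 0) (h1 : finrank ℂ (S.Fix ρ ψ β u) = 1) (T : Module.End ℂ M)
    (hT : ∀ z ∈ S.D ρ ψ β, T z ∈ S.D ρ ψ β)
    (hTu : ∀ n, ∀ z ∈ S.D ρ ψ β, T (ρ (S.Qv u n) z) = ρ (S.Qv u n) (T z))
    (hTw : ∀ n, ∀ z ∈ S.D ρ ψ β, T (ρ (S.Qv w n) z) = ρ (S.Qv w n) (T z)) :
    ∃ a : ℂ, ∀ z ∈ S.D ρ ψ β, T z = a • z := by
  obtain ⟨v0, hv0, hv0n⟩ := Submodule.exists_mem_ne_zero_of_ne_bot
    (show S.Fix ρ ψ β u ≠ ⊥ from fun h => by rw [h, finrank_bot] at h1; omega)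
  rw [mem_Fix] at hv0
  have hTv : T v0 ∈ S.Fix ρ ψ β u := by
    rw [mem_Fix]
    exact ⟨hT _ hv0.1, fun n => by rw [← hTu n _ hv0.1, hv0.2]⟩
  obtain ⟨a, ha⟩ := (finrank_eq_one_iff_of_nonzero'
    (⟨v0, (S.mem_Fix ρ ψ).2 hv0⟩ : S.Fix ρ ψ β u)
    (fun e => hv0n (congrArg Subtype.val e))).1 h1 ⟨_, hTv⟩
  refine ⟨a, ?_⟩
  set K : Submodule ℂ M := S.D ρ ψ β ⊓ LinearMap.ker (T - a • (1 : Module.End ℂ M)) with hK
  have hmem : ∀ z, z ∈ K ↔ z ∈ S.D ρ ψ β ∧ T z = a • z := fun z => by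
    simp [hK, sub_eq_zero]
  have hinv : ∀ v : Fin r → F, (∀ n, ∀ z ∈ S.D ρ ψ β, T (ρ (S.Qv v n) z) = ρ (S.Qv v n) (T z)) →
      ∀ n, ∀ z ∈ K, ρ (S.Qv v n) z ∈ K := by
    intro v hv n z hz
    rw [hmem] at hz ⊢
    exact ⟨S.map_D_Qv ρ ψ v n hz.1, by rw [hv n z hz.1, hz.2, map_smul]⟩
  have hsplit := S.split ρ hψ hc K inf_le_left (hinv u hTu) (hinv w hTw)
  have hne : (K ⊓ eigSub ρ (S.qHom u) 1 : Submodule ℂ M) ≠ ⊥ := by
    refine (Submodule.ne_bot_iff _).2 ⟨v0, ⟨(hmem v0).2 ⟨hv0.1, ?_⟩, ?_⟩, hv0n⟩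
    · exact (congrArg Subtype.val ha).symm
    · exact ((S.mem_Fix ρ ψ).2 hv0).2
  have hle : finrank ℂ (S.D ρ ψ β) ≤ finrank ℂ K := by
    rw [S.finrank_D ρ hψ hc, h1, hsplit]
    exact Nat.mul_le_mul_left _ (Nat.one_le_iff_ne_zero.2 fun h => hne (Submodule.finrank_eq_zero.1 h))
  have hKD : K = S.D ρ ψ β := Submodule.eq_of_le_of_finrank_le inf_le_left hle
  intro z hz
  rw [← hKD, hmem] at hz
  exact hz.2

end Siegel

end Cfsg.Agent.Lib.OrthDeg48
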