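import Cfsg.Agent.Lib.OrthDeg48.Model

/-!
Products of reflections lying in the group generated by Siegel transformations.
-/

set_option autoImplicit false
set_option linter.unusedSectionVars false

namespace Cfsg.Agent.Lib.OrthDeg48

open Matrix Module QuadraticMap Cfsg.Agent.Lib.Forms Cfsg.Agent.Lib.OrthOmega Cfsg.Agent.Lib.SLDeg48
open scoped commutatorElement

variable {F : Type*} [Field F] [Finite F] {r : ℕ} {κ : Type*} [Fintype κ] {R : QuadraticForm F (κ → F)}

theorem five_le (hr : 3 ≤ r) : 5 ≤ finrank F (V3 F r κ) := by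
  rw [finrank_V3]; omega

/-- Two reflections in vectors of the same norm. -/
theorem orefl_mul_mem (hR : Nondeg R) (hr : 3 ≤ r) {a b : V3 F r κ} (h : qS r R a = qS r R b)
    (ha : qS r R a ≠ 0) : orefl (qS r R) a * orefl (qS r R) b ∈ EG (qS r R) := by
  rw [← commutator_eq_EG (nondeg_qS hR) (five_le hr)]
  have ha0 : a ≠ 0 := fun e => ha (by rw [e, QuadraticMap.map_zero])
  have hb0 : b ≠ 0 := fun e => ha (by rw [h, e, QuadraticMap.map_zero])
  obtain ⟨g, hg, hgab⟩ := witt_one (nondeg_qS hR) ha0 hb0 h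
  set G : orth (qS r R) := ⟨g, hg⟩
  have e1 : G * orefl (qS r R) a * G⁻¹ = orefl (qS r R) b := Subtype.ext (by
    show g * refl (qS r R) a * g⁻¹ = refl (qS r R) b
    rw [refl_conj hg, hgab])
  have e2 : orefl (qS r R) a * orefl (qS r R) b = ⁅orefl (qS r R) a, G⁆ := by
    rw [commutatorElement_def, ← e1, show (orefl (qS r R) a)⁻¹ = orefl (qS r R) a from
      inv_eq_of_mul_eq_one_right (Subtype.ext (refl_mul_self (qS r R) a))]
    group
  rw [e2, commutator_def]
  exact Subgroup.commutator_mem_commutator (Subgroup.mem_top _) (Subgroup.mem_top _)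

theorem commutator_mem (hR : Nondeg R) (hr : 3 ≤ r) (a b : orth (qS r R)) :
    ⁅a, b⁆ ∈ EG (qS r R) := by
  rw [← commutator_eq_EG (nondeg_qS hR) (five_le hr), commutator_def]
  exact Subgroup.commutator_mem_commutator (Subgroup.mem_top _) (Subgroup.mem_top _)

/-- An isometry respecting the three summands. -/
def HasShape (τ : orth (qS r R)) (g h : Matrix (Fin r) (Fin r) F) (σ : (κ → F) → (κ → F)) : Prop :=
  ∀ X, τ.1 X = (g *ᵥ X.1, h *ᵥ X.2.1, σ X.2.2)

theorem HasShape.zero {τ : orth (qS r R)} {g h : Matrix (Fin r) (Fin r) F}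
    {σ : (κ → F) → (κ → F)} (hτ : HasShape τ g h σ) : σ 0 = 0 := by
  have := hτ 0
  rw [map_zero] at this
  exact (congrArg (fun X : V3 F r κ => X.2.2) this).symm

theorem HasShape.zh {τ : orth (qS r R)} {g h : Matrix (Fin r) (Fin r) F}
    {σ : (κ → F) → (κ → F)} (hτ : HasShape τ g h σ) (hgh : hᵀ * g = 1) (A : altM F r) :
    τ * zhO R A = zhO R (congA g A) * τ :=
  orth_ext fun X => by
    simp only [orth_mul_apply, hτ _, zhO_apply, congA_coe]
    refine Prod.ext ?_ rfl
    show g *ᵥ (X.1 + A.1 *ᵥ X.2.1) = g *ᵥ X.1 + (g * A.1 * gᵀ) *ᵥ (h *ᵥ X.2.1)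
    rw [mulVec_add, mulVec_mulVec, mulVec_mulVec, Matrix.mul_assoc (g * A.1),
      show gᵀ * h = 1 by
        have := congrArg Matrix.transpose hgh
        simpa [transpose_mul] using this, mul_one]

theorem HasShape.qv {τ : orth (qS r R)} {g h : Matrix (Fin r) (Fin r) F}
    {σ : (κ → F) → (κ → F)} (hτ : HasShape τ g h σ) (u : Fin r → F) (n : κ → F) :
    τ * qvO R u n = qvO R (g *ᵥ u) (σ n) * τ := by
  rw [qvO, qvO, ← mul_inv_eq_iff_eq_mul, rho_conj]
  refine rho_congr _ _ ?_ ?_
  · rw [hτ, mulVec_zero, hτ.zero]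
  · rw [hτ, mulVec_zero, mulVec_zero]

theorem HasShape.lev {τ : orth (qS r R)} {g h : Matrix (Fin r) (Fin r) F}
    {σ : (κ → F) → (κ → F)} (hτ : HasShape τ g h σ) {s s' : SL' r F}
    (h1 : g * s.1 = s'.1 * g) (h2 : h * (invT r F s).1 = (invT r F s').1 * h) :
    τ * levHom R s = levHom R s' * τ :=
  orth_ext fun X => by
    simp only [orth_mul_apply, hτ _, levHom_apply]
    refine Prod.ext ?_ (Prod.ext ?_ rfl)
    · show g *ᵥ (s.1 *ᵥ X.1) = s'.1 *ᵥ (g *ᵥ X.1)
      rw [mulVec_mulVec, mulVec_mulVec, h1]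
    · show h *ᵥ ((invT r F s).1 *ᵥ X.2.1) = (invT r F s').1 *ᵥ (h *ᵥ X.2.1)
      rw [mulVec_mulVec, mulVec_mulVec, h2]

/-- A vector of the anisotropic part. -/
abbrev inZ (r : ℕ) (v : κ → F) : V3 F r κ := (0, 0, v)

/-- A vector of a hyperbolic plane. -/
abbrev inH (j : Fin r) (α : F) : V3 F r κ := (Pi.single j 1, Pi.single j α, 0)

theorem qS_inZ (v : κ → F) : qS r R (inZ r v) = R v := by simp [qS_apply]

theorem qS_inH (j : Fin r) (α : F) : qS r R (inH j α : V3 F r κ) = α := by simp [qS_apply]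

theorem refl_inZ (v : κ → F) (X : V3 F r κ) :
    refl (qS r R) (inZ r v) X = (X.1, X.2.1, refl R v X.2.2) := by
  rw [refl_apply, qS_inZ, qS_polar, refl_apply]
  simp
  refine Prod.ext ?_ (Prod.ext ?_ ?_) <;> simp

theorem refl_inH {j : Fin r} {α : F} (hα : α ≠ 0) (X : V3 F r κ) :
    refl (qS r R) (inH j α) X =
      (Function.update X.1 j (-(X.2.1 j) / α), Function.update X.2.1 j (-(α * X.1 j)), X.2.2) := by
  rw [refl_apply, qS_inH, qS_polar]
  simp [polar_zero_left]
  refine Prod.ext ?_ (Prod.ext ?_ ?_)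
  · funext i
    by_cases hi : i = j
    · subst hi; simp; field_simp; ring
    · simp [hi]
  · funext i
    by_cases hi : i = j
    · subst hi; simp; field_simp; ring
    · simp [hi]
  · simp

/-- A torus element scaling one coordinate. -/
theorem exists_tor (hR : Nondeg R) (hr : 3 ≤ r) (hsur : ∀ c : F, ∃ v, R v = c) (j : Fin r) {c : F}
    (hc : c ≠ 0) :
    ∃ τ ∈ EG (qS r R), ∃ σ : (κ → F) → (κ → F),
      HasShape τ (diagonal (Function.update 1 j c)) (diagonal (Function.update 1 j c⁻¹)) σ := by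
  obtain ⟨v, hv⟩ := hsur 1
  obtain ⟨w, hw⟩ := hsur c
  have h1 := orefl_mul_mem hR hr (a := inH j 1) (b := inZ r v) (by rw [qS_inH, qS_inZ, hv])
    (by rw [qS_inH]; exact one_ne_zero)
  have h2 := orefl_mul_mem hR hr (a := inH j c) (b := inZ r w) (by rw [qS_inH, qS_inZ, hw])
    (by rw [qS_inH]; exact hc)
  refine ⟨_, mul_mem h1 h2, fun z => refl R v (refl R w z), fun X => ?_⟩
  rw [orth_mul_apply, orth_mul_apply, orth_mul_apply]
  show refl (qS r R) (inH j 1) (refl (qS r R) (inZ r v)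
    (refl (qS r R) (inH j c) (refl (qS r R) (inZ r w) X))) = _
  rw [refl_inZ, refl_inH hc, refl_inZ, refl_inH one_ne_zero]
  refine Prod.ext ?_ (Prod.ext ?_ rfl)
  · funext i
    dsimp only
    rw [mulVec_diagonal]
    by_cases hi : i = j
    · subst hi; simp
    · simp [hi]
  · funext i
    dsimp only
    rw [mulVec_diagonal]
    by_cases hi : i = j
    · subst hi; simp; field_simp
    · simp [hi]

/-- A rotation of the anisotropic part. -/
theorem exists_rot (hR : Nondeg R) (hr : 3 ≤ r) (v w : κ → F) :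
    ∃ τ ∈ EG (qS r R), HasShape τ (1 : Matrix (Fin r) (Fin r) F) 1
      (fun z => refl R v (refl R w (refl R v (refl R w z)))) := by
  refine ⟨⁅orefl (qS r R) (inZ r v), orefl (qS r R) (inZ r w)⁆, commutator_mem hR hr _ _,
    fun X => ?_⟩
  rw [commutatorElement_def,
    show (orefl (qS r R) (inZ r v))⁻¹ = orefl (qS r R) (inZ r v) from
      inv_eq_of_mul_eq_one_right (Subtype.ext (refl_mul_self _ _)),
    show (orefl (qS r R) (inZ r w))⁻¹ = orefl (qS r R) (inZ r w) from
      inv_eq_of_mul_eq_one_right (Subtype.ext (refl_mul_self _ _)),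
    orth_mul_apply, orth_mul_apply, orth_mul_apply]
  show refl (qS r R) (inZ r v) (refl (qS r R) (inZ r w)
    (refl (qS r R) (inZ r v) (refl (qS r R) (inZ r w) X))) = _
  rw [refl_inZ, refl_inZ, refl_inZ, refl_inZ, one_mulVec, one_mulVec]

/-- The Levi root subgroup is conjugate to the central one. -/
theorem exists_conj (hR : Nondeg R) (hr : 3 ≤ r) :
    ∃ g ∈ EG (qS r R), ∀ t : F,
      g * levHom R (row ⟨0, by omega⟩ ⟨Pi.single ⟨1, by omega⟩ (-t),
        single_mem_tail (show 0 < 1 by omega) (-t)⟩) =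
      zhO R (t • altE (Pi.single ⟨0, by omega⟩ (1 : F)) (Pi.single ⟨1, by omega⟩ 1)) * g := by
  set k : Fin r := ⟨0, by omega⟩ with hk
  set i : Fin r := ⟨1, by omega⟩ with hi
  set l : Fin r := ⟨2, by omega⟩ with hl
  have hki : k ≠ i := by simp [hk, hi]
  have hkl : k ≠ l := by simp [hk, hl]
  have hil : i ≠ l := by simp [hi, hl]
  set g : orth (qS r R) := orefl (qS r R) (inH i 1) * orefl (qS r R) (inH l 1) with hg
  have hgm : g ∈ EG (qS r R) := orefl_mul_mem hR hr (by rw [qS_inH, qS_inH])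
    (by rw [qS_inH]; exact one_ne_zero)
  refine ⟨g, hgm, fun t => ?_⟩
  have hp : SPair (qS r R) ((Pi.single k 1, 0, 0) : V3 F r κ) (0, -Pi.single i (-t), 0) :=
    ⟨by simp [qS_apply], by simp [qS_polar, hki, hki.symm]⟩
  have hq : SPair (qS r R) ((Pi.single k 1, 0, 0) : V3 F r κ) (-(t • Pi.single i (1 : F)), 0, 0) :=
    ⟨by simp [qS_apply], by simp [qS_polar]⟩
  have e1 : levHom R (row k ⟨Pi.single i (-t), single_mem_tail (show 0 < 1 by omega) (-t)⟩) =
      rho hp := orth_ext fun X => by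
    rw [rho_apply, levHom_apply, SLDeg48.row, invT_rk1, rk1_coe, rk1_coe, add_mulVec, add_mulVec,
      one_mulVec, one_mulVec, vecMulVec_mulVec, vecMulVec_mulVec, op_smul_eq_smul, op_smul_eq_smul]
    simp [qS_polar, qS_apply, polar_zero_left, dotProduct_comm X.1]
    refine Prod.ext ?_ (Prod.ext ?_ ?_)
    all_goals simp [mul_comm, sub_eq_add_neg]
  have e2 : zhO R (t • altE (Pi.single k (1 : F)) (Pi.single i 1)) = rho hq := orth_ext fun X => by
    rw [rho_apply, zhO_apply, Submodule.coe_smul, altE_coe, smul_mulVec, alt2_mulVec]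
    simp [qS_polar, qS_apply, polar_zero_left, smul_dotProduct, smul_sub, smul_smul]
    refine Prod.ext ?_ (Prod.ext ?_ ?_)
    · ext a
      simp [Pi.single_apply]
      split_ifs <;> ring
    all_goals simp
  have hge : g.1 ((Pi.single k 1, 0, 0) : V3 F r κ) = (Pi.single k 1, 0, 0) := by
    show refl (qS r R) (inH i 1) (refl (qS r R) (inH l 1) _) = _
    rw [refl_inH one_ne_zero, refl_inH one_ne_zero]
    refine Prod.ext ?_ (Prod.ext ?_ rfl)
    all_goals
      funext a
      simp [Function.update_apply, hki.symm, hkl.symm, hil.symm, hil]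
      try (split_ifs <;> simp_all)
      try (intros; simp_all)
  have hgu : g.1 ((0, -Pi.single i (-t), 0) : V3 F r κ) = (-(t • Pi.single i (1 : F)), 0, 0) := by
    show refl (qS r R) (inH i 1) (refl (qS r R) (inH l 1) _) = _
    rw [refl_inH one_ne_zero, refl_inH one_ne_zero]
    refine Prod.ext ?_ (Prod.ext ?_ rfl)
    all_goals
      funext a
      simp [Function.update_apply, Pi.single_apply, hil.symm, hil]
      try (split_ifs <;> simp_all)
      try (intros; simp_all)
  rw [e1, e2, ← mul_inv_eq_iff_eq_mul, rho_conj]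
  exact rho_congr _ _ hge hgu

end Cfsg.Agent.Lib.OrthDeg48
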