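import Mathlib

/-!
Rank-one projections linked along a forked diagram are independent.
-/

set_option autoImplicit false

namespace Cfsg.Agent.Lib.OrthDeg48

open Module

variable {W : Type*} [AddCommGroup W] [Module ℂ W] [FiniteDimensional ℂ W]

/-- A path of projections with two leaves at its end is independent. -/
theorem fork_le_finrank {k : ℕ} (a : ℕ → W) (b : ℕ → W →ₗ[ℂ] ℂ) (c c' : W) (d d' : W →ₗ[ℂ] ℂ)
    {x : ℝ} (hx0 : 0 ≤ x) (hx : x ≤ 1 / 6)
    (h1 : ∀ i, i ≤ k → b i (a i) = 1)
    (h0 : ∀ i j, i ≤ k → j ≤ k → (i + 2 ≤ j ∨ j + 2 ≤ i) → b i (a j) = 0)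
    (hadj : ∀ i, i + 1 ≤ k → b i (a (i + 1)) * b (i + 1) (a i) = (x : ℂ))
    (hc : d c = 1) (hc' : d' c' = 1) (hcc : d c' = 0) (hcc' : d' c = 0)
    (hfc : ∀ i, i < k → b i c = 0 ∧ d (a i) = 0) (hfc' : ∀ i, i < k → b i c' = 0 ∧ d' (a i) = 0)
    (hlc : b k c * d (a k) = (x : ℂ)) (hlc' : b k c' * d' (a k) = (x : ℂ)) :
    k + 3 ≤ finrank ℂ W := by
  let v : (Fin (k + 1) ⊕ Fin 2) → W := Sum.elim (fun i => a i.val) ![c, c']
  have hli : LinearIndependent ℂ v := by
    rw [Fintype.linearIndependent_iff]
    intro g hg
    let l : ℕ → ℂ := fun i => if h : i < k + 1 then g (.inl ⟨i, h⟩) else 0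
    set α := g (.inr 0) with hα
    set β := g (.inr 1) with hβ
    have hsum : ∑ i ∈ Finset.range (k + 1), l i • a i + (α • c + β • c') = 0 := by
      rw [← Fin.sum_univ_eq_sum_range]
      rw [Fintype.sum_sum_type] at hg
      simpa [v, l, hα, hβ, Fin.is_lt, Fin.is_le, Fin.sum_univ_two] using hg
    have heq : ∀ f : W →ₗ[ℂ] ℂ,
        ∑ j ∈ Finset.range (k + 1), l j * f (a j) + (α * f c + β * f c') = 0 := fun f => by
      simpa [map_sum] using congrArg f hsum
    have hrow : ∀ i, i ≤ k →
        (if i = 0 then 0 else l (i - 1) * b i (a (i - 1))) + l i +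
          (if i + 1 ≤ k then l (i + 1) * b i (a (i + 1)) else α * b i c + β * b i c') = 0 := by
      intro i hi
      have hterm : ∀ j ∈ Finset.range (k + 1), l j * b i (a j) =
          (if j + 1 = i then l j * b i (a j) else 0) + (if j = i then l j else 0) +
            (if j = i + 1 then l j * b i (a j) else 0) := by
        intro j hj
        rw [Finset.mem_range] at hj
        by_cases c1 : j + 1 = i
        · rw [if_pos c1, if_neg (by omega : j ≠ i), if_neg (by omega : j ≠ i + 1), add_zero,
            add_zero]
        by_cases c2 : j = i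
        · subst c2
          rw [if_neg c1, if_pos rfl, if_neg (by omega : j ≠ j + 1), h1 j hi, mul_one, zero_add,
            add_zero]
        by_cases c3 : j = i + 1
        · rw [if_neg c1, if_neg c2, if_pos c3, zero_add, zero_add]
        rw [if_neg c1, if_neg c2, if_neg c3, h0 i j hi (by omega) (by omega), mul_zero, add_zero,
          add_zero]
      have := heq (b i)
      rw [Finset.sum_congr rfl hterm, Finset.sum_add_distrib, Finset.sum_add_distrib] at this
      rcases Nat.lt_or_ge i k with hik | hik
      · rw [(hfc i hik).1, (hfc' i hik).1, mul_zero, mul_zero, add_zero, add_zero] at this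
        refine Eq.trans ?_ this
        congr 1
        congr 1
        · rcases i with _ | i
          · simp
          · simp [Finset.sum_ite_eq', show i < k + 1 by omega]
        · simp [show i < k + 1 by omega]
        · simp [Finset.sum_ite_eq', hik]
      · obtain rfl : i = k := by omega
        rw [if_neg (by omega : ¬ i + 1 ≤ i)]
        refine Eq.trans ?_ this
        have e1 : (∑ j ∈ Finset.range (i + 1), if j = i + 1 then l j * b i (a j) else 0) = 0 :=
          Finset.sum_eq_zero fun j hj => if_neg (by rw [Finset.mem_range] at hj; omega)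
        rw [e1, add_zero]
        congr 1
        congr 1
        · rcases i with _ | i
          · simp
          · simp [Finset.sum_ite_eq']
        · simp
    have hfwd : ∀ i, i + 1 ≤ k → ∃ u : ℝ, 0 ≤ u ∧ u ≤ 2 ∧
        l i = -(b i (a (i + 1)) * (u : ℂ) * l (i + 1)) := by
      intro i
      induction i with
      | zero =>
        intro hi
        refine ⟨1, by norm_num, by norm_num, ?_⟩
        have := hrow 0 (by omega)
        rw [if_pos rfl, if_pos hi] at this
        push_cast
        linear_combination this
      | succ i ih =>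
        intro hi
        obtain ⟨u, hu1, hu2, hu3⟩ := ih (by omega)
        have hrw := hrow (i + 1) (by omega)
        rw [if_neg (Nat.succ_ne_zero i), if_pos hi, Nat.add_sub_cancel, hu3] at hrw
        have hxu : x * u ≤ 1 / 3 := by nlinarith
        have hpos : 0 < 1 - x * u := by linarith
        refine ⟨(1 - x * u)⁻¹, le_of_lt (inv_pos.2 hpos), ?_, ?_⟩
        · rw [inv_le_comm₀ hpos (by norm_num)]
          linarith
        · have hxc := hadj i (by omega)
          have hne : (1 - (x : ℂ) * u) ≠ 0 := by exact_mod_cast hpos.ne'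
          push_cast
          field_simp
          linear_combination hrw + (u : ℂ) * l (i + 1) * hxc
    have hαeq : α = -(d (a k) * l k) := by
      have := heq d
      rw [Finset.sum_eq_single k (fun j hj hjk => by
        rw [Finset.mem_range] at hj
        rw [(hfc j (by omega)).2, mul_zero]) (by simp), hc, hcc] at this
      linear_combination this
    have hβeq : β = -(d' (a k) * l k) := by
      have := heq d'
      rw [Finset.sum_eq_single k (fun j hj hjk => by
        rw [Finset.mem_range] at hj
        rw [(hfc' j (by omega)).2, mul_zero]) (by simp), hc', hcc'] at this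
      linear_combination this
    have hlk : l k = 0 := by
      have hrw := hrow k le_rfl
      rw [if_neg (by omega : ¬ k + 1 ≤ k), hαeq, hβeq] at hrw
      rcases Nat.eq_zero_or_pos k with rfl | hk
      · rw [if_pos rfl, zero_add] at hrw
        have hne : (1 : ℂ) - 2 * (x : ℂ) ≠ 0 := by
          have : (0 : ℝ) < 1 - 2 * x := by linarith
          exact_mod_cast this.ne'
        refine (mul_eq_zero.1 (?_ : ((1 : ℂ) - 2 * (x : ℂ)) * l 0 = 0)).resolve_left hne
        linear_combination hrw + l 0 * hlc + l 0 * hlc'
      obtain ⟨i, rfl⟩ : ∃ i, k = i + 1 := ⟨k - 1, by omega⟩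
      obtain ⟨u, hu1, hu2, hu3⟩ := hfwd i le_rfl
      rw [if_neg (Nat.succ_ne_zero i), Nat.add_sub_cancel, hu3] at hrw
      have hne : (1 : ℂ) - (x : ℂ) * u - 2 * (x : ℂ) ≠ 0 := by
        have : (0 : ℝ) < 1 - x * u - 2 * x := by nlinarith
        exact_mod_cast this.ne'
      refine (mul_eq_zero.1 (?_ : ((1 : ℂ) - (x : ℂ) * u - 2 * (x : ℂ)) * l (i + 1) = 0)).resolve_left hne
      linear_combination hrw + (u : ℂ) * l (i + 1) * hadj i le_rfl + l (i + 1) * hlc + l (i + 1) * hlc'
    have hzero : ∀ e i, i ≤ k → k ≤ i + e → l i = 0 := by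
      intro e
      induction e with
      | zero =>
        intro i hi he
        obtain rfl : i = k := by omega
        exact hlk
      | succ e ih =>
        intro i hi he
        by_cases hle : k ≤ i + e
        · exact ih i hi hle
        obtain ⟨u, -, -, hu3⟩ := hfwd i (by omega)
        rw [hu3, ih (i + 1) (by omega) (by omega), mul_zero, neg_zero]
    rintro (i | i)
    · have := hzero k i.val (by omega) (by omega)
      simpa [l, i.isLt, Fin.is_le] using this
    · fin_cases i
      · show α = 0
        rw [hαeq, hlk, mul_zero, neg_zero]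
      · show β = 0
        rw [hβeq, hlk, mul_zero, neg_zero]
  have := hli.fintype_card_le_finrank
  simpa using this

end Cfsg.Agent.Lib.OrthDeg48
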