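import Cfsg.Agent.Lib.OrthDeg48.Block
import Cfsg.Agent.Lib.OrthDeg48.Elements
import Cfsg.Agent.Lib.OrthDeg48.Count

/-!
The side conditions of the abstract bound over fields with more than three elements.
-/

set_option autoImplicit false
set_option linter.unusedSectionVars false

namespace Cfsg.Agent.Lib.OrthDeg48

open Matrix Module QuadraticMap Cfsg.Agent.Lib.Forms Cfsg.Agent.Lib.OrthOmega Cfsg.Agent.Lib.SLDeg48
  Cfsg.Agent.Lib.UniDeg48

variable {F : Type*} [Field F] [Fintype F] {r : ℕ} {κ : Type*} [Fintype κ]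

theorem exists_unit_sq_ne_one (h3 : 3 < Fintype.card F) : ∃ u : Fˣ, (u : F) ^ 2 ≠ 1 := by
  obtain ⟨a, ha0, ha⟩ := exists_sq_ne_one (F := F) (by omega)
  exact ⟨Units.mk0 a ha0, ha⟩

variable {G : Type*} [Group G] (S : Siegel F r κ G)
variable {M : Type*} [AddCommGroup M] [Module ℂ M] [FiniteDimensional ℂ M]
variable (ρ : Representation ℂ G M) {ψ : AddChar F ℂ}

namespace Siegel

variable (hr : 3 ≤ r) (hψ : ψ.IsPrimitive)
  (hone : ∀ (β : altM F r), β ≠ 0 → Dec β →
    finrank ℂ (S.D ρ ψ β) = Fintype.card F ^ Fintype.card κ)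

include hψ hone in
/-- The root subgroup has a fixed vector in the standard eigenspace. -/
theorem exists_fixed_sq {u : Fˣ} (hu : (u : F) ^ 2 ≠ 1) :
    ∃ z : M, z ≠ 0 ∧ z ∈ S.D ρ ψ (altE (bv F 0 (by omega)) (bv F 1 (by omega))) ∧
      ∀ t : F, ρ (S.L (row ⟨0, by omega⟩ ⟨Pi.single ⟨1, by omega⟩ t,
        single_mem_tail (show 0 < 1 by omega) t⟩)) z = z := by
  classical
  set i : Fin r := ⟨0, by omega⟩ with hi
  set j : Fin r := ⟨1, by omega⟩ with hj
  have hij : i ≠ j := fun e => by simp [hi, hj, Fin.ext_iff] at e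
  set u0 : Fin r → F := Pi.single i 1 with hu0
  set u1 : Fin r → F := Pi.single j 1 with hu1
  set β := (1 : F) • altE u0 u1 with hβ
  have hij' : β.1 i j = 1 := by simp [hβ, hu0, hu1, altE_coe, alt2_apply, hij, hij.symm]
  have hβ0 : β ≠ 0 := fun h => one_ne_zero (α := F) (by rw [← hij', h]; rfl)
  have hdec : Dec β := ⟨u0, u1, by rw [hβ, one_smul]⟩
  have hp : pairA β (altE u1 u0) = -1 := by rw [hu0, hu1, pairA_single, β.2.2, hij']
  have h1 := S.finrank_Fix_eq_one ρ hψ hone hβ0 hdec (u := u0) (w := u1)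
    (by rw [hp]; exact neg_ne_zero.2 one_ne_zero)
  obtain ⟨v, hv, hvn⟩ := Submodule.exists_mem_ne_zero_of_ne_bot
    (show S.Fix ρ ψ β u0 ≠ ⊥ from fun h => by rw [h, finrank_bot] at h1; omega)
  have hblk : BlockPair i j i j := Or.inr (Or.inl ⟨rfl, rfl⟩)
  have hFix : ∀ g : SL' r F, (∀ x ∈ S.D ρ ψ β, ρ (S.L g) x ∈ S.D ρ ψ β) →
      ∀ s : F, s ≠ 0 → g.1 *ᵥ u0 = s • u0 → ∃ a : ℂ, ρ (S.L g) v = a • v := by
    intro g hg s hs hgu
    have hv' := (S.mem_Fix ρ ψ).1 hv
    have hmem : ρ (S.L g) v ∈ S.Fix ρ ψ β u0 := by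
      refine (S.mem_Fix ρ ψ).2 ⟨hg v hv'.1, fun n => ?_⟩
      have h := S.L_Qv g (s⁻¹ • u0) n
      rw [mulVec_smul, hgu, smul_smul, inv_mul_cancel₀ hs, one_smul, S.Qv_smul] at h
      rw [← Module.End.mul_apply, ← map_mul, ← h, map_mul, Module.End.mul_apply, hv'.2]
    obtain ⟨a, ha⟩ := (finrank_eq_one_iff_of_nonzero' (⟨v, hv⟩ : S.Fix ρ ψ β u0)
      (fun e => hvn (congrArg Subtype.val e))).1 h1 ⟨_, hmem⟩
    exact ⟨a, (congrArg Subtype.val ha).symm⟩
  have hXu : ∀ t, (SpecialLinearGroup.transvection hij t).1 *ᵥ u0 = u0 := fun t => by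
    rw [transvection_mulVec]; simp [hu0, hij.symm]
  have hhu : (diagE F r (hT i j hij u)).1 *ᵥ u0 = (u : F) • u0 := by
    funext x
    rw [diagE_coe, mulVec_diagonal, hT_apply]
    by_cases hx : x = i
    · subst hx; simp [hu0, hij]
    · simp [hu0, hx]
  obtain ⟨lam, hlam⟩ := hFix _ (fun x hx => S.map_D_block_diag ρ hij hij hblk u 1 hx) _ u.ne_zero hhu
  choose φ hφ using fun t => hFix _ (fun x hx => S.map_D_block ρ hij hij hblk t 1 hx) 1 one_ne_zero
    ((hXu t).trans (one_smul F _).symm)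
  have hinj : ∀ {p q : ℂ}, p • v = q • v → p = q := fun h => smul_left_injective ℂ hvn h
  have h0 : φ 0 = 1 := hinj (by
    rw [← hφ 0, one_smul, SpecialLinearGroup.transvection_coeff_zero, map_one, map_one,
      Module.End.one_apply])
  have hadd : ∀ s s', φ (s + s') = φ s * φ s' := fun s s' => hinj (by
    rw [← hφ, S.L_transvection_add, map_mul, Module.End.mul_apply, hφ, map_smul, hφ, smul_smul,
      mul_comm])
  have hlam0 : lam ≠ 0 := fun h => hvn (ρ_inj ρ (S.L (diagE F r (hT i j hij u)))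
    (by rw [hlam, h, zero_smul, map_zero]))
  have hsq : ∀ s, φ ((u : F) ^ 2 * s) = φ s := by
    intro s
    have e1 : ρ (S.L (SpecialLinearGroup.transvection hij ((u : F) ^ 2 * s)))
        (ρ (S.L (diagE F r (hT i j hij u))) v) =
        φ s • ρ (S.L (diagE F r (hT i j hij u))) v := by
      rw [← Module.End.mul_apply, ← map_mul, ← map_mul, ← diagE_hT_transvection, map_mul,
        map_mul, Module.End.mul_apply, hφ, map_smul]
    rw [hlam, map_smul, hφ, smul_comm (φ s)] at e1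
    exact hinj (smul_right_injective M hlam0 e1)
  refine ⟨v, hvn, ?_, fun t => ?_⟩
  · have := ((S.mem_Fix ρ ψ).1 hv).1
    rwa [hβ, one_smul] at this
  · rw [row_single (show i.val < j.val by simp [hi, hj]), hφ,
      trivial_of_sq φ h0 hadd hu hsq, one_smul]

/-- The diagonal datum needed in rank four. -/
theorem torus_datum (h4 : r = 4) {u : Fˣ} (hu : (u : F) ^ 2 ≠ 1) (c : F) :
    ∃ (τ : G) (a : F), a ≠ 1 ∧
      (∀ z ∈ S.D ρ ψ (c • altE (bv F 1 (by omega)) (bv F 2 (by omega))),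
        ρ τ z ∈ S.D ρ ψ (c • altE (bv F 1 (by omega)) (bv F 2 (by omega)))) ∧
      ∀ t : F, τ * S.L (row ⟨0, by omega⟩ ⟨Pi.single ⟨3, by omega⟩ t,
        single_mem_tail (show 0 < 3 by omega) t⟩) =
        S.L (row ⟨0, by omega⟩ ⟨Pi.single ⟨3, by omega⟩ (a * t),
          single_mem_tail (show 0 < 3 by omega) (a * t)⟩) * τ := by
  have h03 : (⟨0, by omega⟩ : Fin r) ≠ ⟨3, by omega⟩ := by simp
  refine ⟨S.L (diagE F r (hT _ _ h03 u)), (u : F) ^ 2, hu, fun z hz => ?_, fun t => ?_⟩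
  · exact S.map_D_block_diag ρ (i := ⟨1, by omega⟩) (j := ⟨2, by omega⟩) (by simp) h03
      (Or.inl ⟨by simp, by simp, by simp, by simp⟩) u c hz
  · rw [row_single (show (⟨0, _⟩ : Fin r).val < (⟨3, _⟩ : Fin r).val by simp),
      row_single (show (⟨0, _⟩ : Fin r).val < (⟨3, _⟩ : Fin r).val by simp), ← map_mul, ← map_mul,
      diagE_hT_transvection]

end Siegel

variable {R : QuadraticForm F (κ → F)}

/-- A torus element at one position with square determinant. -/
theorem exists_tor_sq (hR : Nondeg R) (hr : 3 ≤ r) {v : κ → F} (hv : R v = 1) (j : Fin r) {d : F}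
    (hd : d ≠ 0) :
    ∃ τ ∈ EG (qS r R),
      HasShape τ (diagonal (Function.update 1 j (d ^ 2))) (diagonal (Function.update 1 j (d ^ 2)⁻¹))
        (fun z : κ → F => z) := by
  have hc : d ^ 2 ≠ 0 := pow_ne_zero 2 hd
  have hw : R (d • v) = d ^ 2 := by rw [Q_smul, hv, mul_one, _root_.sq]
  have h1 := orefl_mul_mem hR hr (a := inH j 1) (b := inZ r v) (by rw [qS_inH, qS_inZ, hv])
    (by rw [qS_inH]; exact one_ne_zero)
  have h2 := orefl_mul_mem hR hr (a := inH j (d ^ 2)) (b := inZ r (d • v))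
    (by rw [qS_inH, qS_inZ, hw]) (by rw [qS_inH]; exact hc)
  refine ⟨_, mul_mem h1 h2, fun X => ?_⟩
  rw [orth_mul_apply, orth_mul_apply, orth_mul_apply]
  show refl (qS r R) (inH j 1) (refl (qS r R) (inZ r v)
    (refl (qS r R) (inH j (d ^ 2)) (refl (qS r R) (inZ r (d • v)) X))) = _
  rw [refl_inZ, refl_inH hc, refl_inZ, refl_inH one_ne_zero]
  have hrefl : ∀ z, refl R v (refl R (d • v) z) = z := fun z => by
    have e : refl R (d • v) z = refl R v z := by
      rw [refl_apply, refl_apply, hw, hv, polar_smul_left, smul_smul]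
      congr 2
      simp only [smul_eq_mul]
      field_simp
    rw [e]
    exact reflMap_involutive R v z
  refine Prod.ext ?_ (Prod.ext ?_ (hrefl _))
  · funext i
    dsimp only
    rw [mulVec_diagonal]
    by_cases hi : i = j
    · subst hi; simp
    · simp [hi]
  · funext i
    dsimp only
    rw [mulVec_diagonal]
    by_cases hi : i = j
    · subst hi; simp; field_simp
    · simp [hi]

/-- The square torus moves the first root subgroup of the radical. -/
theorem exists_moving (hR : Nondeg R) (hr : 3 ≤ r) {v : κ → F} (hv : R v = 1) {u : Fˣ}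
    (hu : (u : F) ^ 2 ≠ 1) (ρ : Representation ℂ (EG (qS r R)) M) (c : F) :
    ∃ (τ : EG (qS r R)) (σ : (κ → F) → (κ → F)),
      Function.Surjective (fun n => σ n - n) ∧
      (∀ z ∈ (modelSiegel R hR (show 2 ≤ r by omega)).D ρ ψ
          (c • altE (bv F 1 (by omega)) (bv F 2 (by omega))),
        ρ τ z ∈ (modelSiegel R hR (show 2 ≤ r by omega)).D ρ ψ
          (c • altE (bv F 1 (by omega)) (bv F 2 (by omega)))) ∧
      ∀ n, τ * (modelSiegel R hR (show 2 ≤ r by omega)).Qv (bv F 0 (by omega)) n =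
        (modelSiegel R hR (show 2 ≤ r by omega)).Qv (bv F 0 (by omega)) (σ n) * τ := by
  set k : Fin r := ⟨0, by omega⟩ with hk
  obtain ⟨τ, hτm, hτ⟩ := exists_tor_sq hR hr hv k u.ne_zero
  have hgh : (diagonal (Function.update (1 : Fin r → F) k ((u : F) ^ 2)⁻¹))ᵀ *
      diagonal (Function.update (1 : Fin r → F) k ((u : F) ^ 2)) = 1 := by
    rw [diagonal_transpose, diagonal_mul_diagonal, ← diagonal_one]
    congr 1
    funext i
    by_cases hi : i = k
    · subst hi; simp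
    · simp [hi]
  have hsingle : ∀ (x : Fin r), x ≠ k → ∀ a : F,
      diagonal (Function.update (1 : Fin r → F) k a) *ᵥ Pi.single x 1 = Pi.single x 1 := by
    intro x hx a
    funext y
    rw [mulVec_diagonal]
    by_cases hy : y = x
    · subst hy; simp [hx]
    · simp [hy]
  refine ⟨⟨τ, hτm⟩, fun n => (u : F) ^ 2 • n, fun n => ⟨((u : F) ^ 2 - 1)⁻¹ • n, ?_⟩,
    fun z hz => ?_, fun n => Subtype.ext ?_⟩
  · show (u : F) ^ 2 • ((u : F) ^ 2 - 1)⁻¹ • n - ((u : F) ^ 2 - 1)⁻¹ • n = n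
    rw [smul_smul, ← sub_smul, show (u : F) ^ 2 * ((u : F) ^ 2 - 1)⁻¹ - ((u : F) ^ 2 - 1)⁻¹ = 1 by
      have := sub_ne_zero.2 hu
      field_simp, one_smul]
  · have := (modelSiegel R hR (show 2 ≤ r by omega)).map_D ρ ψ (τ := ⟨τ, hτm⟩)
      (g := diagonal (Function.update (1 : Fin r → F) k ((u : F) ^ 2)))
      (h := diagonal (Function.update (1 : Fin r → F) k ((u : F) ^ 2)⁻¹))
      (fun A => Subtype.ext (hτ.zh hgh A)) hgh hz
    rwa [congA_smul, congA_altE, hsingle _ (by simp [hk]), hsingle _ (by simp [hk])] at this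
  · have e := hτ.qv (Pi.single k 1 : Fin r → F) n
    have e2 : diagonal (Function.update (1 : Fin r → F) k ((u : F) ^ 2)) *ᵥ Pi.single k 1 =
        (u : F) ^ 2 • (Pi.single k 1 : Fin r → F) := by
      funext y
      rw [mulVec_diagonal]
      by_cases hy : y = k
      · subst hy; simp
      · simp [hy]
    rw [e2, qvO_smul] at e
    exact e

theorem numDec_ge (q r : ℕ) (hr : 2 ≤ r) : (q ^ (r - 1) - 1) * q ^ (r - 2) ≤ numDec q r := by
  obtain ⟨s, rfl⟩ : ∃ s, r = s + 1 := ⟨r - 1, by omega⟩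
  rw [numDec, Finset.sum_range_succ']
  exact Nat.le_add_left _ _

end Cfsg.Agent.Lib.OrthDeg48
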