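import Cfsg.Agent.Lib.OrthDeg48.Data

/-!
Fixed points of a group permuting the eigenspaces of an abelian subgroup.
-/

set_option autoImplicit false
set_option linter.unusedSectionVars false

namespace Cfsg.Agent.Lib.OrthDeg48

open Module Cfsg.Agent.Lib.UniDeg48 Cfsg.Agent.Lib.MinDegree

variable {G : Type*} [Group G] {V : Type*} [AddCommGroup V] [Module ℂ V]
variable (ρ : Representation ℂ G V) {Z : Type*} [AddCommGroup Z] [Fintype Z]
variable (zh : Multiplicative Z →* G)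

theorem eigenProj_isProj (χ : AddChar Z ℂ) :
    LinearMap.IsProj (eigSub ρ zh χ) (eigenProj ρ zh χ) := by
  refine ⟨fun v => range_eigenProj ρ zh χ ▸ LinearMap.mem_range_self _ v, fun v hv => ?_⟩
  rw [mem_eigSub] at hv
  rw [eigenProj_apply]
  simp only [hv, smul_smul, ← AddChar.map_add_eq_mul, neg_add_cancel, AddChar.map_zero_eq_one,
    one_smul, Finset.sum_const, Finset.card_univ]
  rw [← Nat.cast_smul_eq_nsmul ℂ, smul_smul,
    inv_mul_cancel₀ (Nat.cast_ne_zero.2 Fintype.card_ne_zero), one_smul]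

theorem eigenProj_eq_zero {χ χ' : AddChar Z ℂ} (h : χ' ≠ χ) {v : V} (hv : v ∈ eigSub ρ zh χ') :
    eigenProj ρ zh χ v = 0 := by
  classical
  rw [mem_eigSub] at hv
  rw [eigenProj_apply]
  simp only [hv, smul_smul, ← Finset.sum_smul]
  have hsum : ∑ a : Z, χ (-a) * χ' a = ∑ a : Z, (χ' - χ) a := by
    refine Finset.sum_congr rfl fun a _ => ?_
    rw [AddChar.sub_apply, mul_comm, AddChar.map_neg_eq_inv]
  rw [hsum, AddChar.sum_eq_ite, if_neg (fun e => h (sub_eq_zero.1 e)), mul_zero, zero_smul]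

variable {A : Type*} [AddCommGroup A] [Fintype A] (τ : Multiplicative A →* G)
variable [FiniteDimensional ℂ V]

theorem trace_moved {χ χ' : AddChar Z ℂ} (h : χ' ≠ χ) (g : G)
    (hg : ∀ z ∈ eigSub ρ zh χ, ρ g z ∈ eigSub ρ zh χ') :
    LinearMap.trace ℂ V (eigenProj ρ zh χ * ρ g) = 0 := by
  have hp := eigenProj_isProj ρ zh χ
  have hidem : eigenProj ρ zh χ * eigenProj ρ zh χ = eigenProj ρ zh χ :=
    LinearMap.ext fun v => hp.map_id _ (hp.map_mem v)
  have h0 : eigenProj ρ zh χ * ρ g * eigenProj ρ zh χ = 0 :=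
    LinearMap.ext fun v => eigenProj_eq_zero ρ zh h (hg _ (hp.map_mem v))
  rw [← hidem, mul_assoc, LinearMap.trace_mul_comm, h0, map_zero]

theorem trace_fixed {χ : AddChar Z ℂ}
    (hg : ∀ a : A, ∀ z ∈ eigSub ρ zh χ, ρ (τ (Multiplicative.ofAdd a)) z ∈ eigSub ρ zh χ) :
    LinearMap.trace ℂ V (eigenProj ρ zh χ * eigenProj ρ τ 1) =
      finrank ℂ (eigSub ρ zh χ ⊓ eigSub ρ τ 1 : Submodule ℂ V) := by
  have hp := eigenProj_isProj ρ zh χ
  have hq := eigenProj_isProj ρ τ 1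
  have hinv : ∀ z ∈ eigSub ρ zh χ, eigenProj ρ τ 1 z ∈ eigSub ρ zh χ := by
    intro z hz
    rw [eigenProj_apply]
    exact Submodule.smul_mem _ _ (Submodule.sum_mem _ fun a _ =>
      Submodule.smul_mem _ _ (hg a z hz))
  have hidem : eigenProj ρ zh χ * eigenProj ρ zh χ = eigenProj ρ zh χ :=
    LinearMap.ext fun v => hp.map_id _ (hp.map_mem v)
  have h0 : eigenProj ρ zh χ * eigenProj ρ τ 1 * eigenProj ρ zh χ =
      eigenProj ρ τ 1 * eigenProj ρ zh χ :=
    LinearMap.ext fun v => hp.map_id _ (hinv _ (hp.map_mem v))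
  rw [← hidem, mul_assoc, LinearMap.trace_mul_comm, h0]
  refine LinearMap.IsProj.trace (p := eigSub ρ zh χ ⊓ eigSub ρ τ 1) ⟨fun v => ?_, fun v hv => ?_⟩
  · exact Submodule.mem_inf.2 ⟨hinv _ (hp.map_mem v), hq.map_mem _⟩
  · rw [Module.End.mul_apply, hp.map_id _ hv.1, hq.map_id _ hv.2]

/-- The dimension of the fixed space of a freely permuting group. -/
theorem card_mul_finrank_fixed (σ : A → AddChar Z ℂ → AddChar Z ℂ)
    (hσ : ∀ a χ, ∀ z ∈ eigSub ρ zh χ, ρ (τ (Multiplicative.ofAdd a)) z ∈ eigSub ρ zh (σ a χ))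
    (Fx : AddChar Z ℂ → Prop) [DecidablePred Fx] (hfix : ∀ a χ, Fx χ → σ a χ = χ)
    (hmov : ∀ a χ, a ≠ 0 → ¬ Fx χ → σ a χ ≠ χ) :
    Fintype.card A * finrank ℂ (eigSub ρ τ 1) =
      (∑ χ ∈ Finset.univ.filter Fx,
        Fintype.card A * finrank ℂ (eigSub ρ zh χ ⊓ eigSub ρ τ 1 : Submodule ℂ V)) +
      ∑ χ ∈ Finset.univ.filter (fun χ => ¬ Fx χ), finrank ℂ (eigSub ρ zh χ) := by
  classical
  have hA : (Fintype.card A : ℂ) ≠ 0 := Nat.cast_ne_zero.2 Fintype.card_ne_zero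
  have key : ((Fintype.card A * finrank ℂ (eigSub ρ τ 1) : ℕ) : ℂ) =
      ∑ χ : AddChar Z ℂ, (Fintype.card A : ℂ) *
        LinearMap.trace ℂ V (eigenProj ρ zh χ * eigenProj ρ τ 1) := by
    rw [← Finset.mul_sum, ← map_sum, ← Finset.sum_mul,
      show (∑ χ : AddChar Z ℂ, eigenProj ρ zh χ) = 1 from LinearMap.ext fun v => by
        rw [LinearMap.sum_apply, sum_eigenProj, Module.End.one_apply],
      one_mul, (eigenProj_isProj ρ τ 1).trace]
    push_cast
    rfl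
  have hmoved : ∀ χ, ¬ Fx χ → (Fintype.card A : ℂ) *
      LinearMap.trace ℂ V (eigenProj ρ zh χ * eigenProj ρ τ 1) =
        (finrank ℂ (eigSub ρ zh χ) : ℂ) := by
    intro χ hχ
    rw [show eigenProj ρ τ 1 = (Fintype.card A : ℂ)⁻¹ •
      ∑ a : A, (1 : AddChar A ℂ) (-a) • ρ (τ (Multiplicative.ofAdd a)) from rfl,
      mul_smul_comm, map_smul, smul_eq_mul, ← mul_assoc, mul_inv_cancel₀ hA, one_mul,
      Finset.mul_sum, map_sum]
    simp only [AddChar.one_apply, one_smul]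
    rw [Finset.sum_eq_single (0 : A)]
    · rw [ofAdd_zero, map_one, map_one, mul_one, (eigenProj_isProj ρ zh χ).trace]
    · exact fun a _ ha => trace_moved ρ zh (hmov a χ ha hχ) _ (hσ a χ)
    · simp
  rw [← Finset.sum_filter_add_sum_filter_not _ Fx, Finset.sum_congr rfl (fun χ hχ => show
      (Fintype.card A : ℂ) * LinearMap.trace ℂ V (eigenProj ρ zh χ * eigenProj ρ τ 1) =
        ((Fintype.card A * finrank ℂ (eigSub ρ zh χ ⊓ eigSub ρ τ 1 : Submodule ℂ V) : ℕ) : ℂ) by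
      rw [trace_fixed ρ zh τ fun a z hz => ?_]
      · push_cast; rfl
      · have := hσ a χ z hz
        rwa [hfix a χ (Finset.mem_filter.1 hχ).2] at this),
    Finset.sum_congr rfl (fun χ hχ => hmoved χ (Finset.mem_filter.1 hχ).2)] at key
  exact_mod_cast key

end Cfsg.Agent.Lib.OrthDeg48
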