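import Cfsg.Agent.Lib.OrthDeg48.Normal
import Cfsg.Agent.Lib.OrthDeg48.Perm

/-!
The Levi part acts non-trivially on the fixed space of the centre when the radical acts
irreducibly on every eigenspace.
-/

set_option autoImplicit false
set_option linter.unusedSectionVars false

namespace Cfsg.Agent.Lib.OrthDeg48

open Matrix Module Cfsg.Agent.Lib.SLDeg48 Cfsg.Agent.Lib.UniDeg48

variable {F : Type*} [Field F] {r : ℕ}

/-- A standard basis vector. -/
abbrev bv (F : Type*) [Field F] {r : ℕ} (i : ℕ) (h : i < r) : Fin r → F := Pi.single ⟨i, h⟩ 1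

theorem blk_inv {k : ℕ} {h : SL' r F} (hh : Blk k h) : Blk k h⁻¹ := by
  intro a b hab
  rcases hab with ha | hb
  · have := congrFun (congrFun (show h.1 * h⁻¹.1 = 1 from
      congrArg Subtype.val (mul_inv_cancel h)) a) b
    rw [Matrix.mul_apply, Finset.sum_eq_single a, hh a a (Or.inl ha), one_apply_eq, one_mul] at this
    · exact this
    · intro c _ hc; rw [hh a c (Or.inl ha), one_apply_ne hc.symm, zero_mul]
    · simp
  · have := congrFun (congrFun (show h⁻¹.1 * h.1 = 1 from
      congrArg Subtype.val (inv_mul_cancel h)) a) b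
    rw [Matrix.mul_apply, Finset.sum_eq_single b, hh b b (Or.inr hb), one_apply_eq, mul_one] at this
    · exact this
    · intro c _ hc; rw [hh c b (Or.inr hb), one_apply_ne hc, mul_zero]
    · simp

theorem blk_invT {k : ℕ} {h : SL' r F} (hh : Blk k h) : Blk k (invT r F h) := by
  intro a b hab
  show (h⁻¹).1ᵀ a b = _
  rw [transpose_apply, blk_inv hh b a hab.symm, Matrix.one_apply, Matrix.one_apply]
  simp [eq_comm]

variable {κ : Type*} [Fintype κ] {G : Type*} [Group G] (S : Siegel F r κ G)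
variable [Fintype F] {M : Type*} [AddCommGroup M] [Module ℂ M] [FiniteDimensional ℂ M]
variable (ρ : Representation ℂ G M)

namespace Siegel

variable {ψ : AddChar F ℂ}

/-- A Levi row element moves the eigenspace of `β` to that of a translate. -/
theorem map_D_row (k : Fin r) (y : tail F r k.val) {β : altM F r} {z : M}
    (hz : z ∈ S.D ρ ψ β) : ρ (S.L (row k y)) z ∈ S.D ρ ψ (β + altE (-y.1) (β.1 k)) := by
  have h := S.map_D_L ρ ψ (invT r F (row k y)) hz
  rw [invT_invT] at h
  have e : invT r F (row k y) = rk1 (-y.1) (Pi.single k 1)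
      (by rw [dotProduct_neg, single_dotProduct, one_mul, y.2 k le_rfl, neg_zero]) := invT_rk1 _ _ _
  rwa [e, congA_rk1] at h

theorem row_mulVec (k : Fin r) (y : tail F r k.val) (v : Fin r → F) :
    (row k y).1 *ᵥ v = v + (y.1 ⬝ᵥ v) • Pi.single k 1 := by
  show (rk1 (Pi.single k 1) y.1 (tail_dot_single y)).1 *ᵥ v = _
  rw [rk1_coe, add_mulVec, one_mulVec, vecMulVec_mulVec, op_smul_eq_smul]

variable (hr : 3 ≤ r) (hψ : ψ.IsPrimitive)
  (hone : ∀ (β : altM F r), β ≠ 0 → Dec β →
    finrank ℂ (S.D ρ ψ β) = Fintype.card F ^ Fintype.card κ)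

include hψ hone in
theorem finrank_Fix_eq_one {β : altM F r} (hβ : β ≠ 0) (hdec : Dec β) {u w : Fin r → F}
    (hc : pairA β (altE w u) ≠ 0) : finrank ℂ (S.Fix ρ ψ β u) = 1 := by
  have h1 := S.finrank_D ρ hψ hc
  rw [hone β hβ hdec] at h1
  conv_lhs at h1 => rw [← mul_one (Fintype.card F ^ Fintype.card κ)]
  exact (Nat.eq_of_mul_eq_mul_left (Nat.pow_pos Fintype.card_pos) h1).symm

variable (hχ : ∀ c : F, ∃ (τ : G) (σ : (κ → F) → (κ → F)),
    Function.Surjective (fun n => σ n - n) ∧
    (∀ z ∈ S.D ρ ψ (c • altE (bv F 1 (by omega)) (bv F 2 (by omega))),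
      ρ τ z ∈ S.D ρ ψ (c • altE (bv F 1 (by omega)) (bv F 2 (by omega)))) ∧
    ∀ n, τ * S.Qv (bv F 0 (by omega)) n = S.Qv (bv F 0 (by omega)) (σ n) * τ)
  (hΛ : ∀ c : F, c ≠ 0 → ∀ h4 : r = 4, (∃ (τ : G) (a : F), a ≠ 1 ∧
    (∀ z ∈ S.D ρ ψ (c • altE (bv F 1 (by omega)) (bv F 2 (by omega))),
      ρ τ z ∈ S.D ρ ψ (c • altE (bv F 1 (by omega)) (bv F 2 (by omega)))) ∧
    ∀ t : F, τ * S.L (row ⟨0, by omega⟩ ⟨Pi.single ⟨3, by omega⟩ t,
      single_mem_tail (by show 0 < 3; omega) t⟩) =
      S.L (row ⟨0, by omega⟩ ⟨Pi.single ⟨3, by omega⟩ (a * t),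
        single_mem_tail (by show 0 < 3; omega) (a * t)⟩) * τ) ∨
    ∀ t : F, ∀ z ∈ S.D ρ ψ (c • altE (bv F 1 (by omega)) (bv F 2 (by omega))),
      ρ (S.L (row ⟨0, by omega⟩ ⟨Pi.single ⟨3, by omega⟩ t,
        single_mem_tail (by show 0 < 3; omega) t⟩)) z = z)

set_option maxHeartbeats 800000 in
include hψ hone hχ hΛ in
/-- The first row subgroup of the Levi part fixes the standard eigenspaces with trivial first
row. -/
theorem row_trivial_std (y : tail F r 0) {c : F} (hc : c ≠ 0) :
    ∀ z ∈ S.D ρ ψ (c • altE (bv F 1 (by omega)) (bv F 2 (by omega))),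
      ρ (S.L (row ⟨0, by omega⟩ y)) z = z := by
  classical
  set k : Fin r := ⟨0, by omega⟩ with hk
  set v0 := bv F 0 (show 0 < r by omega) with hv0
  set v1 := bv F 1 (show 1 < r by omega) with hv1
  set v2 := bv F 2 (show 2 < r by omega) with hv2
  set β := c • altE v1 v2 with hβ
  have hβ12 : β.1 ⟨1, by omega⟩ ⟨2, by omega⟩ = c := by
    simp [hβ, hv1, hv2, altE_coe, alt2_apply]
  have hβ0 : β ≠ 0 := fun h => hc (by rw [← hβ12, h]; rfl)
  have hrow : ∀ j : Fin r, j.val ≠ 1 → j.val ≠ 2 → β.1 j = 0 := fun j h1 h2 => by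
    funext b
    simp [hβ, hv1, hv2, altE_coe, alt2_apply, Fin.ext_iff, h1, h2]
  have hdec : Dec β := ⟨c • v1, v2, by rw [hβ, altE_smul_left]⟩
  have hpair : pairA β (altE v2 v1) ≠ 0 := by
    rw [hv1, hv2, pairA_single, β.2.2, hβ12, neg_ne_zero]; exact hc
  have hperp : ∀ v : Fin r → F, pairA β (altE v v0) = 0 := fun v => by
    rw [pairA_altE, hv0, vecMul_altE_row (β := β), hrow _ (by simp) (by simp), neg_zero,
      dotProduct_zero]
  have hperp' : ∀ v : Fin r → F, pairA β (altE v0 v) = 0 := fun v => by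
    rw [altE_swap, ← neg_one_smul F, pairA_smul_right, hperp, mul_zero]
  have h1 := S.finrank_Fix_eq_one ρ hψ hone hβ0 hdec hpair
  obtain ⟨v, hv, hvn⟩ := Submodule.exists_mem_ne_zero_of_ne_bot
    (show S.Fix ρ ψ β v1 ≠ ⊥ from fun h => by rw [h, finrank_bot] at h1; omega)
  have hvD : v ∈ S.D ρ ψ β := ((S.mem_Fix ρ ψ).1 hv).1
  -- the radical root subgroup at the first basis vector
  have hQ0 : ∀ n, ∀ z ∈ S.D ρ ψ β, ρ (S.Qv v0 n) z = z := by
    obtain ⟨τ, σ, hσ, hτD, hτ⟩ := hχ c
    have hsc : ∀ n, ∃ a : ℂ, ∀ z ∈ S.D ρ ψ β, ρ (S.Qv v0 n) z = a • z := fun n => by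
      refine S.exists_scalar ρ hψ hpair h1 _ (fun z hz => S.map_D_Qv ρ ψ _ n hz) ?_ ?_
      all_goals
        intro m z hz
        rw [S.Qv_Qv ρ ψ hz, hperp, mul_zero, AddChar.map_zero_eq_one, one_smul]
    intro n z hz
    obtain ⟨m, rfl⟩ := hσ n
    obtain ⟨a, ha⟩ := hsc m
    obtain ⟨b, hb⟩ := hsc (σ m - m)
    have h2 : ρ (S.Qv v0 (σ m)) (ρ τ v) = a • ρ τ v := by
      rw [← Module.End.mul_apply, ← map_mul, ← hτ, map_mul, Module.End.mul_apply, ha v hvD,
        map_smul]
    have h3 : ρ (S.Qv v0 (σ m)) (ρ τ v) = (b * a) • ρ τ v := by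
      conv_lhs => rw [← sub_add_cancel (σ m) m, S.Qv_add, map_mul, Module.End.mul_apply,
        ha _ (hτD v hvD), map_smul, hb _ (hτD v hvD), smul_smul]
      rw [mul_comm]
    have ha0 : a ≠ 0 := by
      intro h0
      have := ha v hvD
      rw [h0, zero_smul, ← map_zero (ρ (S.Qv v0 m))] at this
      exact hvn (ρ_inj ρ _ this)
    have hτv : ρ τ v ≠ 0 := fun h => hvn (ρ_inj ρ τ (h.trans (map_zero _).symm))
    have hba : b * a = 1 * a := by
      rw [one_mul]
      exact smul_left_injective ℂ hτv (h3.symm.trans h2)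
    rw [hb z hz, mul_right_cancel₀ ha0 hba, one_smul]
  -- the row subgroup acts by scalars
  have hpres : ∀ y : tail F r 0, ∀ z ∈ S.D ρ ψ β, ρ (S.L (row k y)) z ∈ S.D ρ ψ β := by
    intro y z hz
    have := S.map_D_row ρ k y hz
    rwa [hrow k (by simp [hk]) (by simp [hk]), show altE (-y.1) (0 : Fin r → F) = 0 from
      Subtype.ext (by simp [altE, alt2]), add_zero] at this
  have hscal : ∀ y : tail F r 0, ∃ a : ℂ, ∀ z ∈ S.D ρ ψ β, ρ (S.L (row k y)) z = a • z := by
    intro y
    refine S.exists_scalar ρ hψ hpair h1 _ (hpres y) ?_ ?_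
    all_goals
      intro n z hz
      rw [← Module.End.mul_apply, ← map_mul, S.L_Qv, map_mul, Module.End.mul_apply, row_mulVec,
        show (Pi.single k 1 : Fin r → F) = v0 from rfl, S.Qv_add_left_apply ρ ψ (hpres y z hz),
        altE_smul_right, pairA_smul_right, hperp, mul_zero, mul_zero, AddChar.map_zero_eq_one,
        one_smul, S.Qv_smul, hQ0 _ _ (hpres y z hz)]
  let N : AddSubgroup (tail F r 0) :=
    { carrier := {y | ∀ z ∈ S.D ρ ψ β, ρ (S.L (row k y)) z = z}
      zero_mem' := fun z _ => by rw [row_zero, map_one, map_one, Module.End.one_apply]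
      add_mem' := fun {a b} ha hb z hz => by
        rw [row_add, map_mul, map_mul, Module.End.mul_apply, hb z hz, ha z hz]
      neg_mem' := fun {a} ha z hz => by
        refine ρ_inj ρ (S.L (row k a)) ?_
        rw [← Module.End.mul_apply, ← map_mul, ← map_mul, ← row_add, add_neg_cancel, row_zero,
          map_one, map_one, Module.End.one_apply, ha z hz] }
  have hsub : ∀ (τ : G) (y y' : tail F r 0), (∀ z ∈ S.D ρ ψ β, ρ τ z ∈ S.D ρ ψ β) →
      τ * S.L (row k y') = S.L (row k y) * τ → y' - y ∈ N := by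
    intro τ y y' hτ he z hz
    obtain ⟨a, ha⟩ := hscal y
    obtain ⟨a', ha'⟩ := hscal y'
    obtain ⟨b, hb⟩ := hscal (y' - y)
    have hτv : ρ τ v ≠ 0 := fun h => hvn (ρ_inj ρ τ (h.trans (map_zero _).symm))
    have h2 : a' • ρ τ v = a • ρ τ v := by
      rw [← map_smul, ← ha' v hvD, ← Module.End.mul_apply, ← map_mul, he, map_mul,
        Module.End.mul_apply, ha _ (hτ v hvD)]
    have h3 : ρ (S.L (row k y')) v = (b * a) • v := by
      conv_lhs => rw [← sub_add_cancel y' y, row_add, map_mul, map_mul, Module.End.mul_apply,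
        ha v hvD, map_smul, hb v hvD, smul_smul]
      rw [mul_comm]
    rw [ha' v hvD] at h3
    have hba : b * a = 1 * a := by
      rw [one_mul]
      exact (smul_left_injective ℂ hvn h3).symm.trans (smul_left_injective ℂ hτv h2)
    have ha0 : a ≠ 0 := by
      intro h0
      have := ha v hvD
      rw [h0, zero_smul, ← map_zero (ρ (S.L (row k y)))] at this
      exact hvn (ρ_inj ρ _ this)
    rw [hb z hz, mul_right_cancel₀ ha0 hba, one_smul]
  -- conjugation by a transvection fixing `β`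
  have htr : ∀ (p q : Fin r) (hp : 0 < p.val) (hq : 0 < q.val) (hpq : p ≠ q) (s : F),
      (∀ z ∈ S.D ρ ψ β, ρ (S.L (SpecialLinearGroup.transvection hpq s)) z ∈ S.D ρ ψ β) →
      (⟨Pi.single q s, single_mem_tail hq s⟩ : tail F r 0) ∈ N := by
    intro p q hp hq hpq s hD
    obtain ⟨y', h1', h2'⟩ := row_mul_blk (k := k)
      (blk_transvection hpq (show 1 ≤ p.val from hp) (show 1 ≤ q.val from hq) s)
      ⟨Pi.single p 1, single_mem_tail hp 1⟩
    have hy : y'.1 = Pi.single p 1 + Pi.single q s := by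
      rw [h2', SpecialLinearGroup.transvection_coe, vecMul_add, vecMul_one]
      congr 1
      funext b
      rw [single_vecMul, Pi.smul_apply, smul_eq_mul, one_mul]
      simp [Matrix.single_apply, Pi.single_apply, eq_comm]
    have := hsub _ ⟨Pi.single p 1, single_mem_tail hp 1⟩ y' hD (by rw [← map_mul, ← map_mul, h1'])
    have e : (⟨Pi.single q s, single_mem_tail hq s⟩ : tail F r 0) =
        y' - ⟨Pi.single p 1, single_mem_tail hp 1⟩ :=
      Subtype.ext (by show Pi.single q s = y'.1 - Pi.single p 1; rw [hy, add_sub_cancel_left])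
    rw [e]; exact this
  have hD12 : ∀ (p q : Fin r) (hpq : p ≠ q) (s : F), altE (-Pi.single q s) (β.1 p) = 0 →
      ∀ z ∈ S.D ρ ψ β, ρ (S.L (SpecialLinearGroup.transvection hpq s)) z ∈ S.D ρ ψ β := by
    intro p q hpq s h0 z hz
    have hdot : (Pi.single q s : Fin r → F) ⬝ᵥ Pi.single p 1 = 0 := by simp [hpq, hpq.symm]
    have e : SpecialLinearGroup.transvection hpq s = rk1 (Pi.single p 1) (Pi.single q s) hdot := by
      apply Subtype.ext
      ext a b
      rw [rk1_apply, SpecialLinearGroup.transvection_coe, Matrix.add_apply, Matrix.single_apply]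
      simp only [Pi.single_apply]
      grind
    have := S.map_D_L ρ ψ (invT r F (SpecialLinearGroup.transvection hpq s)) hz
    rw [invT_invT, e, invT_rk1, congA_rk1, h0, add_zero] at this
    rwa [e]
  have hmem1 : ∀ (j : Fin r) (hj : 0 < j.val) (s : F),
      (⟨Pi.single j s, single_mem_tail hj s⟩ : tail F r 0) ∈ N := by
    intro j hj s
    by_cases h2 : j.val = 2
    · refine htr ⟨1, by omega⟩ j Nat.one_pos hj (fun e => by rw [← e] at h2; simp at h2) s
        (hD12 _ _ _ s ?_)
      rw [show j = ⟨2, by omega⟩ from Fin.ext h2, show β.1 ⟨1, by omega⟩ = c • v2 by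
          funext b
          simp [hβ, hv1, hv2, altE_coe, alt2_apply, Pi.single_apply]
          try (split_ifs <;> simp),
        show (-(Pi.single (⟨2, by omega⟩ : Fin r) s) : Fin r → F) = (-s) • v2 by
          simp [hv2, ← Pi.single_smul', ← Pi.single_neg],
        altE_smul_left, altE_smul_right, altE_self, smul_zero, smul_zero]
    by_cases h1' : j.val = 1
    · refine htr ⟨2, by omega⟩ j (show 0 < 2 by omega) hj (fun e => by rw [← e] at h1'; simp at h1')
        s (hD12 _ _ _ s ?_)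
      rw [show j = ⟨1, by omega⟩ from Fin.ext h1', show β.1 ⟨2, by omega⟩ = (-c) • v1 by
          funext b
          simp [hβ, hv1, hv2, altE_coe, alt2_apply, Pi.single_apply]
          try (split_ifs <;> simp),
        show (-(Pi.single (⟨1, by omega⟩ : Fin r) s) : Fin r → F) = (-s) • v1 by
          simp [hv1, ← Pi.single_smul', ← Pi.single_neg],
        altE_smul_left, altE_smul_right, altE_self, smul_zero, smul_zero]
    by_cases h5 : ∃ p : Fin r, 3 ≤ p.val ∧ p ≠ j
    · obtain ⟨p, hp, hpj⟩ := h5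
      refine htr p j (by omega) hj hpj s (hD12 _ _ _ s ?_)
      rw [hrow p (by omega) (by omega)]
      exact Subtype.ext (by simp [altE, alt2])
    push Not at h5
    have hr4 : r = 4 := by
      by_contra hne
      have hj3 : 3 ≤ j.val := by omega
      have hjr := j.isLt
      have e3 : 3 = j.val := congrArg Fin.val (h5 ⟨3, by omega⟩ le_rfl)
      have e4 : 4 = j.val := congrArg Fin.val (h5 ⟨4, by omega⟩ (show 3 ≤ 4 by omega))
      omega
    have h3r : 3 < r := hr4 ▸ (show 3 < 4 by omega)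
    obtain rfl : j = ⟨3, h3r⟩ := Fin.ext (by show j.val = 3; have := j.isLt; omega)
    rcases hΛ c hc hr4 with ⟨τ, a, ha, hτD, hτ⟩ | hall
    swap
    · exact hall s
    have ha' : (1 : F) - a ≠ 0 := sub_ne_zero.2 (Ne.symm ha)
    have := hsub τ ⟨Pi.single ⟨3, by omega⟩ (a * (s / (1 - a))), single_mem_tail hj _⟩
      ⟨Pi.single ⟨3, by omega⟩ (s / (1 - a)), single_mem_tail hj _⟩ hτD (hτ _)
    have e : (⟨Pi.single ⟨3, by omega⟩ s, single_mem_tail hj s⟩ : tail F r 0) =
        ⟨Pi.single ⟨3, by omega⟩ (s / (1 - a)), single_mem_tail hj _⟩ -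
          ⟨Pi.single ⟨3, by omega⟩ (a * (s / (1 - a))), single_mem_tail hj _⟩ :=
      Subtype.ext (by
        show (Pi.single _ s : Fin r → F) = Pi.single _ _ - Pi.single _ _
        rw [← Pi.single_sub]
        congr 1
        field_simp)
    rw [e]; exact this
  have hall : y ∈ N := by
    have e : y = ∑ j : Fin r, if hj : 0 < j.val then
        (⟨Pi.single j (y.1 j), single_mem_tail hj _⟩ : tail F r 0) else 0 := by
      apply Subtype.ext
      rw [Submodule.coe_sum]
      funext b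
      rw [Finset.sum_apply, Finset.sum_eq_single b]
      · split_ifs with hb
        · simp
        · simp [y.2 b (by omega)]
      · intro j _ hj
        split_ifs <;> simp [hj, Ne.symm hj]
      · simp
    rw [e]
    refine sum_mem fun j _ => ?_
    split_ifs with hj
    · exact hmem1 j hj _
    · exact zero_mem N
  exact hall

include hψ hone hχ hΛ in
/-- The first row subgroup fixes the eigenspaces of matrices with trivial first row. -/
theorem row_trivial (y : tail F r 0) {β : altM F r} (hβ : β ≠ 0) (hdec : Dec β)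
    (hrow : β.1 ⟨0, by omega⟩ = 0) :
    ∀ z ∈ S.D ρ ψ β, ρ (S.L (row ⟨0, by omega⟩ y)) z = z := by
  obtain ⟨h, c, hb, hc, he⟩ := dec_normal (k := ⟨1, by omega⟩) (show 1 + 1 < r by omega) hβ hdec
    (fun a ha => by rw [show a = ⟨0, by omega⟩ from Fin.ext (Nat.lt_one_iff.1 ha)]; exact hrow)
  intro z hz
  have hz' := S.map_D_L ρ ψ h hz
  rw [he] at hz'
  obtain ⟨y', h1, -⟩ := row_mul_blk (k := (⟨0, by omega⟩ : Fin r))
    (blk_inv (blk_invT hb)) y
  refine ρ_inj ρ (S.L (invT r F h)) ?_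
  have e : S.L (invT r F h) * S.L (row ⟨0, by omega⟩ y) =
      S.L (row ⟨0, by omega⟩ y') * S.L (invT r F h) := by
    rw [← map_mul, ← map_mul]
    congr 1
    have := congrArg (fun g => invT r F h * g * invT r F h) h1
    simp only [mul_assoc, inv_mul_cancel, mul_one, mul_inv_cancel_left] at this
    exact this
  rw [← Module.End.mul_apply, ← map_mul, e, map_mul, Module.End.mul_apply]
  exact S.row_trivial_std ρ hr hψ hone hχ hΛ y' hc _ hz'

include hψ hone in
/-- The root subgroup has a fixed vector in the standard eigenspace. -/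
theorem exists_fixed_std (hQ0 : Function.Surjective S.Q0) :
    ∃ z : M, z ≠ 0 ∧ z ∈ S.D ρ ψ (altE (bv F 0 (by omega)) (bv F 1 (by omega))) ∧
      ∀ t : F, ρ (S.L (row ⟨0, by omega⟩ ⟨Pi.single ⟨1, by omega⟩ t,
        single_mem_tail (show 0 < 1 by omega) t⟩)) z = z := by
  classical
  set k : Fin r := ⟨0, by omega⟩ with hk
  set i : Fin r := ⟨1, by omega⟩ with hi
  set v0 := bv F 0 (show 0 < r by omega) with hv0
  set v1 := bv F 1 (show 1 < r by omega) with hv1
  set β := altE v0 v1 with hβ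
  have hki : k ≠ i := fun e => by simp [hk, hi, Fin.ext_iff] at e
  have hrow : β.1 k = v1 := by
    funext b
    simp [hβ, hv0, hv1, altE_coe, alt2_apply, hk, hi, Fin.ext_iff, Pi.single_apply]
  have hp : pairA β (altE v1 v0) = -1 := by
    rw [hv0, hv1, pairA_single, β.2.2]
    show -(β.1 k i) = -1
    rw [hrow, hv1]; simp [hi]
  have hβ0 : β ≠ 0 := fun h => by
    have := congrFun hrow i
    rw [h] at this; simp [hv1, hi] at this
  have h1 := S.finrank_Fix_eq_one ρ hψ hone hβ0 ⟨v0, v1, rfl⟩ (u := v0) (w := v1)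
    (by rw [hp]; exact neg_ne_zero.2 one_ne_zero)
  obtain ⟨v, hv, hvn⟩ := Submodule.exists_mem_ne_zero_of_ne_bot
    (show S.Fix ρ ψ β v0 ≠ ⊥ from fun h => by rw [h, finrank_bot] at h1; omega)
  set X : F → G := fun t => S.L (row k ⟨Pi.single i t, single_mem_tail (show 0 < 1 by omega) t⟩)
    with hX
  have hgv : ∀ t : F, (row k (⟨Pi.single i t, single_mem_tail (show 0 < 1 by omega) t⟩ :
      tail F r k.val)).1 *ᵥ v0 = v0 := fun t => by
    rw [row_mulVec]; simp [hv0, hi, Fin.ext_iff]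
  have hgv1 : ∀ t : F, (row k (⟨Pi.single i t, single_mem_tail (show 0 < 1 by omega) t⟩ :
      tail F r k.val)).1 *ᵥ v1 = v1 + t • v0 := fun t => by
    rw [row_mulVec]; simp [hv1, hi, hv0, hk]
  have hXD : ∀ t, ∀ z ∈ S.D ρ ψ β, ρ (X t) z ∈ S.D ρ ψ β := fun t z hz => by
    have := S.map_D_row ρ k
      (⟨Pi.single i t, single_mem_tail (show 0 < 1 by omega) t⟩ : tail F r k.val) hz
    rw [hrow, show (-(Pi.single i t : Fin r → F)) = (-t) • v1 by
      rw [← Pi.single_neg, hv1, ← Pi.single_smul', smul_eq_mul, mul_one], altE_smul_left, altE_self,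
      smul_zero, add_zero] at this
    exact this
  rw [mem_Fix] at hv
  have hXv : ∀ t, ∃ a : ℂ, ρ (X t) v = a • v := fun t => by
    have hmem : ρ (X t) v ∈ S.Fix ρ ψ β v0 := by
      rw [mem_Fix]
      refine ⟨hXD t v hv.1, fun n => ?_⟩
      have := S.L_Qv (row k ⟨Pi.single i t, single_mem_tail (show 0 < 1 by omega) t⟩) v0 n
      rw [hgv] at this
      rw [← Module.End.mul_apply, ← map_mul, ← this, map_mul, Module.End.mul_apply, hv.2]
    obtain ⟨a, ha⟩ := (finrank_eq_one_iff_of_nonzero'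
      (⟨v, (S.mem_Fix ρ ψ).2 hv⟩ : S.Fix ρ ψ β v0)
      (fun e => hvn (congrArg Subtype.val e))).1 h1 ⟨_, hmem⟩
    exact ⟨a, (congrArg Subtype.val ha).symm⟩
  choose a ha using hXv
  have hXadd : ∀ s t, X (s + t) = X s * X t := fun s t => by
    rw [hX]
    show S.L _ = S.L _ * S.L _
    rw [← map_mul, ← row_add]
    congr 2
    exact Subtype.ext (by
      show (Pi.single i (s + t) : Fin r → F) = Pi.single i s + Pi.single i t
      exact Pi.single_add (f := fun _ : Fin r => F) i s t)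
  let χ : AddChar F ℂ :=
    { toFun := a
      map_zero_eq_one' := by
        have h0 : X 0 * X 0 = X 0 := by rw [← hXadd, add_zero]
        refine smul_left_injective ℂ hvn ?_
        show a 0 • v = (1 : ℂ) • v
        rw [← ha, mul_eq_left.1 h0, map_one, Module.End.one_apply, one_smul]
      map_add_eq_mul' := fun s t => by
        refine smul_left_injective ℂ hvn ?_
        show a (s + t) • v = (a s * a t) • v
        rw [← ha, hXadd, map_mul, Module.End.mul_apply, ha, map_smul, ha, smul_smul, mul_comm] }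
  obtain ⟨s, hs⟩ : ∃ s, ψ.mulShift s = χ := by
    refine ((Fintype.bijective_iff_injective_and_card (fun s : F => ψ.mulShift s)).2
      ⟨AddChar.to_mulShift_inj_of_isPrimitive hψ, ?_⟩).2 χ
    exact AddChar.card_eq.symm
  obtain ⟨m, hm⟩ := hQ0 s
  refine ⟨ρ (S.Qv v1 m) v, fun h => hvn (ρ_inj ρ _ (h.trans (map_zero _).symm)),
    S.map_D_Qv ρ ψ _ _ hv.1, fun t => ?_⟩
  show ρ (X t) (ρ (S.Qv v1 m) v) = _
  rw [← Module.End.mul_apply, ← map_mul]
  show ρ (S.L (row k ⟨Pi.single i t, single_mem_tail (show 0 < 1 by omega) t⟩) * S.Qv v1 m) v = _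
  rw [S.L_Qv, hgv1, map_mul, Module.End.mul_apply]
  show ρ (S.Qv (v1 + t • v0) m) (ρ (X t) v) = _
  rw [ha, map_smul, S.Qv_add_left_apply ρ ψ hv.1, S.Qv_smul, hv.2, altE_smul_right,
    pairA_smul_right, hp, smul_smul,
    show a t = ψ (s * t) from (DFunLike.congr_fun hs t).symm, ← AddChar.map_add_eq_mul, hm]
  rw [show s * t + s * (t * -1) = 0 by ring, AddChar.map_zero_eq_one, one_smul]

end Siegel

end Cfsg.Agent.Lib.OrthDeg48
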