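import Cfsg.Agent.Lib.OrthDeg48.Nontriv
import Cfsg.Agent.Lib.SLDeg48.Main
import Cfsg.Agent.Lib.OrthDeg48.Count2
import Cfsg.Agent.Lib.Characters.Basic

/-!
The abstract lower bound from a Siegel parabolic.
-/

set_option autoImplicit false
set_option linter.unusedSectionVars false

namespace Cfsg.Agent.Lib.OrthDeg48

open Matrix Module Cfsg.Agent.Lib.SLDeg48 Cfsg.Agent.Lib.UniDeg48

section Rep

universe u

variable {G : Type*} [Group G] {M : Type u} [AddCommGroup M] [Module ℂ M]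

/-- The restriction of a representation to an invariant subspace. -/
def subRep (σ : Representation ℂ G M) (W : Submodule ℂ M) (hW : ∀ g, ∀ z ∈ W, σ g z ∈ W) :
    Representation ℂ G W where
  toFun g := (σ g).restrict (hW g)
  map_one' := by
    apply LinearMap.ext; intro w; apply Subtype.ext
    show σ 1 w.1 = w.1
    rw [map_one, Module.End.one_apply]
  map_mul' g h := by
    apply LinearMap.ext; intro w; apply Subtype.ext
    show σ (g * h) w.1 = σ g (σ h w.1)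
    rw [map_mul, Module.End.mul_apply]

theorem subRep_apply (σ : Representation ℂ G M) (W : Submodule ℂ M)
    (hW : ∀ g, ∀ z ∈ W, σ g z ∈ W) (g : G) (w : W) : (subRep σ W hW g w).1 = σ g w.1 := rfl

/-- A non-zero finite dimensional representation has an irreducible subrepresentation. -/
theorem exists_irreducible_sub :
    ∀ (d : ℕ) {M : Type u} [AddCommGroup M] [Module ℂ M] [FiniteDimensional ℂ M]
      (σ : Representation ℂ G M), finrank ℂ M = d → 0 < d →
      ∃ (W : Submodule ℂ M) (hW : ∀ g, ∀ z ∈ W, σ g z ∈ W), (subRep σ W hW).IsIrreducible := by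
  intro d M _ _ _ σ hd hd0
  classical
  obtain ⟨W, ⟨hWi, hW0⟩, hmin⟩ : ∃ W : Submodule ℂ M,
      ((∀ g, ∀ z ∈ W, σ g z ∈ W) ∧ W ≠ ⊥) ∧
      ∀ U : Submodule ℂ M, ((∀ g, ∀ z ∈ U, σ g z ∈ U) ∧ U ≠ ⊥) → U ≤ W → U = W := by
    have htop : (⊤ : Submodule ℂ M) ≠ ⊥ := fun h => by
      have := congrArg (fun U : Submodule ℂ M => finrank ℂ U) h
      simp at this
      omega
    obtain ⟨n, hn⟩ : ∃ n, Nat.find (p := fun n => ∃ U : Submodule ℂ M,
        ((∀ g, ∀ z ∈ U, σ g z ∈ U) ∧ U ≠ ⊥) ∧ finrank ℂ U = n)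
        ⟨_, ⊤, ⟨fun _ _ _ => Submodule.mem_top, htop⟩, rfl⟩ = n := ⟨_, rfl⟩
    have hspec := Nat.find_spec (p := fun n => ∃ U : Submodule ℂ M,
        ((∀ g, ∀ z ∈ U, σ g z ∈ U) ∧ U ≠ ⊥) ∧ finrank ℂ U = n)
        ⟨_, ⊤, ⟨fun _ _ _ => Submodule.mem_top, htop⟩, rfl⟩
    obtain ⟨W, hW, hWn⟩ := hspec
    refine ⟨W, hW, fun U hU hle => Submodule.eq_of_le_of_finrank_le hle ?_⟩
    rw [hWn]
    exact Nat.find_min' _ ⟨U, hU, rfl⟩
  refine ⟨W, hWi, ?_⟩
  have hbot : (⊥ : Subrepresentation (subRep σ W hWi)) ≠ ⊤ := by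
    intro h
    have h1 : (⊥ : Submodule ℂ W) = ⊤ := congrArg Subrepresentation.toSubmodule h
    refine hW0 ((Submodule.eq_bot_iff W).2 fun x hx => ?_)
    have h2 : (⟨x, hx⟩ : W) ∈ (⊥ : Submodule ℂ W) := h1 ▸ Submodule.mem_top
    exact congrArg Subtype.val ((Submodule.mem_bot ℂ).1 h2)
  have : Nontrivial (Subrepresentation (subRep σ W hWi)) := ⟨⟨⊥, ⊤, hbot⟩⟩
  refine ⟨fun U => ?_⟩
  by_cases hU : U = ⊥
  · exact Or.inl hU
  refine Or.inr ?_
  have hmap := hmin (U.toSubmodule.map W.subtype) ⟨?_, ?_⟩ (Submodule.map_subtype_le W _)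
  · apply Subrepresentation.toSubmodule_injective
    apply Submodule.map_injective_of_injective W.injective_subtype
    rw [hmap]
    show W = Submodule.map W.subtype ⊤
    rw [Submodule.map_top, Submodule.range_subtype]
  · rintro g z ⟨u, hu, rfl⟩
    exact ⟨subRep σ W hWi g u, U.apply_mem_toSubmodule g hu, rfl⟩
  · intro h
    refine hU (Subrepresentation.toSubmodule_injective ?_)
    show U.toSubmodule = ⊥
    apply Submodule.map_injective_of_injective W.injective_subtype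
    rw [h, Submodule.map_bot]

end Rep

variable {F : Type*} [Field F] [Fintype F] {r : ℕ}

/-- A representation of `SL_r` without fixed vectors is large. -/
theorem bound_of_no_fixed (hr : 3 ≤ r)
    (hex : (r, Fintype.card F) ≠ (3, 2) ∧ (r, Fintype.card F) ≠ (3, 4) ∧
      (r, Fintype.card F) ≠ (4, 2) ∧ (r, Fintype.card F) ≠ (4, 3))
    {W : Type*} [AddCommGroup W] [Module ℂ W] [FiniteDimensional ℂ W]
    (σ : Representation ℂ (SL' r F) W) (hW : 0 < finrank ℂ W)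
    (hfix : ∀ z : W, (∀ g, σ g z = z) → z = 0) :
    ∑ i ∈ Finset.range (r - 1), Fintype.card F ^ (i + 1) ≤ finrank ℂ W := by
  obtain ⟨U, hU, hirr⟩ := exists_irreducible_sub (finrank ℂ W) σ rfl hW
  have hfixU : ∀ z : U, (∀ g, subRep σ U hU g z = z) → z = 0 := fun z hz =>
    Subtype.ext (hfix z.1 fun g => congrArg Subtype.val (hz g))
  haveI := hirr
  have hU0 : 0 < finrank ℂ U := Characters.Basic.finrank_pos_of_isIrreducible (subRep σ U hU)
  rcases lower_or (subRep σ U hU) hr hex hU0 hfixU with h | ⟨h3, h⟩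
  · exact h.trans (Submodule.finrank_le U)
  have hk : 2 ≤ finrank ℂ U := by
    have := Fintype.one_lt_card (α := F)
    have : 4 ≤ Fintype.card F ^ 2 := Nat.pow_le_pow_left this 2
    omega
  obtain ⟨τ, ⟨φ⟩⟩ := Characters.Basic.exists_fin_equiv (subRep σ U hU)
  have := lower_bound hr hex τ (Characters.Basic.isIrreducible_of_equiv φ hirr) hk
  rw [bound_eq (by omega)] at this
  exact this.trans (Submodule.finrank_le U)

variable {κ : Type*} [Fintype κ] {G : Type*} [Group G]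
variable {M : Type*} [AddCommGroup M] [Module ℂ M] [FiniteDimensional ℂ M]

namespace Siegel

variable (S : Siegel F r κ G) (ρ : Representation ℂ G M) {ψ : AddChar F ℂ}

theorem congA_zero (g : Matrix (Fin r) (Fin r) F) : congA g (0 : altM F r) = 0 :=
  Subtype.ext (by simp [congA])

theorem L_mem_D_zero (g : SL' r F) {z : M} (hz : z ∈ S.D ρ ψ 0) :
    ρ (S.L g) z ∈ S.D ρ ψ 0 := by
  have := S.map_D_L ρ ψ (invT r F g) hz
  rwa [invT_invT, congA_zero] at this

/-- The Levi representation on the fixed space of the centre. -/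
def levRep (ψ : AddChar F ℂ) : Representation ℂ (SL' r F) (S.D ρ ψ 0) :=
  subRep (ρ.comp S.L) (S.D ρ ψ 0) (fun g _ hz => S.L_mem_D_zero ρ g hz)

variable (hr : 3 ≤ r) (hψ : ψ.IsPrimitive)
  (hnt : ∃ A, ρ (S.Zh A) ≠ 1)
  (hχ : ∀ c : F, ∃ (τ : G) (σ : (κ → F) → (κ → F)),
    Function.Surjective (fun n => σ n - n) ∧
    (∀ z ∈ S.D ρ ψ (c • altE (bv F 1 (by omega)) (bv F 2 (by omega))),
      ρ τ z ∈ S.D ρ ψ (c • altE (bv F 1 (by omega)) (bv F 2 (by omega)))) ∧
    ∀ n, τ * S.Qv (bv F 0 (by omega)) n = S.Qv (bv F 0 (by omega)) (σ n) * τ)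
  (hΛ : (∀ (β : altM F r), β ≠ 0 → ¬ Dec β → finrank ℂ (S.D ρ ψ β) = 0) →
    (∀ (β : altM F r), β ≠ 0 → Dec β →
      finrank ℂ (S.D ρ ψ β) = Fintype.card F ^ Fintype.card κ) →
    ∀ c : F, c ≠ 0 → ∀ h4 : r = 4, (∃ (τ : G) (a : F), a ≠ 1 ∧
      (∀ z ∈ S.D ρ ψ (c • altE (bv F 1 (by omega)) (bv F 2 (by omega))),
        ρ τ z ∈ S.D ρ ψ (c • altE (bv F 1 (by omega)) (bv F 2 (by omega)))) ∧
      ∀ t : F, τ * S.L (row ⟨0, by omega⟩ ⟨Pi.single ⟨3, by omega⟩ t,
        single_mem_tail (by show 0 < 3; omega) t⟩) =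
        S.L (row ⟨0, by omega⟩ ⟨Pi.single ⟨3, by omega⟩ (a * t),
          single_mem_tail (by show 0 < 3; omega) (a * t)⟩) * τ) ∨
      ∀ t : F, ∀ z ∈ S.D ρ ψ (c • altE (bv F 1 (by omega)) (bv F 2 (by omega))),
        ρ (S.L (row ⟨0, by omega⟩ ⟨Pi.single ⟨3, by omega⟩ t,
          single_mem_tail (by show 0 < 3; omega) t⟩)) z = z)
  (hfix : (∀ (β : altM F r), β ≠ 0 → Dec β →
      finrank ℂ (S.D ρ ψ β) = Fintype.card F ^ Fintype.card κ) →
    ∃ z : M, z ≠ 0 ∧ z ∈ S.D ρ ψ (altE (bv F 0 (by omega)) (bv F 1 (by omega))) ∧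
      ∀ t : F, ρ (S.L (row ⟨0, by omega⟩ ⟨Pi.single ⟨1, by omega⟩ t,
        single_mem_tail (show 0 < 1 by omega) t⟩)) z = z)
  (hconj : ∃ g : G, ∀ t : F, ∃ t' : F, g * S.L (row ⟨0, by omega⟩ ⟨Pi.single ⟨1, by omega⟩ t',
      single_mem_tail (show 0 < 1 by omega) t'⟩) =
    S.Zh (t • altE (bv F 0 (by omega)) (bv F 1 (by omega))) * g)

include hψ hnt hχ hΛ hfix hconj in
/-- The alternative when only decomposable matrices occur. -/
theorem main_alt_dec
    (hnd : ∀ β : altM F r, β ≠ 0 → ¬ Dec β → finrank ℂ (S.D ρ ψ β) = 0) :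
      2 * Fintype.card F ^ Fintype.card κ * numDec (Fintype.card F) r ≤ finrank ℂ M ∨
      ((∃ g z, z ∈ S.D ρ ψ 0 ∧ ρ (S.L g) z ≠ z) ∧
        finrank ℂ M = finrank ℂ (S.D ρ ψ 0) +
          Fintype.card F ^ Fintype.card κ * numDec (Fintype.card F) r ∧
        ∀ β : altM F r, β ≠ 0 → Dec β →
          finrank ℂ (S.D ρ ψ β) = Fintype.card F ^ Fintype.card κ) := by
  classical
  set β0 := altE (bv F 0 (show 0 < r by omega)) (bv F 1 (show 1 < r by omega)) with hβ0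
  have hβ0ne : β0 ≠ 0 := fun h => by
    have := congrArg (fun B : altM F r => B.1 ⟨0, by omega⟩ ⟨1, by omega⟩) h
    simp [hβ0, altE_coe, alt2_apply] at this
  obtain ⟨e, he⟩ := S.dvd_finrank_D ρ hψ hβ0ne
  have hb : finrank ℂ (S.D ρ ψ 0) +
      numDec (Fintype.card F) r * finrank ℂ (S.D ρ ψ β0) ≤ finrank ℂ M := bound_dec S ρ hr hψ
  rcases Nat.lt_or_ge e 2 with he2 | he2
  swap
  · left
    have h2 : 2 * Fintype.card F ^ Fintype.card κ ≤ finrank ℂ (S.D ρ ψ β0) := by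
      rw [he, mul_comm]; exact Nat.mul_le_mul_left _ he2
    have := Nat.mul_le_mul_left (numDec (Fintype.card F) r) h2
    rw [mul_comm (numDec _ r)] at this
    omega
  have hone' : ∀ β : altM F r, β ≠ 0 → Dec β →
      finrank ℂ (S.D ρ ψ β) = Fintype.card F ^ Fintype.card κ * e := fun β h1 h2 => by
    rw [finrank_D_dec S ρ hr ψ h1 h2]; exact he
  rcases Nat.eq_zero_or_pos e with rfl | hpos
  · exfalso
    obtain ⟨A, hA⟩ := hnt
    have h0 : ∀ β : altM F r, β ≠ 0 → finrank ℂ (S.D ρ ψ β) = 0 := fun β hβ => by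
      by_cases hd : Dec β
      · rw [hone' β hβ hd, mul_zero]
      · exact hnd β hβ hd
    have hsum := sum_D S ρ hψ
    rw [Finset.sum_eq_single (0 : altM F r) (fun β _ hβ => h0 β hβ) (by simp)] at hsum
    have htop : S.D ρ ψ 0 = ⊤ := Submodule.eq_top_of_finrank_eq hsum
    refine hA (LinearMap.ext fun z => ?_)
    rw [Module.End.one_apply]
    exact (S.mem_D_zero ρ ψ).1 (htop ▸ Submodule.mem_top) A
  obtain rfl : e = 1 := by omega
  have hone : ∀ β : altM F r, β ≠ 0 → Dec β →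
      finrank ℂ (S.D ρ ψ β) = Fintype.card F ^ Fintype.card κ := fun β h1 h2 => by
    rw [hone' β h1 h2, mul_one]
  refine Or.inr ⟨?_, dim_eq S ρ hψ hnd hone, hone⟩
  refine S.levi_nontrivial ρ hr hψ (fun β hβ hrow hd0 z hz t => S.row_trivial ρ hr hψ hone hχ
    (hΛ hnd hone) _ hβ ?_ hrow z hz) (hfix hone) ?_
  · by_contra hd
    exact hd0 (hnd β hβ hd)
  obtain ⟨g, hg⟩ := hconj
  refine finrank_le_of_maps ρ g fun z hz => ?_
  rw [mem_eigSub] at hz ⊢
  intro t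
  obtain ⟨t', ht'⟩ := hg t
  have := hz t'
  rw [xlHom_apply, AddChar.one_apply, one_smul] at this
  rw [xzHom_apply, AddChar.one_apply, one_smul, ← Module.End.mul_apply, ← map_mul, ← ht', map_mul,
    Module.End.mul_apply, this]

include hψ hnt hχ hΛ hfix hconj in
/-- The alternative given by a Siegel parabolic. -/
theorem main_alt :
    (Fintype.card F ^ (r - 1) - 1) * Fintype.card F ^ (r - 2) *
        (Fintype.card F ^ Fintype.card κ) ^ 2 ≤ finrank ℂ M ∨
      2 * Fintype.card F ^ Fintype.card κ * numDec (Fintype.card F) r ≤ finrank ℂ M ∨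
      ((∃ g z, z ∈ S.D ρ ψ 0 ∧ ρ (S.L g) z ≠ z) ∧
        finrank ℂ M = finrank ℂ (S.D ρ ψ 0) +
          Fintype.card F ^ Fintype.card κ * numDec (Fintype.card F) r ∧
        ∀ β : altM F r, β ≠ 0 → Dec β →
          finrank ℂ (S.D ρ ψ β) = Fintype.card F ^ Fintype.card κ) := by
  classical
  by_cases hnd : ∃ β : altM F r, β ≠ 0 ∧ ¬ Dec β ∧ finrank ℂ (S.D ρ ψ β) ≠ 0
  · obtain ⟨β, h1, h2, h3⟩ := hnd
    exact Or.inl (bound_of_nondec S ρ hr hψ h1 h2 h3)
  push Not at hnd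
  exact Or.inr (S.main_alt_dec ρ hr hψ hnt hχ hΛ hfix hconj hnd)

include hψ hnt hχ hΛ hfix hconj in
/-- The lower bound given by a Siegel parabolic. -/
theorem main_bound {X : ℕ} (hB : S.D ρ ψ 0 ≠ ⊥ → finrank ℂ M = finrank ℂ (S.D ρ ψ 0) +
      Fintype.card F ^ Fintype.card κ * numDec (Fintype.card F) r → X ≤ finrank ℂ M)
    (h1 : X ≤ (Fintype.card F ^ (r - 1) - 1) * Fintype.card F ^ (r - 2) *
        (Fintype.card F ^ Fintype.card κ) ^ 2)
    (h2 : X ≤ 2 * Fintype.card F ^ Fintype.card κ * numDec (Fintype.card F) r) :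
    X ≤ finrank ℂ M := by
  rcases S.main_alt ρ hr hψ hnt hχ hΛ hfix hconj with h | h | ⟨⟨g, z, hz, hgz⟩, h, -⟩
  · exact h1.trans h
  · exact h2.trans h
  exact hB (fun e => hgz (by
    rw [e, Submodule.mem_bot] at hz
    rw [hz, map_zero])) h

end Siegel

end Cfsg.Agent.Lib.OrthDeg48
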