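import Cfsg.Agent.Lib.OrthDeg48.Transfer
import Cfsg.Agent.Lib.OrthDeg48.Main

/-!
A small fixed space of the centre has no vectors fixed by the Levi part.
-/

set_option autoImplicit false
set_option linter.unusedSectionVars false

namespace Cfsg.Agent.Lib.OrthDeg48

open Matrix Module QuadraticMap Cfsg.Agent.Lib.Forms Cfsg.Agent.Lib.OrthOmega Cfsg.Agent.Lib.SLDeg48
  Cfsg.Agent.Lib.UniDeg48 Cfsg.Agent.Lib.MinDegree

variable {F : Type*} [Field F] {r : ℕ}

/-- `SL` is transitive on non-zero vectors. -/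
theorem exists_sl_mulVec (hr : 2 ≤ r) {x y : Fin r → F} (hx : x ≠ 0) (hy : y ≠ 0) :
    ∃ g : SL' r F, g.1 *ᵥ x = y := by
  classical
  suffices h : ∀ x : Fin r → F, x ≠ 0 → ∃ g : SL' r F, g.1 *ᵥ x = Pi.single ⟨0, by omega⟩ 1 by
    obtain ⟨g, hg⟩ := h x hx
    obtain ⟨g', hg'⟩ := h y hy
    refine ⟨g'⁻¹ * g, ?_⟩
    show ((g'⁻¹).1 * g.1) *ᵥ x = y
    rw [← mulVec_mulVec, hg, ← hg', mulVec_mulVec,
      show (g'⁻¹).1 * g'.1 = 1 from congrArg Subtype.val (inv_mul_cancel g'), one_mulVec]
  set k : Fin r := ⟨0, by omega⟩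
  have step : ∀ x : Fin r → F, (∃ i, i ≠ k ∧ x i ≠ 0) →
      ∃ g : SL' r F, g.1 *ᵥ x = Pi.single k 1 := by
    rintro x ⟨i, hik, hxi⟩
    set t : SL' r F := SpecialLinearGroup.transvection hik.symm ((1 - x k) / x i) with ht
    set x' := t.1 *ᵥ x with hx'
    have hx'k : x' k = 1 := by
      rw [hx', ht, SpecialLinearGroup.transvection_coe, add_mulVec, one_mulVec, single_mulVec]
      simp [hxi]
    have hd : (Pi.single k 1 : Fin r → F) ⬝ᵥ (-(x' - Pi.single k 1)) = 0 := by simp [hx'k]
    refine ⟨rk1 (-(x' - Pi.single k 1)) (Pi.single k 1) hd * t, ?_⟩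
    show ((rk1 (-(x' - Pi.single k 1)) (Pi.single k 1) hd).1 * t.1) *ᵥ x = _
    rw [← mulVec_mulVec, ← hx', rk1_coe, add_mulVec, one_mulVec, vecMulVec_mulVec,
      single_dotProduct, one_mul, hx'k, op_smul_eq_smul, one_smul]
    abel
  intro x hx
  by_cases h : ∃ i, i ≠ k ∧ x i ≠ 0
  · exact step x h
  push Not at h
  have hxk : x k ≠ 0 := fun e => hx (funext fun i => by
    by_cases hi : i = k
    · rw [hi, e]; rfl
    · exact h i hi)
  have h1 : (⟨1, by omega⟩ : Fin r) ≠ k := by simp [k]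
  set t : SL' r F := SpecialLinearGroup.transvection h1 1 with ht
  obtain ⟨g, hg⟩ := step (t.1 *ᵥ x) ⟨⟨1, by omega⟩, h1, by
    rw [ht, SpecialLinearGroup.transvection_coe, add_mulVec, one_mulVec, single_mulVec]
    simpa [h _ h1] using hxk⟩
  refine ⟨g * t, ?_⟩
  show (g.1 * t.1) *ᵥ x = _
  rw [← mulVec_mulVec, hg]

variable {κ : Type*} [Fintype κ]

namespace Siegel

variable {G : Type*} [Group G] (S : Siegel F r κ G)
variable [Fintype F] {M : Type*} [AddCommGroup M] [Module ℂ M] [FiniteDimensional ℂ M]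
variable (ρ : Representation ℂ G M) {ψ : AddChar F ℂ}

/-- A small fixed space of the centre is fixed by the radical. -/
theorem qv_trivial_on_zero (hr : 2 ≤ r) (hψ : ψ.IsPrimitive)
    (hsmall : finrank ℂ (S.D ρ ψ 0) + 1 < Fintype.card F ^ r) :
    ∀ (u : Fin r → F) (n : κ → F), ∀ z ∈ S.D ρ ψ 0, ρ (S.Qv u n) z = z := by
  classical
  intro u0 n z0 hz0
  by_contra hne
  have hzero : S.Qv 0 n = 1 := by
    rw [← zero_smul F (0 : Fin r → F), S.Qv_smul, zero_smul, Qv_zero]
  let σ : Representation ℂ (Multiplicative (Fin r → F)) (S.D ρ ψ 0) :=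
    { toFun := fun u => (ρ (S.Qv u.toAdd n)).restrict (fun z hz => S.map_D_Qv ρ ψ _ n hz)
      map_one' := by
        apply LinearMap.ext; intro w; apply Subtype.ext
        show ρ (S.Qv 0 n) w.1 = w.1
        rw [hzero, map_one, Module.End.one_apply]
      map_mul' := fun u u' => by
        apply LinearMap.ext; intro w; apply Subtype.ext
        show ρ (S.Qv (u.toAdd + u'.toAdd) n) w.1 = ρ (S.Qv u.toAdd n) (ρ (S.Qv u'.toAdd n) w.1)
        rw [S.Qv_add_left_apply ρ ψ w.2]
        simp [pairA] }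
  obtain ⟨χ, hχ, hocc⟩ := exists_occurs σ (MonoidHom.id _) (a₀ := u0) (fun h => hne
    (congrArg Subtype.val (LinearMap.congr_fun h ⟨z0, hz0⟩)))
  let dc : (Fin r → F) → AddChar (Fin r → F) ℂ := fun x =>
    ψ.compAddMonoidHom (AddMonoidHom.mk' (fun u => u ⬝ᵥ x) (fun a b => add_dotProduct _ _ _))
  have hdc : Function.Bijective dc := by
    rw [Fintype.bijective_iff_injective_and_card]
    refine ⟨fun x x' h => funext fun j => ?_, AddChar.card_eq.symm⟩
    refine AddChar.to_mulShift_inj_of_isPrimitive hψ ?_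
    ext c
    have := DFunLike.congr_fun h (Pi.single j c)
    simp only [dc, AddChar.compAddMonoidHom_apply, AddMonoidHom.mk'_apply, single_dotProduct] at this
    rw [AddChar.mulShift_apply, AddChar.mulShift_apply, mul_comm, mul_comm (x' j)]
    exact this
  obtain ⟨x, rfl⟩ := hdc.2 χ
  have hx : x ≠ 0 := fun e => hχ (by rw [e]; simp [dc])
  have hall : ∀ χ' ∈ ({χ' | χ' ≠ 1} : Set (AddChar (Fin r → F) ℂ)),
      Occurs σ (MonoidHom.id _) χ' := by
    intro χ' hχ'
    obtain ⟨y, rfl⟩ := hdc.2 χ'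
    have hy : y ≠ 0 := fun e => hχ' (by
      ext u; simp [dc, e])
    obtain ⟨g, hg⟩ := exists_sl_mulVec hr hy hx
    obtain ⟨v, hv0, hv⟩ := hocc
    set h : SL' r F := SpecialLinearGroup.transpose g with hh
    have hmem : ρ (S.L h) v.1 ∈ S.D ρ ψ 0 := S.L_mem_D_zero ρ h v.2
    refine ⟨⟨_, hmem⟩, fun e => hv0 (Subtype.ext (ρ_inj ρ (S.L h)
      ((congrArg Subtype.val e).trans (map_zero _).symm))), fun u => Subtype.ext ?_⟩
    show ρ (S.Qv u n) (ρ (S.L h) v.1) = dc y u • ρ (S.L h) v.1
    obtain ⟨u', rfl⟩ : ∃ u', h.1 *ᵥ u' = u := ⟨(h⁻¹).1 *ᵥ u, by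
      rw [mulVec_mulVec, show h.1 * (h⁻¹).1 = 1 from congrArg Subtype.val (mul_inv_cancel h),
        one_mulVec]⟩
    rw [← Module.End.mul_apply, ← map_mul, ← S.L_Qv, map_mul, Module.End.mul_apply]
    have := congrArg Subtype.val (hv u')
    change ρ (S.Qv u' n) v.1 = dc x u' • v.1 at this
    rw [this, map_smul]
    congr 1
    show ψ (u' ⬝ᵥ x) = ψ ((h.1 *ᵥ u') ⬝ᵥ y)
    congr 1
    rw [← hg, hh, SpecialLinearGroup.coe_transpose, mulVec_transpose, ← dotProduct_mulVec]
  have hcard := card_le_finrank σ (MonoidHom.id _) _ hall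
  change Nat.card {χ' : AddChar (Fin r → F) ℂ // χ' ≠ 1} ≤ _ at hcard
  rw [Nat.card_eq_fintype_card, Fintype.card_subtype_compl,
    Fintype.card_subtype_eq, AddChar.card_eq, Fintype.card_fun, Fintype.card_fin] at hcard
  omega

end Siegel

variable [Fintype F] {R : QuadraticForm F (κ → F)}
variable {M : Type*} [AddCommGroup M] [Module ℂ M] [FiniteDimensional ℂ M]

/-- A root element at the opposite radical. -/
theorem opp_pair (j : Fin r) (n : κ → F) :
    SPair (qS r R) ((0, -Pi.single j 1, 0) : V3 F r κ) (0, 0, n) :=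
  ⟨by simp [qS_apply], by simp [qS_polar, polar_zero_left]⟩

theorem rho_xy (hr : 2 ≤ r) {j : Fin r} {x : Fin r → F} (hxj : x j = 0)
    (h : SPair (qS r R) ((0, -Pi.single j 1, 0) : V3 F r κ) (x, 0, 0)) :
    ∃ g : SL' r F, rho h = levHom R g := by
  have hd : (Pi.single j 1 : Fin r → F) ⬝ᵥ (-x) = 0 := by simp [hxj]
  refine ⟨rk1 (-x) (Pi.single j 1) hd, orth_ext fun X => ?_⟩
  rw [rho_apply, levHom_apply, invT_rk1, rk1_coe, rk1_coe, add_mulVec, add_mulVec, one_mulVec,
    one_mulVec, vecMulVec_mulVec, vecMulVec_mulVec, op_smul_eq_smul, op_smul_eq_smul]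
  simp [qS_polar, qS_apply, polar_zero_left, dotProduct_comm X.1, dotProduct_comm x]
  refine Prod.ext ?_ (Prod.ext ?_ ?_)
  all_goals simp [dotProduct_comm X.1, dotProduct_comm x, sub_eq_add_neg]

set_option maxHeartbeats 800000 in
/-- The parabolic and one opposite root group generate. -/
theorem eq_top_of_generators (hR : Nondeg R) (hr : 3 ≤ r) (hA : R.Anisotropic)
    (hne : ∃ n, R n ≠ 0) (H : Subgroup (EG (qS r R)))
    (hz : ∀ A, (⟨zhO R A, zhO_mem R A⟩ : EG (qS r R)) ∈ H)
    (hl : ∀ g, (⟨levHom R g, levHom_mem R (by omega) g⟩ : EG (qS r R)) ∈ H)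
    (hq : ∀ u n, (⟨qvO R u n, qvO_mem R u n⟩ : EG (qS r R)) ∈ H)
    (hopp : ∀ n, (⟨rho (opp_pair (R := R) (⟨0, by omega⟩ : Fin r) n), rho_mem _⟩ :
      EG (qS r R)) ∈ H) : H = ⊤ := by
  classical
  set k : Fin r := ⟨0, by omega⟩ with hk
  set K : Subgroup (orth (qS r R)) := H.map (EG (qS r R)).subtype with hK
  have hmem : ∀ {g : orth (qS r R)} (hg : g ∈ EG (qS r R)),
      (⟨g, hg⟩ : EG (qS r R)) ∈ H → g ∈ K := fun _ h => ⟨_, h, rfl⟩
  have hzK : ∀ A, zhO R A ∈ K := fun A => hmem _ (hz A)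
  have hlK : ∀ g, levHom R g ∈ K := fun g => hmem _ (hl g)
  have hqK : ∀ u n, qvO R u n ∈ K := fun u n => hmem _ (hq u n)
  have hoK : ∀ n, rho (opp_pair (R := R) k n) ∈ K := fun n => hmem _ (hopp n)
  -- the point stabiliser's radical
  set e : V3 F r κ := (Pi.single k 1, 0, 0) with he
  have hbase : ∀ (X : V3 F r κ) (h : SPair (qS r R) e X), rho h ∈ K := by
    rintro ⟨x, y, z⟩ h
    have hy : y k = 0 := by
      have := h.perp
      simpa [he, qS_polar, polar_zero_left] using this
    have h1 : SPair (qS r R) e ((x, 0, 0) : V3 F r κ) :=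
      ⟨h.sing, by simp [he, qS_polar, polar_zero_left]⟩
    have h2 : SPair (qS r R) e ((0, y, 0) : V3 F r κ) :=
      ⟨h.sing, by simp [he, qS_polar, polar_zero_left, hy]⟩
    have h3 : SPair (qS r R) e ((0, 0, z) : V3 F r κ) :=
      ⟨h.sing, by simp [he, qS_polar, polar_zero_left]⟩
    have e1 : rho h = rho h1 * rho h2 * rho h3 := by
      rw [rho_mul, rho_mul]
      exact rho_congr _ _ rfl (by simp)
    rw [e1]
    refine mul_mem (mul_mem ?_ ?_) (hqK (Pi.single k 1) z)
    · have e2 : rho h1 = zhO R (altE x (Pi.single k 1)) := orth_ext fun X => by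
        rw [rho_apply, zhO_apply, altE_coe, alt2_mulVec]
        simp [he, qS_polar, qS_apply, polar_zero_left]
        refine Prod.ext ?_ (Prod.ext ?_ ?_)
        all_goals simp
        abel
      rw [e2]; exact hzK _
    · have hd : (-y) ⬝ᵥ (Pi.single k 1 : Fin r → F) = 0 := by simp [hy]
      have e2 : rho h2 = levHom R (rk1 (Pi.single k 1) (-y) hd) := orth_ext fun X => by
        rw [rho_apply, levHom_apply, invT_rk1, rk1_coe, rk1_coe, add_mulVec, add_mulVec,
          one_mulVec, one_mulVec, vecMulVec_mulVec, vecMulVec_mulVec, op_smul_eq_smul,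
          op_smul_eq_smul]
        simp [he, qS_polar, qS_apply, polar_zero_left, dotProduct_comm X.1]
        refine Prod.ext ?_ (Prod.ext ?_ ?_)
        all_goals simp [dotProduct_comm X.1, sub_eq_add_neg]
      rw [e2]; exact hlK _
  let RR : V3 F r κ → Prop := fun X => ∃ g ∈ K, ∃ t : F, t ≠ 0 ∧ g.1 e = t • X
  have hstep : ∀ X : V3 F r κ, ∀ g ∈ K, RR (g.1 X) → RR X := by
    rintro X g hg ⟨g', hg', t, ht, h⟩
    exact ⟨g⁻¹ * g', mul_mem (inv_mem hg) hg', t, ht, by
      rw [orth_mul_apply, h, map_smul, orth_inv_apply_apply]⟩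
  have hx : ∀ x : Fin r → F, x ≠ 0 → RR (x, 0, 0) := by
    intro x hx
    obtain ⟨g, hg⟩ := exists_sl_mulVec (show 2 ≤ r by omega)
      (show (Pi.single k (1 : F) : Fin r → F) ≠ 0 by simp) hx
    exact ⟨levHom R g, hlK g, 1, one_ne_zero, by
      rw [he, levHom_apply, hg, mulVec_zero, one_smul]⟩
  obtain ⟨n0, hn0⟩ := hne
  -- the first opposite vector
  have hy0 : ∀ c : F, c ≠ 0 → RR ((0, Pi.single k c, 0) : V3 F r κ) := by
    intro c hc
    obtain ⟨Y, hY, hYk⟩ : ∃ Y : V3 F r κ, (rho (opp_pair (R := R) k n0)).1 e = Y ∧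
        Y.2.1 = Pi.single k (-R n0) := by
      refine ⟨_, rfl, ?_⟩
      rw [rho_apply]
      simp [he, qS_polar, qS_apply, polar_zero_left]
      rw [← Pi.single_smul', smul_eq_mul, mul_one, Pi.single_neg]
    obtain ⟨Z, hZ, hZ2, hZ3⟩ : ∃ Z : V3 F r κ,
        (qvO R (Pi.single k 1) ((R n0)⁻¹ • Y.2.2)).1 Y = Z ∧ Z.2.1 = Pi.single k (-R n0) ∧
          Z.2.2 = 0 := by
      refine ⟨_, rfl, ?_, ?_⟩
      · rw [qvO_apply]; exact hYk
      · rw [qvO_apply]
        show Y.2.2 + (Pi.single k 1 ⬝ᵥ Y.2.1) • (R n0)⁻¹ • Y.2.2 = 0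
        rw [hYk, single_dotProduct, Pi.single_eq_same, one_mul, smul_smul, neg_mul,
          mul_inv_cancel₀ hn0, neg_one_smul, add_neg_cancel]
    have hsing : qS r R Z = 0 := by
      rw [← hZ, (qvO R _ _).2 Y, ← hY, (rho (opp_pair (R := R) k n0)).2 e, he]
      simp [qS_apply]
    have hZk : Z.1 k = 0 := by
      rw [qS_apply, hZ2, hZ3, dotProduct_single, QuadraticMap.map_zero, add_zero] at hsing
      exact (mul_eq_zero.1 hsing).resolve_right (neg_ne_zero.2 hn0)
    refine ⟨zhO R (altE ((R n0)⁻¹ • Z.1) (Pi.single k 1)) * qvO R (Pi.single k 1) ((R n0)⁻¹ • Y.2.2) *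
      rho (opp_pair (R := R) k n0), mul_mem (mul_mem (hzK _) (hqK _ _)) (hoK n0), -R n0 / c,
      div_ne_zero (neg_ne_zero.2 hn0) hc, ?_⟩
    rw [orth_mul_apply, orth_mul_apply, hY, hZ, zhO_apply, altE_coe, alt2_mulVec, hZ2, hZ3]
    refine Prod.ext ?_ (Prod.ext ?_ ?_)
    · simp [hZk, hn0]
    · show Pi.single k (-R n0) = (-R n0 / c) • Pi.single k c
      rw [← Pi.single_smul', smul_eq_mul, div_mul_cancel₀ _ hc]
    · simp
  have hall : ∀ X : V3 F r κ, X ≠ 0 → qS r R X = 0 → RR X := by
    rintro ⟨x, y, z⟩ hX hQ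
    by_cases hy : y = 0
    · subst hy
      have hz0 : z = 0 := hA z (by simpa [qS_apply] using hQ)
      subst hz0
      exact hx x fun e => hX (by rw [e]; rfl)
    obtain ⟨g, hg⟩ := exists_sl_mulVec (show 2 ≤ r by omega) hy
      (show (Pi.single k (1 : F) : Fin r → F) ≠ 0 by simp)
    refine hstep _ _ (hlK (invT r F g)) ?_
    rw [levHom_apply, invT_invT, hg]
    set x1 := (invT r F g).1 *ᵥ x with hx1
    refine hstep _ _ (hqK (Pi.single k 1) (-z)) ?_
    rw [qvO_apply]
    simp only [single_dotProduct, Pi.single_eq_same, one_mul, one_smul, add_neg_cancel]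
    set x2 := x1 - (polar R (-z) z + R (-z) * 1) • Pi.single k 1 with hx2
    have hs : qS r R ((x2, Pi.single k 1, 0) : V3 F r κ) = 0 := by
      have h1 := (qvO R (Pi.single k 1) (-z)).2 ((levHom R (invT r F g)).1 (x, y, z))
      rw [(levHom R (invT r F g)).2, levHom_apply, invT_invT, hg, ← hx1, qvO_apply, hQ] at h1
      simpa [hx2] using h1
    have hx2k : x2 k = 0 := by simpa [qS_apply] using hs
    refine hstep _ _ (hzK (altE (-x2) (Pi.single k 1))) ?_
    rw [zhO_apply, altE_coe, alt2_mulVec]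
    simp [hx2k]
    exact hy0 1 one_ne_zero
  have hEG : EG (qS r R) ≤ K := by
    refine EG_le fun E U hu => ?_
    by_cases hE : E = 0
    · have h1 : rho hu = 1 := orth_ext fun x => by rw [rho_apply, hE]; simp
      rw [h1]; exact one_mem _
    obtain ⟨g, hg, t, ht, h⟩ := hall E hE hu.sing
    have hp : SPair (qS r R) (g⁻¹.1 E) (g⁻¹.1 U) := hu.map g⁻¹
    have hE' : g⁻¹.1 E = t⁻¹ • e := by
      have h1 := congrArg (fun Y => t⁻¹ • g⁻¹.1 Y) h
      simp only [orth_inv_apply_apply, map_smul, smul_smul, inv_mul_cancel₀ ht, one_smul] at h1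
      exact h1.symm
    have hp1 : SPair (qS r R) (t⁻¹ • e) (g⁻¹.1 U) := hE' ▸ hp
    have hp2 : SPair (qS r R) e (t⁻¹ • g⁻¹.1 U) := by
      refine ⟨by simp [he, qS_apply], ?_⟩
      have := hp1.perp
      rw [polar_smul_left] at this
      rwa [polar_smul_right]
    have e1 : rho hp ∈ K := by
      rw [rho_congr hp hp1 hE' rfl, rho_vec_smul hp1 hp2]
      exact hbase _ hp2
    have e2 : rho hu = g * rho hp * g⁻¹ := by
      rw [rho_conj]
      exact rho_congr _ _ (orth_apply_inv_apply g E).symm (orth_apply_inv_apply g U).symm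
    rw [e2]
    exact mul_mem (mul_mem hg e1) (inv_mem hg)
  refine (Subgroup.eq_top_iff' H).2 fun x => ?_
  obtain ⟨y, hy, hxy⟩ := hEG x.2
  rwa [show y = x from Subtype.ext hxy] at hy

set_option maxHeartbeats 800000 in
/-- A vector fixed by the Levi part in a small fixed space of the centre is fixed by everything. -/
theorem fixed_of_levi_fixed (hR : Nondeg R) (hr : 3 ≤ r) (hA : R.Anisotropic)
    (hone : ∃ v, R v = 1) (ρ : Representation ℂ (EG (qS r R)) M) {ψ : AddChar F ℂ}
    (hqv : ∀ u n, ∀ z ∈ (modelSiegel R hR (show 2 ≤ r by omega)).D ρ ψ 0,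
      ρ ((modelSiegel R hR (show 2 ≤ r by omega)).Qv u n) z = z)
    {z : M} (hz : z ∈ (modelSiegel R hR (show 2 ≤ r by omega)).D ρ ψ 0)
    (hL : ∀ g, ρ ((modelSiegel R hR (show 2 ≤ r by omega)).L g) z = z) :
    ∀ g, ρ g z = z := by
  classical
  obtain ⟨v, hv⟩ := hone
  set S := modelSiegel R hR (show 2 ≤ r by omega) with hS
  set k : Fin r := ⟨0, by omega⟩ with hk
  set g0 : orth (qS r R) := orefl (qS r R) (inH k 1) * orefl (qS r R) (inZ r v) with hg0
  have hg0m : g0 ∈ EG (qS r R) := orefl_mul_mem hR hr (by rw [qS_inH, qS_inZ, hv])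
    (by rw [qS_inH]; exact one_ne_zero)
  have hact : ∀ X : V3 F r κ, g0.1 X = (Function.update X.1 k (-(X.2.1 k)),
      Function.update X.2.1 k (-(X.1 k)), Forms.refl R v X.2.2) := by
    intro X
    show Forms.refl (qS r R) (inH k 1) (Forms.refl (qS r R) (inZ r v) X) = _
    rw [refl_inZ, refl_inH one_ne_zero]
    simp
  have hinv : g0⁻¹ = g0 := inv_eq_of_mul_eq_one_right (orth_ext fun X => by
    rw [orth_mul_apply, hact, hact]
    refine Prod.ext ?_ (Prod.ext ?_ (reflMap_involutive R v X.2.2))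
    · funext i
      by_cases hi : i = k
      · subst hi; simp
      · simp [hi]
    · funext i
      by_cases hi : i = k
      · subst hi; simp
      · simp [hi])
  set s : EG (qS r R) := ⟨g0, hg0m⟩ with hs
  let N : Subgroup (EG (qS r R)) :=
    { carrier := {g | ρ g z = z}
      one_mem' := by show ρ 1 z = z; rw [map_one]; rfl
      mul_mem' := fun {a b} ha hb => by
        show ρ (a * b) z = z
        rw [map_mul, Module.End.mul_apply, hb, ha]
      inv_mem' := fun {a} ha => by
        show ρ a⁻¹ z = z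
        refine Siegel.ρ_inj ρ a ?_
        rw [← Module.End.mul_apply, ← map_mul, mul_inv_cancel, map_one, Module.End.one_apply, ha] }
  have hzN : ∀ A, S.Zh A ∈ N := fun A => (S.mem_D_zero ρ ψ).1 hz A
  have hqN : ∀ u n, S.Qv u n ∈ N := fun u n => hqv u n z hz
  have hlN : ∀ g, S.L g ∈ N := hL
  -- conjugates of the centre
  have hgen : ∀ a b : Fin r → F, (a = 0 ∨ ∃ i, a = Pi.single i 1) → (∃ j, b = Pi.single j 1) →
      ∀ c : F, s * S.Zh (c • altE a b) * s⁻¹ ∈ N := by
    rintro a b (rfl | ⟨p, rfl⟩) ⟨q, rfl⟩ c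
    · rw [show altE (0 : Fin r → F) (Pi.single q 1) = 0 from Subtype.ext (by simp [altE, alt2]),
        smul_zero, Siegel.Zh_zero, mul_one, mul_inv_cancel]
      exact one_mem N
    by_cases hpq : p = q
    · subst hpq
      rw [altE_self, smul_zero, Siegel.Zh_zero, mul_one, mul_inv_cancel]
      exact one_mem N
    have main : ∀ p q : Fin r, p ≠ q → q ≠ k → ∀ c : F,
        s * S.Zh (c • altE (Pi.single p 1) (Pi.single q 1)) * s⁻¹ ∈ N := by
      intro p q hpq hqk c
      have h : SPair (qS r R) ((Pi.single q 1, 0, 0) : V3 F r κ) (c • Pi.single p 1, 0, 0) :=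
        ⟨by simp [qS_apply], by simp [qS_polar]⟩
      have e : zhO R (c • altE (Pi.single p 1) (Pi.single q 1)) = rho h := orth_ext fun X => by
        rw [rho_apply, zhO_apply, ← altE_smul_left, altE_coe, alt2_mulVec]
        simp [qS_polar, qS_apply, polar_zero_left, smul_dotProduct]
        refine Prod.ext ?_ (Prod.ext ?_ ?_)
        all_goals simp
        abel
      have hE : g0.1 ((Pi.single q 1, 0, 0) : V3 F r κ) = (Pi.single q 1, 0, 0) := by
        rw [hact]
        refine Prod.ext ?_ (Prod.ext ?_ (by simp))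
        all_goals
          funext x
          simp [Function.update_apply, Pi.single_apply, hqk.symm]
        intro hx
        subst hx
        simp [hqk.symm]
      by_cases hpk : p = k
      · subst hpk
        have hd : (-Pi.single q (1 : F) : Fin r → F) ⬝ᵥ Pi.single q 1 = -1 := by simp
        have hd' : (Pi.single k c : Fin r → F) ⬝ᵥ Pi.single q 1 = 0 := by simp [hpq, hpq.symm]
        have hU : g0.1 ((c • Pi.single k 1, 0, 0) : V3 F r κ) = (0, -Pi.single k c, 0) := by
          rw [hact]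
          refine Prod.ext ?_ (Prod.ext ?_ (by simp))
          all_goals
            funext x
            simp [Function.update_apply, Pi.single_apply]
            try (split_ifs <;> simp)
            try (intros; simp_all)
        have e2 : g0 * rho h * g0⁻¹ = levHom R (rk1 (Pi.single q 1) (Pi.single k c) hd') := by
          rw [rho_conj]
          have h' : SPair (qS r R) ((Pi.single q 1, 0, 0) : V3 F r κ) (0, -Pi.single k c, 0) :=
            ⟨by simp [qS_apply], by simp [qS_polar, hpq, hpq.symm]⟩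
          rw [rho_congr _ h' hE hU]
          refine orth_ext fun X => ?_
          rw [rho_apply, levHom_apply, invT_rk1, rk1_coe, rk1_coe, add_mulVec, add_mulVec,
            one_mulVec, one_mulVec, vecMulVec_mulVec, vecMulVec_mulVec, op_smul_eq_smul,
            op_smul_eq_smul]
          simp [qS_polar, qS_apply, polar_zero_left, dotProduct_comm X.1]
          refine Prod.ext ?_ (Prod.ext ?_ ?_)
          all_goals simp [mul_comm, sub_eq_add_neg]
        have e3 : s * S.Zh (c • altE (Pi.single k 1) (Pi.single q 1)) * s⁻¹ =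
            S.L (rk1 (Pi.single q 1) (Pi.single k c) hd') := Subtype.ext (by
          show g0 * zhO R _ * g0⁻¹ = levHom R _
          rw [e, e2])
        rw [e3]
        exact hlN _
      · have hU : g0.1 ((c • Pi.single p 1, 0, 0) : V3 F r κ) = (c • Pi.single p 1, 0, 0) := by
          rw [hact]
          refine Prod.ext ?_ (Prod.ext ?_ (by simp))
          all_goals
            funext x
            simp [Function.update_apply, Pi.single_apply, Ne.symm hpk]
          intro hx
          subst hx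
          simp [Ne.symm hpk]
        have e2 : g0 * rho h * g0⁻¹ = rho h := by
          rw [rho_conj]
          exact rho_congr _ _ hE hU
        have e3 : s * S.Zh (c • altE (Pi.single p 1) (Pi.single q 1)) * s⁻¹ =
            S.Zh (c • altE (Pi.single p 1) (Pi.single q 1)) := Subtype.ext (by
          show g0 * zhO R _ * g0⁻¹ = zhO R _
          rw [e, e2])
        rw [e3]
        exact hzN _
    by_cases hqk : q = k
    · subst hqk
      rw [altE_swap, ← neg_one_smul F (altE (Pi.single k 1) (Pi.single p 1)), smul_smul]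
      exact main k p (Ne.symm hpq) hpq _
    · exact main p q hpq hqk c
  have hZall : ∀ A, s * S.Zh A * s⁻¹ ∈ N := by
    intro A
    let T : AddSubgroup (altM F r) :=
      { carrier := {B | s * S.Zh B * s⁻¹ ∈ N}
        zero_mem' := by
          show s * S.Zh 0 * s⁻¹ ∈ N
          rw [Siegel.Zh_zero, mul_one, mul_inv_cancel]; exact one_mem N
        add_mem' := fun {x y} hx hy => by
          show s * S.Zh (x + y) * s⁻¹ ∈ N
          rw [S.Zh_add, show s * (S.Zh x * S.Zh y) * s⁻¹ =
            (s * S.Zh x * s⁻¹) * (s * S.Zh y * s⁻¹) by group]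
          exact mul_mem hx hy
        neg_mem' := fun {x} hx => by
          show s * S.Zh (-x) * s⁻¹ ∈ N
          have : S.Zh (-x) = (S.Zh x)⁻¹ := eq_inv_of_mul_eq_one_left (by
            rw [← S.Zh_add, neg_add_cancel, Siegel.Zh_zero])
          rw [this, show s * (S.Zh x)⁻¹ * s⁻¹ = (s * S.Zh x * s⁻¹)⁻¹ by group]
          exact inv_mem hx }
    have hA' : A = ∑ a, ∑ b, (if a < b then A.1 a b else 0) •
        altE (Pi.single a (1 : F)) (Pi.single b 1) := by
      apply Subtype.ext
      ext x y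
      simp only [Submodule.coe_sum, Submodule.coe_smul, Matrix.sum_apply, Matrix.smul_apply,
        altE_coe, alt2_apply, Pi.single_apply, smul_eq_mul]
      simp only [mul_sub, Finset.sum_sub_distrib, ite_mul, mul_ite, one_mul, mul_one, zero_mul,
        mul_zero, Finset.sum_ite_eq, Finset.sum_ite_irrel, Finset.sum_const_zero, Finset.mem_univ,
        if_true]
      rcases lt_trichotomy x y with h | h | h
      · simp [h, h.not_gt]
      · subst h; simp [A.2.1]
      · simp [h, h.not_gt, A.2.2 y x]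
    have : A ∈ T := by
      rw [hA']
      exact sum_mem fun a _ => sum_mem fun b _ => hgen _ _ (Or.inr ⟨a, rfl⟩) ⟨b, rfl⟩ _
    exact this
  have hsD : ρ s⁻¹ z ∈ S.D ρ ψ 0 := by
    rw [S.mem_D_zero]
    intro A
    refine Siegel.ρ_inj ρ s ?_
    rw [← Module.End.mul_apply, ← map_mul, ← Module.End.mul_apply, ← map_mul,
      ← Module.End.mul_apply (ρ s) (ρ s⁻¹), ← map_mul, mul_inv_cancel, map_one, Module.End.one_apply]
    exact hZall A
  have hopp : ∀ n, s * S.Qv (Pi.single k 1) n * s⁻¹ ∈ N := fun n => by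
    show ρ (s * S.Qv (Pi.single k 1) n * s⁻¹) z = z
    rw [map_mul, map_mul, Module.End.mul_apply, Module.End.mul_apply,
      hqv _ n _ hsD, ← Module.End.mul_apply, ← map_mul, mul_inv_cancel, map_one,
      Module.End.one_apply]
  have hne : ∃ n, R n ≠ 0 := ⟨v, by rw [hv]; exact one_ne_zero⟩
  have htop : N = ⊤ := by
    refine eq_top_of_generators hR hr hA hne N hzN hlN hqN fun n => ?_
    have h := hopp (Forms.refl R v n)
    have e : s * S.Qv (Pi.single k 1) (Forms.refl R v n) * s⁻¹ =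
        ⟨rho (opp_pair (R := R) k n), rho_mem _⟩ := Subtype.ext (by
      show g0 * qvO R (Pi.single k 1) (Forms.refl R v n) * g0⁻¹ = rho (opp_pair (R := R) k n)
      rw [qvO, rho_conj]
      refine rho_congr _ _ ?_ ?_
      · rw [hact]
        refine Prod.ext ?_ (Prod.ext ?_ (by simp))
        all_goals
          funext x
          simp [Function.update_apply, Pi.single_apply]
          try (split_ifs <;> simp)
      · rw [hact]
        refine Prod.ext ?_ (Prod.ext ?_ ?_)
        · simp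
        · simp
        · exact reflMap_involutive R v n)
    rwa [e] at h
  intro g
  exact (show g ∈ N by rw [htop]; trivial)

end Cfsg.Agent.Lib.OrthDeg48
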