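import Cfsg.Agent.Lib.SLDeg48.Main

/-!
Representations of `SL_n` extended by one diagonal element.
-/

set_option autoImplicit false
set_option linter.unusedSectionVars false

namespace Cfsg.Agent.Lib.OrthDeg48

open Matrix Module Cfsg.Agent.Lib.SLDeg48
open scoped commutatorElement

variable {F : Type*} [Field F] [Fintype F] {n : ℕ}
variable {M : Type*} [AddCommGroup M] [Module ℂ M] [FiniteDimensional ℂ M]
variable (ρ : Representation ℂ (SL' n F) M)

/-- The column subgroup has a fixed vector when a diagonal element acts compatibly. -/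
theorem exists_col_fixed_torus {ψ : AddChar F ℂ} (hψ : ψ.IsPrimitive) (hn : 3 ≤ n)
    (hM : 0 < finrank ℂ M) (hd : dd ρ ψ ⟨0, by omega⟩ (show 0 + 1 < n by omega) ≤ 1)
    (hZ : Z ρ 1 = ⊥) (T : Module.End ℂ M) (hTinj : Function.Injective T) {a : F} (ha0 : a ≠ 0)
    (ha1 : a ≠ 1)
    (hT : ∀ g g' : SL' n F,
      diagonal (Function.update (1 : Fin n → F) ⟨n - 1, by omega⟩ a) * g.1 =
        g'.1 * diagonal (Function.update (1 : Fin n → F) ⟨n - 1, by omega⟩ a) →
      ∀ z, T (ρ g z) = ρ g' (T z)) :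
    ∃ w : M, w ≠ 0 ∧ ∀ (j : Fin n) (hjl : j ≠ ⟨n - 1, by omega⟩) (t : F),
      ρ (SpecialLinearGroup.transvection hjl t) w = w := by
  classical
  set k : Fin n := ⟨0, by omega⟩ with hk
  set one : Fin n := ⟨1, by omega⟩ with hone
  set l : Fin n := ⟨n - 1, by omega⟩ with hl
  have h1 : k.val + 1 < n := by simp [hk]; omega
  have hfin := finrank_Z ρ hψ hn h1
  rw [show k.val = 0 from rfl, Z_zero, finrank_top, zero_add, hZ, finrank_bot, zero_add] at hfin
  have hd1 : finrank ℂ (E ρ ψ k (e1 k h1)) = 1 := by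
    change dd ρ ψ k h1 = 1
    have h0 : dd ρ ψ k h1 ≠ 0 := fun h0 => by rw [h0, mul_zero] at hfin; omega
    have : dd ρ ψ k h1 ≤ 1 := hd
    omega
  obtain ⟨w, hwE, hw0⟩ := Submodule.exists_mem_ne_zero_of_ne_bot
    (show E ρ ψ k (e1 k h1) ≠ ⊥ from fun h => by rw [h, finrank_bot] at hd1; omega)
  have hscal : ∀ z : M, z ∈ E ρ ψ k (e1 k h1) → ∃ c : ℂ, z = c • w := by
    intro z hg
    obtain ⟨c, hc⟩ := (finrank_eq_one_iff_of_nonzero' (⟨w, hwE⟩ : E ρ ψ k (e1 k h1))
      (fun e => hw0 (congrArg Subtype.val e))).1 hd1 ⟨_, hg⟩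
    exact ⟨c, (congrArg Subtype.val hc).symm⟩
  have hkl : k.val < l.val := by simp [hk, hl]; omega
  have honel : one ≠ l := fun e => by simp [hone, hl, Fin.ext_iff] at e; omega
  have hroot : ∀ (i j : Fin n) (hij : i ≠ j) (t : F), 1 ≤ i.val → 2 ≤ j.val →
      ∃ c : ℂ, ρ (SpecialLinearGroup.transvection hij t) w = c • w := by
    intro i j hij t hi hj
    refine hscal _ (map_E_blk ρ ψ (blk_transvection hij (by simpa [hk] using hi)
      (by simp [hk]; omega) t) ?_ hwE)
    show (SpecialLinearGroup.transvection hij t).1 *ᵥ (e1 k h1).1 = (e1 k h1).1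
    rw [transvection_eq_rk1, rk1_coe, add_mulVec, one_mulVec, vecMulVec_mulVec, add_eq_left,
      op_smul_eq_smul]
    have : j ≠ one := fun e => by simp [hone, Fin.ext_iff] at e; omega
    simp [e1, single_dotProduct, Pi.single_apply, hk, show (⟨1, by omega⟩ : Fin n) = one from rfl,
      this, this.symm]
  set d : Fin n → F := Function.update (1 : Fin n → F) l a with hdd
  have hTE : T w ∈ E ρ ψ k (e1 k h1) := by
    rw [mem_E]
    refine ⟨by show T w ∈ Z ρ 0; rw [Z_zero]; trivial, fun y => ?_⟩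
    have hy' : (fun b => y.1 b * d b) ∈ tail F n k.val := fun b hb => by simp [y.2 b hb]
    rw [← hT (row k ⟨_, hy'⟩) (row k y) ?_ w, ((mem_E ρ ψ).1 hwE).2, map_smul]
    · congr 2
      simp [e1, hk, show (⟨1, by omega⟩ : Fin n) = one from rfl, dotProduct_single, hdd, honel]
    · ext x b
      rw [diagonal_mul, mul_diagonal, SLDeg48.row_apply, SLDeg48.row_apply, Matrix.one_apply]
      by_cases hx : x = k
      · subst hx
        have hdk : d k = 1 := by
          rw [hdd, Function.update_of_ne (fun e => by rw [e] at hkl; exact lt_irrefl _ hkl)]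
          rfl
        by_cases hb : k = b
        · rw [← hb]; simp [hdk, y.2 k le_rfl, hdd.symm]
        · simp [hb, hdk, hdd.symm]
      · by_cases hb : x = b
        · subst hb; simp [hx, mul_comm]
        · simp [hx, hb]
  obtain ⟨e, he⟩ := hscal _ hTE
  have he0 : e ≠ 0 := fun h0 => hw0 (hTinj (by rw [he, h0, zero_smul, map_zero]))
  refine ⟨w, hw0, fun j hjl t => ?_⟩
  have hjl' : j.val < n - 1 := by
    have := j.isLt
    have : j.val ≠ n - 1 := fun e => hjl (Fin.ext e)
    omega
  by_cases hj0 : j.val = 0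
  · obtain rfl : j = k := Fin.ext hj0
    rw [← row_single hkl t, ((mem_E ρ ψ).1 hwE).2]
    simp [e1, hk, show (⟨1, by omega⟩ : Fin n) = one from rfl, single_dotProduct, honel,
      honel.symm]
  -- the diagonal element rescales the root subgroup
  have hc1 : a⁻¹ ≠ 1 := fun h => ha1 (inv_eq_one.1 h)
  have hconj : ∀ s : F, T (ρ (SpecialLinearGroup.transvection hjl s) w) =
      ρ (SpecialLinearGroup.transvection hjl (a⁻¹ * s)) (T w) := by
    intro s
    refine hT _ _ ?_ w
    ext x y
    rw [diagonal_mul, mul_diagonal, SpecialLinearGroup.transvection_coe,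
      SpecialLinearGroup.transvection_coe, Matrix.add_apply, Matrix.add_apply, single_apply,
      single_apply, Matrix.one_apply]
    by_cases hxy : j = x ∧ l = y
    · obtain ⟨rfl, rfl⟩ := hxy
      simp [hdd, hjl]
      field_simp
    · rw [if_neg hxy, if_neg hxy]
      by_cases hx : x = y
      · subst hx; simp [mul_comm]
      · simp [hx]
  have key : ∀ s : F, ∀ c : ℂ, ρ (SpecialLinearGroup.transvection hjl s) w = c • w →
      ρ (SpecialLinearGroup.transvection hjl (a⁻¹ * s)) w = c • w := by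
    intro s c hc
    have h := hconj s
    rw [hc, map_smul, he, map_smul, smul_comm] at h
    exact (smul_right_injective M he0 h).symm
  have hsc : ∀ s : F, ∃ c : ℂ, ρ (SpecialLinearGroup.transvection hjl s) w = c • w := fun s =>
    hroot j l hjl s (by omega) (by simp [hl]; omega)
  set s := t / (a⁻¹ - 1) with hs
  have ht : t = a⁻¹ * s + -s := by
    have hne : a⁻¹ - 1 ≠ 0 := sub_ne_zero.2 hc1
    calc t = (a⁻¹ - 1) * s := by rw [hs, mul_div_cancel₀ _ hne]
      _ = _ := by ring
  obtain ⟨c, hc⟩ := hsc (-s)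
  obtain ⟨c', hc'⟩ := hsc s
  have hcc : c * c' = 1 := by
    have h := congrArg (fun g => ρ g w) (show SpecialLinearGroup.transvection hjl (-s) *
      SpecialLinearGroup.transvection hjl s = (1 : SL' n F) by
        rw [← SpecialLinearGroup.transvection_add, neg_add_cancel]
        exact Subtype.ext (by simp [SpecialLinearGroup.transvection_coe]))
    simp only [ρ_apply_mul, hc', map_smul, hc, smul_smul, map_one, Module.End.one_apply] at h
    have h2 : (c' * c) • w = (1 : ℂ) • w := by rw [h, one_smul]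
    rw [mul_comm]
    exact smul_left_injective ℂ hw0 h2
  rw [ht, SpecialLinearGroup.transvection_add, ρ_apply_mul, hc, map_smul, key s c' hc', smul_smul,
    hcc, one_smul]

/-- The bound for representations without fixed vectors, with a diagonal element. -/
theorem bound_torus (hn : 3 ≤ n) (hM : 0 < finrank ℂ M)
    (hfix : ∀ z : M, (∀ g, ρ g z = z) → z = 0)
    (T : Module.End ℂ M) (hTinj : Function.Injective T) {a : F} (ha0 : a ≠ 0) (ha1 : a ≠ 1)
    (hT : ∀ g g' : SL' n F,
      diagonal (Function.update (1 : Fin n → F) ⟨n - 1, by omega⟩ a) * g.1 =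
        g'.1 * diagonal (Function.update (1 : Fin n → F) ⟨n - 1, by omega⟩ a) →
      ∀ z, T (ρ g z) = ρ g' (T z)) :
    ∑ i ∈ Finset.range (n - 1), Fintype.card F ^ (i + 1) ≤ finrank ℂ M ∨
      (n = 3 ∧ finrank ℂ M + 1 = Fintype.card F + Fintype.card F ^ 2) := by
  classical
  have hnt : Nontrivial (AddChar F ℂ) := by
    rw [← Fintype.one_lt_card_iff_nontrivial, AddChar.card_eq]
    exact Fintype.one_lt_card
  obtain ⟨ψ, hψ1⟩ := exists_ne (1 : AddChar F ℂ)
  have hψ : ψ.IsPrimitive := AddChar.IsPrimitive.of_ne_one hψ1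
  have h2d : ∀ σ : Representation ℂ (SL' n F) M,
      dd σ ψ ⟨0, by omega⟩ (show 0 + 1 < n by omega) ≤ 1 ∨
        ∑ i ∈ Finset.range (n - 1), Fintype.card F ^ (i + 1) ≤ finrank ℂ M := by
    intro σ
    have h : finrank ℂ (Z σ 0) = finrank ℂ (Z σ (0 + 1)) +
        (Fintype.card F ^ (n - 0 - 1) - 1) * dd σ ψ ⟨0, by omega⟩ (show 0 + 1 < n by omega) :=
      finrank_Z σ hψ hn (k := ⟨0, by omega⟩) (show 0 + 1 < n by omega)
    rw [Z_zero, finrank_top, Nat.sub_zero] at h
    refine or_iff_not_imp_left.2 fun hd => ?_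
    refine (bound_le_two_mul (F := F) (n := n) (by omega)).trans ?_
    rw [mul_comm]
    refine le_trans (Nat.mul_le_mul_left _ (show 2 ≤ _ from Nat.lt_of_not_le hd)) ?_
    omega
  rcases h2d ρ with hd | hd
  swap
  · exact Or.inl hd
  by_cases hZ : Z ρ 1 = ⊥
  · obtain ⟨w, hw0, hw⟩ := exists_col_fixed_torus ρ hψ hn hM hd hZ T hTinj ha0 ha1 hT
    have hZ' := Z_one_invT ρ (by omega) hw0 hw
    rcases h2d (ρ.comp (invT n F)) with hd' | hd'
    swap
    · exact Or.inl hd'
    refine core (ρ.comp (invT n F)) hψ hn (fun z hz => hfix z fun g => ?_) hd' hZ'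
    have := hz (invT n F g)
    rwa [MonoidHom.comp_apply, invT_invT] at this
  · exact core ρ hψ hn hfix hd hZ

/-- Small dimensions of representations without fixed vectors over the field of two elements. -/
theorem bound_two (hn : 3 ≤ n) (hM : 0 < finrank ℂ M)
    (hfix : ∀ z : M, (∀ g, ρ g z = z) → z = 0) :
    ∑ i ∈ Finset.range (n - 1), Fintype.card F ^ (i + 1) ≤ finrank ℂ M ∨
      finrank ℂ M = Fintype.card F ^ (n - 1) - 1 ∨
      (n = 3 ∧ finrank ℂ M + 1 = Fintype.card F + Fintype.card F ^ 2) := by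
  classical
  have hnt : Nontrivial (AddChar F ℂ) := by
    rw [← Fintype.one_lt_card_iff_nontrivial, AddChar.card_eq]
    exact Fintype.one_lt_card
  obtain ⟨ψ, hψ1⟩ := exists_ne (1 : AddChar F ℂ)
  have hψ : ψ.IsPrimitive := AddChar.IsPrimitive.of_ne_one hψ1
  have h : finrank ℂ (Z ρ 0) = finrank ℂ (Z ρ (0 + 1)) +
      (Fintype.card F ^ (n - 0 - 1) - 1) * dd ρ ψ ⟨0, by omega⟩ (show 0 + 1 < n by omega) :=
    finrank_Z ρ hψ hn (k := ⟨0, by omega⟩) (show 0 + 1 < n by omega)
  rw [Z_zero, finrank_top, Nat.sub_zero] at h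
  by_cases hd : dd ρ ψ ⟨0, by omega⟩ (show 0 + 1 < n by omega) ≤ 1
  · by_cases hZ : Z ρ 1 = ⊥
    · rw [hZ, finrank_bot, zero_add] at h
      refine Or.inr (Or.inl ?_)
      rcases Nat.le_one_iff_eq_zero_or_eq_one.1 hd with h0 | h0 <;> rw [h0] at h <;> omega
    · rcases core ρ hψ hn hfix hd hZ with h' | h'
      · exact Or.inl h'
      · exact Or.inr (Or.inr h')
  · refine Or.inl ((bound_le_two_mul (F := F) (n := n) (by omega)).trans ?_)
    rw [mul_comm]
    refine le_trans (Nat.mul_le_mul_left _ (show 2 ≤ _ from Nat.lt_of_not_le hd)) ?_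
    omega

end Cfsg.Agent.Lib.OrthDeg48
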