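import Cfsg.Agent.Lib.OrthDeg48.Nontriv

/-!
The sign character of the radical cannot occur over the field with two elements.
-/

set_option autoImplicit false
set_option linter.unusedSectionVars false

namespace Cfsg.Agent.Lib.OrthDeg48

open Matrix Module Cfsg.Agent.Lib.SLDeg48 Cfsg.Agent.Lib.UniDeg48

variable {F : Type*} [Field F] {r : ℕ}
variable {κ : Type*} [Fintype κ] {G : Type*} [Group G] (S : Siegel F r κ G)
variable [Fintype F] {M : Type*} [AddCommGroup M] [Module ℂ M] [FiniteDimensional ℂ M]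
variable (ρ : Representation ℂ G M) {ψ : AddChar F ℂ}

namespace Siegel

set_option maxHeartbeats 800000 in
open Classical in
theorem sign_false (hr4 : r = 4) (hq : Fintype.card F = 2) (hψ : ψ.IsPrimitive)
    (hdec : ∀ (β : altM F r), β ≠ 0 → ¬ Dec β → finrank ℂ (S.D ρ ψ β) = 0)
    (hone : ∀ (β : altM F r), β ≠ 0 → Dec β →
      finrank ℂ (S.D ρ ψ β) = Fintype.card F ^ Fintype.card κ)
    (hQ0 : Function.Surjective S.Q0)
    (hconj : finrank ℂ (eigSub ρ (S.xzHom (show 3 ≤ r by omega)) 1) ≤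
      finrank ℂ (eigSub ρ (S.xlHom (show 3 ≤ r by omega)) 1)) :
    ∀ z ∈ S.D ρ ψ (altE (bv F 2 (by omega)) (bv F 3 (by omega))), ∀ t : F,
      ρ (S.L (row ⟨0, by omega⟩ ⟨Pi.single ⟨1, by omega⟩ t,
        single_mem_tail (show 0 < 1 by omega) t⟩)) z = z := by
  have hr : 3 ≤ r := by omega
  intro z0 hz0 t0
  by_contra hmoved
  have htwo : ∀ c : F, c ≠ 0 → c = 1 := by
    intro c hc
    by_contra h1
    have := Finset.card_le_univ ({0, 1, c} : Finset F)
    rw [hq, Finset.card_eq_three.2 ⟨0, 1, c, zero_ne_one, Ne.symm hc, Ne.symm h1, rfl⟩] at this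
    omega
  set k : Fin r := ⟨0, by omega⟩ with hk
  set i : Fin r := ⟨1, by omega⟩ with hi
  set l : Fin r := ⟨2, by omega⟩ with hl
  set m : Fin r := ⟨3, by omega⟩ with hm
  have hki : k ≠ i := by simp [hk, hi]
  set v0 := bv F 0 (show 0 < r by omega) with hv0
  set v1 := bv F 1 (show 1 < r by omega) with hv1
  set v2 := bv F 2 (show 2 < r by omega) with hv2
  set v3 := bv F 3 (show 3 < r by omega) with hv3
  set X : F → G := fun t => S.L (row k ⟨Pi.single i t, single_mem_tail (show 0 < 1 by omega) t⟩)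
    with hX
  set δ := altE v2 v3 with hδ
  set β0 := altE v0 v1 with hβ0
  have hδlm : δ.1 l m = 1 := by simp [hδ, hv2, hv3, altE_coe, alt2_apply, hl, hm]
  have hδ0 : δ ≠ 0 := fun h => by rw [h] at hδlm; exact zero_ne_one hδlm
  have hδrow : δ.1 k = 0 := by
    funext b
    simp [hδ, hv2, hv3, altE_coe, alt2_apply, hk]
  have hpair : pairA δ (altE v3 v2) ≠ 0 := by
    rw [hv2, hv3, pairA_single, δ.2.2]
    show -(δ.1 l m) ≠ 0
    rw [hδlm]; simp
  -- the root element is a scalar other than one on the eigenspace of `δ`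
  have hXD : ∀ t, ∀ z ∈ S.D ρ ψ δ, ρ (X t) z ∈ S.D ρ ψ δ := fun t z hz => by
    have := S.map_D_row ρ k
      (⟨Pi.single i t, single_mem_tail (show 0 < 1 by omega) t⟩ : tail F r k.val) hz
    rwa [hδrow, show altE (-(Pi.single i t : Fin r → F)) (0 : Fin r → F) = 0 from
      Subtype.ext (by simp [altE, alt2]), add_zero] at this
  obtain ⟨a, ha⟩ : ∃ a : ℂ, ∀ z ∈ S.D ρ ψ δ, ρ (X t0) z = a • z := by
    refine S.exists_scalar ρ hψ hpair
      (S.finrank_Fix_eq_one ρ hψ hone hδ0 ⟨v2, v3, rfl⟩ hpair) _ (hXD t0) ?_ ?_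
    all_goals
      intro n z _
      rw [← Module.End.mul_apply, ← map_mul]
      show ρ (S.L _ * S.Qv _ n) z = _
      rw [S.L_Qv, row_mulVec, map_mul, Module.End.mul_apply]
      simp [hv2, hv3, hi, hX]
  have ha1 : a ≠ 1 := fun h => hmoved (by rw [← hX] at *; exact (ha z0 hz0).trans (by rw [h, one_smul]))
  have hfix : ∀ γ : altM F r, ∀ z : M, z ∈ (S.D ρ ψ γ ⊓ eigSub ρ (S.xlHom hr) 1 : Submodule ℂ M) →
      ∀ t, ρ (X t) z = z := by
    intro γ z hz t
    have := (mem_eigSub ρ (S.xlHom hr)).1 hz.2 t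
    rwa [xlHom_apply, AddChar.one_apply, one_smul] at this
  set f : altM F r → ℕ := fun β =>
    finrank ℂ (S.D ρ ψ β ⊓ eigSub ρ (S.xlHom hr) 1 : Submodule ℂ M) with hf
  set d : altM F r → ℕ := fun β => finrank ℂ (S.D ρ ψ β) with hd
  have hfd : ∀ β, f β ≤ d β := fun β => Submodule.finrank_mono inf_le_left
  -- matrices whose first row is the second basis vector
  set P1 := Finset.univ.filter
    (fun β : altM F r => Row1 hr β ∧ β.1 k ≠ 0 ∧ d β ≠ 0) with hP1
  set N := Fintype.card F ^ Fintype.card κ with hN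
  have hNpos : 0 < N := Nat.pow_pos Fintype.card_pos
  have hrow1 : ∀ β ∈ P1, β.1 k = v1 ∧ (β.1 i + v0) k = 0 ∧ (β.1 i + v0) i = 0 ∧
      β = β0 + altE (-(β.1 i + v0)) v1 ∧ d β = N := by
    intro β hβ
    obtain ⟨hP, hk0, hd0⟩ := (Finset.mem_filter.1 hβ).2
    have hβne : β ≠ 0 := fun e => hk0 (by rw [e]; rfl)
    have hD : Dec β := by
      by_contra hnd
      exact hd0 (hdec β hβne hnd)
    have hki1 : β.1 k i = 1 := htwo _ fun e => hk0 (funext fun j => by
      by_cases hj : j = i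
      · subst hj; exact e
      · exact hP j hj)
    have hrk : β.1 k = v1 := funext fun j => by
      by_cases hj : j = i
      · subst hj; rw [hki1]; simp [hv1, hi]
      · rw [hP j hj]; simp [hv1, ← hi, hj]
    have hik : β.1 i k = -1 := by rw [β.2.2 k i, hki1]
    refine ⟨hrk, ?_, ?_, ?_, hone β hβne hD⟩
    · rw [Pi.add_apply, hik]; simp [hv0, hk]
    · rw [Pi.add_apply, β.2.1]; simp [hv0, hi, hki.symm]
    · have h := dec_eq hD (a := k) (b := i) (by rw [hki1]; exact one_ne_zero)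
      rw [hki1, inv_one, one_smul, hrk] at h
      conv_lhs => rw [h]
      apply Subtype.ext
      ext p q
      simp only [hβ0, Submodule.coe_add, Matrix.add_apply, altE_coe, alt2_apply, Pi.neg_apply,
        Pi.add_apply]
      ring
  -- some vector of the standard eigenspace is moved
  have hmov0 : ∃ z ∈ S.D ρ ψ β0, ∃ t, ρ (X t) z ≠ z := by
    by_contra hall
    push Not at hall
    have hp : pairA β0 (altE v1 v0) = -1 := by
      rw [hv0, hv1, pairA_single, β0.2.2]
      show -(β0.1 k i) = -1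
      simp [hβ0, hv0, hv1, altE_coe, alt2_apply, hk, hi]
    have hne : β0 ≠ 0 := fun e => by rw [e] at hp; simp [pairA] at hp
    have h1 := S.finrank_Fix_eq_one ρ hψ hone hne ⟨v0, v1, rfl⟩ (u := v0) (w := v1)
      (by rw [hp]; exact neg_ne_zero.2 one_ne_zero)
    obtain ⟨v, hv, hvn⟩ := Submodule.exists_mem_ne_zero_of_ne_bot
      (show S.Fix ρ ψ β0 v0 ≠ ⊥ from fun h => by rw [h, finrank_bot] at h1; omega)
    rw [mem_Fix] at hv
    obtain ⟨n, hn⟩ := hQ0 1
    refine hψ (neg_ne_zero.2 (one_ne_zero (α := F))) ?_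
    ext t
    rw [AddChar.mulShift_apply, AddChar.one_apply]
    have hg : (row k ⟨Pi.single i t, single_mem_tail (show 0 < 1 by omega) t⟩ : SL' r F).1 *ᵥ v1 =
        v1 + t • v0 := by rw [row_mulVec]; simp [hv1, hi, hv0, hk]
    have h2 := hall _ (S.map_D_Qv ρ ψ v1 n hv.1) t
    rw [← Module.End.mul_apply, ← map_mul] at h2
    change ρ (S.L _ * S.Qv v1 n) v = _ at h2
    rw [S.L_Qv, hg, map_mul, Module.End.mul_apply] at h2
    change ρ (S.Qv (v1 + t • v0) n) (ρ (X t) v) = _ at h2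
    rw [hall v hv.1 t, S.Qv_add_left_apply ρ ψ hv.1, S.Qv_smul, hv.2, altE_smul_right,
      pairA_smul_right, hp, hn] at h2
    have hne' : ρ (S.Qv v1 n) v ≠ 0 := fun h => hvn (ρ_inj ρ _ (h.trans (map_zero _).symm))
    have h3 : ψ (1 * (t * -1)) = 1 :=
      smul_left_injective ℂ hne' (h2.trans (one_smul ℂ _).symm)
    rwa [show -1 * t = 1 * (t * -1) by ring]
  have hf1 : ∀ β ∈ P1, f β < N := by
    intro β hβ
    obtain ⟨-, hyk, hyi, he, hdN⟩ := hrow1 β hβ
    set y : tail F r k.val := ⟨β.1 i + v0, fun j hj => by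
      rw [show j = k from Fin.ext (Nat.le_zero.1 (by simpa [hk] using hj))]; exact hyk⟩ with hy
    by_contra hge
    have heq : (S.D ρ ψ β ⊓ eigSub ρ (S.xlHom hr) 1 : Submodule ℂ M) = S.D ρ ψ β :=
      Submodule.eq_of_le_of_finrank_le inf_le_left (by change d β ≤ f β; omega)
    obtain ⟨z, hz, t, hzt⟩ := hmov0
    have hmap := S.map_D_row ρ k y hz
    rw [show β0.1 k = v1 from funext fun b => by
      simp [hβ0, hv0, hv1, altE_coe, alt2_apply, hk], ← he] at hmap
    have h1 := hfix β _ (heq.symm ▸ hmap) t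
    rw [← Module.End.mul_apply, ← map_mul] at h1
    change ρ (S.L _ * S.L _) z = _ at h1
    rw [← map_mul, ← row_add, add_comm, row_add, map_mul, map_mul, Module.End.mul_apply] at h1
    exact hzt (ρ_inj ρ _ h1)
  -- the matrices with a sign
  let Ψ : altM F r → altM F r := fun β => congA (rk1 v1 ((β.1 i l) • v2 + (β.1 i m) • v3)
    (by simp [hv1, hv2, hv3])).1 δ
  have hΨ : ∀ β, Ψ β = altE (v2 + (β.1 i l) • v1) (v3 + (β.1 i m) • v1) := fun β => by
    show congA _ (altE v2 v3) = _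
    rw [congA_altE, rk1_coe, add_mulVec, add_mulVec, one_mulVec, one_mulVec, vecMulVec_mulVec,
      vecMulVec_mulVec, op_smul_eq_smul, op_smul_eq_smul]
    simp [hv2, hv3, dotProduct_single, Pi.single_apply]
  have hΨrow : ∀ β, (Ψ β).1 k = 0 := fun β => by
    rw [hΨ]
    funext b
    simp [hv1, hv2, hv3, altE_coe, alt2_apply, hk]
  have hΨd : ∀ β, d (Ψ β) = N := fun β => by
    show finrank ℂ (S.D ρ ψ (congA _ δ)) = N
    rw [S.finrank_D_congA]
    exact hone δ hδ0 ⟨v2, v3, rfl⟩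
  have hΨf : ∀ β, f (Ψ β) = 0 := by
    intro β
    set u : Fin r → F := (β.1 i l) • v2 + (β.1 i m) • v3 with hu
    have hu' : u ⬝ᵥ v1 = 0 := by simp [hu, hv1, hv2, hv3]
    show finrank ℂ _ = 0
    rw [Submodule.finrank_eq_zero, Submodule.eq_bot_iff]
    intro z hz
    set h : SL' r F := rk1 v1 u hu' with hh
    have hz1 := S.map_D_L ρ ψ h⁻¹ (show z ∈ S.D ρ ψ (congA h.1 δ) from hz.1)
    rw [congA_inv] at hz1
    have hcomm : row k (⟨Pi.single i t0, single_mem_tail (show 0 < 1 by omega) t0⟩ : tail F r k.val) *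
        invT r F h⁻¹ =
        invT r F h⁻¹ * row k ⟨Pi.single i t0, single_mem_tail (show 0 < 1 by omega) t0⟩ := by
      rw [map_inv, hh, invT_rk1]
      apply (Commute.inv_right _).eq
      show rk1 (Pi.single k 1) (Pi.single i t0) _ * rk1 (-u) v1 _ = _
      apply Subtype.ext
      show (1 + vecMulVec (Pi.single k (1 : F)) (Pi.single i t0)) * (1 + vecMulVec (-u) v1) =
        (1 + vecMulVec (-u) v1) * (1 + vecMulVec (Pi.single k (1 : F)) (Pi.single i t0))
      simp only [add_mul, mul_add, one_mul, mul_one, vecMulVec_mul_vecMulVec]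
      simp [hu, hv1, hv2, hv3, hi, hk]
      abel
    have h1 := ha _ hz1
    rw [← Module.End.mul_apply, ← map_mul] at h1
    change ρ (S.L _ * S.L _) z = _ at h1
    rw [← map_mul, hcomm, map_mul, map_mul, Module.End.mul_apply] at h1
    change ρ (S.L _) (ρ (X t0) z) = _ at h1
    rw [hfix _ z hz t0] at h1
    by_contra hz0'
    refine ha1 (smul_left_injective ℂ (fun e : ρ (S.L (invT r F h⁻¹)) z = 0 =>
      hz0' (ρ_inj ρ _ (e.trans (map_zero _).symm))) ?_)
    show a • _ = (1 : ℂ) • _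
    rw [one_smul]
    exact h1.symm
  have hinj : Set.InjOn Ψ (P1 : Set (altM F r)) := by
    intro β hβ β' hβ' he
    obtain ⟨-, hyk, hyi, heβ, -⟩ := hrow1 β hβ
    obtain ⟨-, hyk', hyi', heβ', -⟩ := hrow1 β' hβ'
    rw [hΨ, hΨ] at he
    have hlm := congrArg (fun A : altM F r => A.1 i l) he
    have hml := congrArg (fun A : altM F r => A.1 i m) he
    simp [hv1, hv2, hv3, altE_coe, alt2_apply, hi, hl, hm] at hlm hml
    rw [heβ, heβ']
    congr 2
    refine congrArg Neg.neg (funext fun j => ?_)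
    rcases (show j = k ∨ j = i ∨ j = l ∨ j = m by
      have := j.isLt
      rcases (show j.val = 0 ∨ j.val = 1 ∨ j.val = 2 ∨ j.val = 3 by omega) with e | e | e | e
      · exact Or.inl (Fin.ext e)
      · exact Or.inr (Or.inl (Fin.ext e))
      · exact Or.inr (Or.inr (Or.inl (Fin.ext e)))
      · exact Or.inr (Or.inr (Or.inr (Fin.ext e)))) with rfl | rfl | rfl | rfl
    · rw [hyk, hyk']
    · rw [hyi, hyi']
    · simp [hv0, hl, hi, hml]
    · simp [hv0, hm, hi, hlm]
  have hmem0 : β0 ∈ P1 := by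
    refine Finset.mem_filter.2 ⟨Finset.mem_univ _, fun j hj => ?_, fun e => ?_, ?_⟩
    · have hj' : j ≠ i := hj
      have hj1 : j.val ≠ 1 := fun e => hj (Fin.ext e)
      show β0.1 k j = 0
      simp [hβ0, hv0, hv1, altE_coe, alt2_apply, hk, Pi.single_apply, Fin.ext_iff, hj1]
    · have := congrFun e i
      simp [hβ0, hv0, hv1, altE_coe, alt2_apply, hk, hi] at this
    · have : d β0 = N := hone β0 (fun e => by
        have := congrArg (fun A : altM F r => A.1 k i) e
        simp [hβ0, hv0, hv1, altE_coe, alt2_apply, hk, hi] at this) ⟨v0, v1, rfl⟩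
      omega
  set Z := Finset.univ.filter (fun β : altM F r => β.1 k = 0) with hZ
  set P := Finset.univ.filter (Row1 (F := F) hr) with hP
  have hZP : Z ⊆ P := fun β hβ => Finset.mem_filter.2 ⟨Finset.mem_univ _, fun j _ => by
    rw [(Finset.mem_filter.1 hβ).2]; rfl⟩
  have hP1P : P1 ⊆ P \ Z := fun β hβ => by
    obtain ⟨h1, h2, -⟩ := (Finset.mem_filter.1 hβ).2
    exact Finset.mem_sdiff.2 ⟨Finset.mem_filter.2 ⟨Finset.mem_univ _, h1⟩,
      fun h => h2 (Finset.mem_filter.1 h).2⟩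
  have hsumP : (∑ β ∈ P, f β) + P1.card ≤ ∑ β ∈ Z, d β := by
    have h1 : ∑ β ∈ P \ Z, f β = ∑ β ∈ P1, f β := by
      refine (Finset.sum_subset hP1P fun β hβ hnot => ?_).symm
      simp only [hP, hZ, Finset.mem_sdiff, Finset.mem_filter, Finset.mem_univ, true_and] at hβ
      have hd0 : d β = 0 := by
        by_contra h
        exact hnot (Finset.mem_filter.2 ⟨Finset.mem_univ _, hβ.1, hβ.2, h⟩)
      have := hfd β
      omega
    have h2 : (∑ β ∈ P1, f β) + P1.card ≤ P1.card * N := by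
      rw [← smul_eq_mul, ← Finset.sum_const, Finset.card_eq_sum_ones, ← Finset.sum_add_distrib]
      exact Finset.sum_le_sum fun β hβ => hf1 β hβ
    have hsub : P1.image Ψ ⊆ Z := fun γ hγ => by
      obtain ⟨β, -, rfl⟩ := Finset.mem_image.1 hγ
      exact Finset.mem_filter.2 ⟨Finset.mem_univ _, hΨrow β⟩
    have h3 : (∑ β ∈ Z, f β) + P1.card * N ≤ ∑ β ∈ Z, d β := by
      rw [← Finset.sum_sdiff hsub, ← Finset.sum_sdiff hsub (f := d),
        Finset.sum_image hinj, Finset.sum_image hinj]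
      simp only [hΨf, hΨd, Finset.sum_const_zero, add_zero, Finset.sum_const, smul_eq_mul]
      exact Nat.add_le_add_right (Finset.sum_le_sum fun β _ => hfd β) _
    rw [← Finset.sum_sdiff hZP, h1]
    omega
  have hkey : Fintype.card F * finrank ℂ (eigSub ρ (S.xlHom hr) 1) =
      Fintype.card F * (∑ β ∈ P, f β) +
        ∑ β ∈ Finset.univ.filter (fun β : altM F r => ¬ Row1 hr β), d β := by
    rw [Finset.mul_sum]
    exact S.finrank_xl_mul ρ hr hψ
  have hz' : finrank ℂ (eigSub ρ (S.xzHom hr) 1) = (∑ β ∈ Z, d β) +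
      ∑ β ∈ Finset.univ.filter (fun β : altM F r => β.1 k i = 0 ∧ β.1 k ≠ 0), d β :=
    S.finrank_xz_split ρ hr hψ
  have hmv : Fintype.card F * (∑ β ∈ Finset.univ.filter
      (fun β : altM F r => β.1 k i = 0 ∧ β.1 k ≠ 0), d β) =
        ∑ β ∈ Finset.univ.filter (fun β : altM F r => ¬ Row1 hr β), d β :=
    S.sum_moved_eq ρ hr hψ
  have hc : 1 ≤ P1.card := Finset.card_pos.2 ⟨β0, hmem0⟩
  have h1 := Nat.mul_le_mul_left (Fintype.card F) hconj
  have h2 := Nat.mul_le_mul_left (Fintype.card F) hsumP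
  rw [hz', mul_add] at h1
  rw [mul_add] at h2
  have hpos : 0 < Fintype.card F * P1.card := Nat.mul_pos Fintype.card_pos hc
  omega

end Siegel

end Cfsg.Agent.Lib.OrthDeg48
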