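import Cfsg.Agent.Lib.OrthDeg48.Transfer
import Cfsg.Agent.Lib.OrthDeg48.Main
import Cfsg.Agent.Lib.OrthDeg48.NoFixed
import Cfsg.Agent.Lib.OrthDeg48.Sign
import Cfsg.Agent.Lib.OrthDeg48.SLTorus
import Cfsg.Agent.Lib.OrthStd.Models

/-!
The bound for the minus type groups, reduced to the representations of `SL_r`.
-/

set_option autoImplicit false
set_option linter.unusedSectionVars false

namespace Cfsg.Agent.Lib.OrthDeg48

open Matrix Module QuadraticMap Cfsg.Agent.Lib.Forms Cfsg.Agent.Lib.OrthOmega Cfsg.Agent.Lib.SLDeg48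
  Cfsg.Agent.Lib.UniDeg48

variable {F : Type*} [Field F] [Fintype F]

/-- The coordinate model of the minus form. -/
def minusModel (r : ℕ) (a b : F) :
    (OrthStd.qMinusC r a b).IsometryEquiv (qS r (qBin a b)) where
  toFun v := (fun i => v (.inl (.inl i)), fun i => v (.inl (.inr i)), fun j => v (.inr j))
  map_add' _ _ := rfl
  map_smul' _ _ := rfl
  invFun X := Sum.elim (Sum.elim X.1 X.2.1) X.2.2
  left_inv v := by
    funext j
    rcases j with (j | j) | j <;> rfl
  right_inv _ := rfl
  map_app' v := by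
    rw [qS_apply, ← OrthStd.quadFormMinus_eq]
    simp [Cfsg.quadFormMinus, qBin_apply, dotProduct]

variable {a b : F} (hab : ∀ z₁ z₂ : F, z₁ ^ 2 + a * z₁ * z₂ + b * z₂ ^ 2 = 0 → z₁ = 0 ∧ z₂ = 0)

include hab in
theorem qBin_surj (c : F) : ∃ v, qBin a b v = c :=
  exists_Q_eq (qBin_nondeg hab) (by simp) c

include hab in
/-- A fixed point free rotation. -/
theorem exists_fpf : ∃ v w : Fin 2 → F, ∀ z : Fin 2 → F,
    Forms.refl (qBin a b) v (Forms.refl (qBin a b) w
      (Forms.refl (qBin a b) v (Forms.refl (qBin a b) w z))) = z → z = 0 := by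
  obtain ⟨s, hs⟩ : ∃ s : F, a + 2 * s ≠ 0 := by
    by_cases ha : a = 0
    · refine ⟨1, ?_⟩
      rw [ha, zero_add, mul_one]
      intro h2
      obtain ⟨t, ht⟩ := exists_sqrt h2 b
      refine one_ne_zero (hab t 1 ?_).2
      rw [ha]
      linear_combination ht + b * h2
    · exact ⟨0, by rwa [mul_zero, add_zero]⟩
  set v : Fin 2 → F := ![1, 0] with hv
  set w : Fin 2 → F := ![s, 1] with hw
  have hQv : qBin a b v ≠ 0 := fun h => by
    have := qBin_anisotropic hab v h
    simpa [hv] using congrFun this 0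
  have hQw : qBin a b w ≠ 0 := fun h => by
    have := qBin_anisotropic hab w h
    simpa [hw] using congrFun this 1
  have hB : polar (qBin a b) v w ≠ 0 := by
    simp only [polar, qBin_apply, hv, hw]
    simp
    convert hs using 1
    ring
  have hind : ∀ α β : F, α • v + β • w = 0 → α = 0 ∧ β = 0 := fun α β h => by
    have h0 := congrFun h 0
    have h1 := congrFun h 1
    simp [hv, hw] at h0 h1
    subst h1
    simpa using h0
  have hdec : ∀ z : Fin 2 → F, z = (z 0 - z 1 * s) • v + z 1 • w := fun z => by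
    funext j
    fin_cases j <;> simp [hv, hw]
  have hperp : ∀ z, polar (qBin a b) v z = 0 → polar (qBin a b) w z = 0 → z = 0 := fun z h1 h2 =>
    qBin_nondeg hab z fun y => by
      rw [polar_comm, hdec y, polar_add_left, polar_smul_left, polar_smul_left, h1, h2]
      simp
  set ρ : (Fin 2 → F) → (Fin 2 → F) := fun z =>
    Forms.refl (qBin a b) v (Forms.refl (qBin a b) w z) with hρ
  have hinv : ∀ (u z : Fin 2 → F),
      Forms.refl (qBin a b) u (Forms.refl (qBin a b) u z) = z := fun u z =>
    reflMap_involutive (qBin a b) u z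
  have hfix : ∀ z, ρ z = z → z = 0 := by
    intro z hz
    have h1 := congrArg (Forms.refl (qBin a b) v) hz
    rw [hρ, hinv, refl_apply, refl_apply] at h1
    have h2 := hind ((qBin a b v)⁻¹ * polar (qBin a b) v z)
      (-((qBin a b w)⁻¹ * polar (qBin a b) w z)) (by
        rw [neg_smul, ← sub_eq_add_neg, sub_eq_zero]
        exact (sub_right_inj.1 h1).symm)
    refine hperp z ?_ ?_
    · exact (mul_eq_zero.1 h2.1).resolve_left (inv_ne_zero hQv)
    · exact (mul_eq_zero.1 (neg_eq_zero.1 h2.2)).resolve_left (inv_ne_zero hQw)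
  refine ⟨v, w, fun z hz => ?_⟩
  have hz' : ρ (ρ z) = z := hz
  have hadd : ∀ x y, ρ (x + y) = ρ x + ρ y := fun x y => by simp [hρ]
  have hneg : ρ z = -z := eq_neg_of_add_eq_zero_left (hfix _ (by rw [hadd, hz', add_comm]))
  have h1 := congrArg (Forms.refl (qBin a b) v) hneg
  rw [hρ, hinv, map_neg, refl_apply, refl_apply] at h1
  set α := z 0 - z 1 * s
  set β := z 1
  set cv := (qBin a b v)⁻¹ * polar (qBin a b) v z with hcv
  set cw := (qBin a b w)⁻¹ * polar (qBin a b) w z with hcw
  have hzd : z = α • v + β • w := hdec z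
  have h2 := hind (2 * α - cv) (2 * β - cw) (by
    have e : z + z = cw • w + cv • v := by
      have e0 := congrArg (fun x => x + (cw • w + z)) h1
      abel_nf at e0 ⊢
      exact e0
    rw [hzd] at e
    rw [sub_smul, sub_smul, two_mul, two_mul, add_smul, add_smul]
    rw [← sub_eq_zero] at e
    rw [← e]
    abel)
  have h3 : polar (qBin a b) v z = 2 * qBin a b v * α := by
    have h := sub_eq_zero.1 h2.1
    rw [hcv] at h; field_simp at h; linear_combination -h
  have h4 : polar (qBin a b) w z = 2 * qBin a b w * β := by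
    have h := sub_eq_zero.1 h2.2
    rw [hcw] at h; field_simp at h; linear_combination -h
  rw [hzd, polar_add_right, polar_smul_right, polar_smul_right, polar_self', smul_eq_mul,
    smul_eq_mul] at h3 h4
  rw [polar_comm (qBin a b) w v] at h4
  have hβ : β * polar (qBin a b) v w = 0 := by linear_combination h3
  have hα : α * polar (qBin a b) v w = 0 := by linear_combination h4
  rw [hzd, (mul_eq_zero.1 hα).resolve_right hB, (mul_eq_zero.1 hβ).resolve_right hB]
  simp

theorem diag_update_single {n : ℕ} {i j : Fin n} (hij : i ≠ j) (c : F) :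
    diagonal (Function.update (1 : Fin n → F) j c) *ᵥ Pi.single i 1 = Pi.single i 1 := by
  funext x
  rw [mulVec_diagonal]
  by_cases hx : x = i
  · subst hx; simp [hij]
  · simp [hx]

theorem diag_update_rk1 {n : ℕ} {k j : Fin n} (hkj : k ≠ j) {a : F} (ha : a ≠ 0) (t : F)
    (h : (Pi.single j t : Fin n → F) ⬝ᵥ Pi.single k 1 = 0)
    (h' : (Pi.single j (a * t) : Fin n → F) ⬝ᵥ Pi.single k 1 = 0) :
    diagonal (Function.update (1 : Fin n → F) j a⁻¹) *
        (rk1 (Pi.single k 1) (Pi.single j t) h : SL' n F).1 =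
      (rk1 (Pi.single k 1) (Pi.single j (a * t)) h' : SL' n F).1 *
        diagonal (Function.update (1 : Fin n → F) j a⁻¹) := by
  ext x y
  rw [diagonal_mul, mul_diagonal, rk1_apply, rk1_apply]
  by_cases hx : x = k
  · subst hx
    by_cases hy : y = j
    · subst hy; simp [hkj]; field_simp
    · by_cases hxy : x = y
      · subst hxy; simp [hkj]
      · simp [hkj, hy, hxy]
  · by_cases hxy : x = y
    · subst hxy; simp [hx, mul_comm]
    · simp [hx, hxy]

theorem diag_update_rk1' {n : ℕ} {k j : Fin n} (hkj : k ≠ j) {a : F} (ha : a ≠ 0) (t : F)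
    (h : (Pi.single k 1 : Fin n → F) ⬝ᵥ (-Pi.single j t) = 0)
    (h' : (Pi.single k 1 : Fin n → F) ⬝ᵥ (-Pi.single j (a * t)) = 0) :
    diagonal (Function.update (1 : Fin n → F) j a) *
        (rk1 (-Pi.single j t) (Pi.single k 1) h : SL' n F).1 =
      (rk1 (-Pi.single j (a * t)) (Pi.single k 1) h' : SL' n F).1 *
        diagonal (Function.update (1 : Fin n → F) j a) := by
  ext x y
  rw [diagonal_mul, mul_diagonal, rk1_apply, rk1_apply]
  by_cases hy : y = k
  · subst hy
    by_cases hx : x = j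
    · subst hx; simp [hkj, Ne.symm hkj]
    · by_cases hxy : x = y
      · subst hxy; simp [hkj, hx]
      · simp [hkj, hx, hxy]
  · by_cases hxy : x = y
    · subst hxy; simp [hy, mul_comm]
    · simp [hy, hxy]

theorem invT_diag {n : ℕ} {d e : Fin n → F} (hde : ∀ i, d i * e i = 1) {g g' : SL' n F}
    (h : diagonal d * g.1 = g'.1 * diagonal d) :
    diagonal e * (invT n F g).1 = (invT n F g').1 * diagonal e := by
  have hed : diagonal e * diagonal d = (1 : Matrix (Fin n) (Fin n) F) := by
    rw [diagonal_mul_diagonal, ← diagonal_one]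
    congr 1; funext i; rw [mul_comm, hde]
  have hde' : diagonal d * diagonal e = (1 : Matrix (Fin n) (Fin n) F) := by
    rw [diagonal_mul_diagonal, ← diagonal_one]
    congr 1; funext i; rw [hde]
  have hi : g.1 * (g⁻¹).1 = 1 := congrArg Subtype.val (mul_inv_cancel g)
  have hi' : (g'⁻¹).1 * g'.1 = 1 := congrArg Subtype.val (inv_mul_cancel g')
  have h1 : (g⁻¹).1 * diagonal e = diagonal e * (g'⁻¹).1 := by
    calc (g⁻¹).1 * diagonal e
        = (diagonal e * ((g'⁻¹).1 * g'.1) * diagonal d) * ((g⁻¹).1 * diagonal e) := by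
          rw [hi', mul_one, hed, one_mul]
      _ = diagonal e * (g'⁻¹).1 * (g'.1 * diagonal d) * ((g⁻¹).1 * diagonal e) := by
          simp only [mul_assoc]
      _ = diagonal e * (g'⁻¹).1 * diagonal d * (g.1 * (g⁻¹).1) * diagonal e := by
          rw [← h]; simp only [mul_assoc]
      _ = _ := by rw [hi, mul_one, mul_assoc, mul_assoc, hde', mul_one]
  show diagonal e * (g⁻¹).1ᵀ = (g'⁻¹).1ᵀ * diagonal e
  have := congrArg Matrix.transpose h1
  simpa [Matrix.transpose_mul] using this

variable (r : ℕ) (hr : 3 ≤ r)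

set_option maxHeartbeats 1600000 in
include hab hr in
/-- The bound for the model of minus type. -/
theorem minus_bound {M : Type*} [AddCommGroup M] [Module ℂ M] [FiniteDimensional ℂ M]
    (ρ : Representation ℂ (EG (qS r (qBin a b))) M) (hnt : ∃ g, ρ g ≠ 1)
    (hfixG : ∀ z : M, (∀ g, ρ g z = z) → z = 0)
    (hdvd : finrank ℂ M ∣ 2 * Fintype.card F ^ ((r + 1) * r) * (Fintype.card F ^ (r + 1) + 1) *
      ∏ i ∈ Finset.range r, (Fintype.card F ^ (2 * (i + 1)) - 1)) :
    Fintype.card F ^ 2 * numDec (Fintype.card F) r +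
      ∑ i ∈ Finset.range (r - 1), Fintype.card F ^ (i + 1) ≤ finrank ℂ M := by
  classical
  have hR : Nondeg (qBin a b) := qBin_nondeg hab
  set S := modelSiegel (qBin a b) hR (show 2 ≤ r by omega) with hS
  have hnt' : Nontrivial (AddChar F ℂ) := by
    rw [← Fintype.one_lt_card_iff_nontrivial, AddChar.card_eq]
    exact Fintype.one_lt_card
  obtain ⟨ψ, hψ1⟩ := exists_ne (1 : AddChar F ℂ)
  have hψ : ψ.IsPrimitive := AddChar.IsPrimitive.of_ne_one hψ1
  have hq := Fintype.one_lt_card (α := F)
  have key : ∀ (τ : orth (qS r (qBin a b))) (hτ : τ ∈ EG (qS r (qBin a b))) (g h : Matrix (Fin r) (Fin r) F)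
      (σ : (Fin 2 → F) → (Fin 2 → F)), HasShape τ g h σ → hᵀ * g = 1 →
      ∀ β : altM F r, congA h β = β → ∀ z ∈ S.D ρ ψ β, ρ ⟨τ, hτ⟩ z ∈ S.D ρ ψ β := by
    intro τ hτ g h σ hs hgh β hβ z hz
    have := S.map_D ρ ψ (τ := ⟨τ, hτ⟩) (g := g) (h := h)
      (fun A => Subtype.ext (hs.zh hgh A)) hgh hz
    rwa [hβ] at this
  have hB1 : ∀ c : F, ∃ v, qBin a b v = c := qBin_surj hab
  obtain ⟨gc, hgcm, hgc⟩ := exists_conj (R := qBin a b) hR hr
  refine S.main_bound ρ hr hψ (exists_zh_ne_one hR hr ρ hnt) ?_ ?_ ?_ ?_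
    (X := Fintype.card F ^ 2 * numDec (Fintype.card F) r +
      ∑ i ∈ Finset.range (r - 1), Fintype.card F ^ (i + 1)) ?_ ?_ ?_
  · intro c
    obtain ⟨v, w, hvw⟩ := exists_fpf hab
    obtain ⟨τ, hτm, hτ⟩ := exists_rot hR hr v w
    refine ⟨⟨τ, hτm⟩, fun z => Forms.refl (qBin a b) v (Forms.refl (qBin a b) w (Forms.refl (qBin a b) v (Forms.refl (qBin a b) w z))),
      ?_, key τ hτm _ _ _ hτ (by simp) _ (congA_one _), fun n => Subtype.ext ?_⟩
    · let σ : (Fin 2 → F) →ₗ[F] (Fin 2 → F) :=
        (Forms.refl (qBin a b) v * Forms.refl (qBin a b) w * Forms.refl (qBin a b) v * Forms.refl (qBin a b) w).toLinearMap -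
          LinearMap.id
      have hinj : Function.Injective σ := by
        rw [← LinearMap.ker_eq_bot, LinearMap.ker_eq_bot']
        intro z hz
        exact hvw z (sub_eq_zero.1 hz)
      exact LinearMap.surjective_of_injective hinj
    · have := hτ.qv (Pi.single ⟨0, by omega⟩ 1 : Fin r → F) n
      rwa [one_mulVec] at this
  · intro hdec hone c hc h4
    by_cases h2 : Fintype.card F = 2
    · refine Or.inr fun t z hz => ?_
      have htwo : ∀ c : F, c ≠ 0 → c = 1 := by
        intro c hc
        by_contra h1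
        have := Finset.card_le_univ ({0, 1, c} : Finset F)
        rw [h2, Finset.card_eq_three.2 ⟨0, 1, c, zero_ne_one, Ne.symm hc, Ne.symm h1, rfl⟩] at this
        omega
      have hm1 : (-1 : F) = 1 := htwo _ (neg_ne_zero.2 one_ne_zero)
      rw [htwo c hc, one_smul] at hz
      have hfinal := S.sign_false ρ h4 h2 hψ hdec hone hB1 ?_
      swap
      · refine Siegel.finrank_le_of_maps ρ (⟨gc, hgcm⟩ : EG (qS r (qBin a b)))⁻¹ fun x hx => ?_
        rw [mem_eigSub] at hx ⊢
        intro t'
        have h' := hx (-t')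
        rw [Siegel.xzHom_apply, AddChar.one_apply, one_smul] at h'
        rw [Siegel.xlHom_apply, AddChar.one_apply, one_smul]
        refine Siegel.ρ_inj ρ (⟨gc, hgcm⟩ : EG (qS r (qBin a b))) ?_
        have hgg : ∀ y, ρ (⟨gc, hgcm⟩ : EG (qS r (qBin a b)))
            (ρ (⟨gc, hgcm⟩ : EG (qS r (qBin a b)))⁻¹ y) = y := fun y => by
          rw [← Module.End.mul_apply, ← map_mul, mul_inv_cancel, map_one, Module.End.one_apply]
        have e : (⟨gc, hgcm⟩ : EG (qS r (qBin a b))) *
            S.L (row ⟨0, by omega⟩ ⟨Pi.single ⟨1, by omega⟩ t',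
              single_mem_tail (show 0 < 1 by omega) t'⟩) =
            S.Zh ((-t') • altE (bv F 0 (by omega)) (bv F 1 (by omega))) * ⟨gc, hgcm⟩ := by
          have hgc' := hgc (-t')
          simp only [neg_neg] at hgc'
          exact Subtype.ext hgc'
        rw [hgg, ← Module.End.mul_apply (ρ (⟨gc, hgcm⟩ : EG (qS r (qBin a b)))), ← map_mul ρ,
          e, map_mul, Module.End.mul_apply, hgg, h']
      subst h4
      set h := wel (F := F) (show (1 : Fin 4) ≠ 2 by decide) * wel (show (2 : Fin 4) ≠ 3 by decide)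
        with hh
      have hu : ∀ i : Fin 4, h.1 *ᵥ Pi.single i 1 =
          Pi.single ((![0, 2, 3, 1] : Fin 4 → Fin 4) i) 1 := by
        intro i
        funext x
        rw [hh, show ∀ A B : SL' 4 F, (A * B).1 = A.1 * B.1 from fun _ _ => rfl, ← mulVec_mulVec, wel_mulVec_single, mulVec_smul,
          wel_mulVec_single, hm1]
        fin_cases i <;> fin_cases x <;> simp [Equiv.swap_apply_def]
      have hv : (Pi.single 0 1 : Fin 4 → F) ᵥ* h.1 = Pi.single 0 1 := by
        funext x
        have := congrFun (hu x) 0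
        rw [mulVec_single_one] at this
        rw [single_one_vecMul]
        fin_cases x <;> simpa using this
      have hz' := S.map_D_L ρ ψ h hz
      rw [congA_altE, bv, bv, show (⟨1, _⟩ : Fin 4) = 1 from rfl, show (⟨2, _⟩ : Fin 4) = 2 from rfl,
        hu, hu] at hz'
      have hfix := hfinal _ hz' t
      have e : invT 4 F h * row (⟨0, by omega⟩ : Fin 4) ⟨Pi.single ⟨3, by omega⟩ t,
          single_mem_tail (show 0 < 3 by omega) t⟩ =
          row (⟨0, by omega⟩ : Fin 4) ⟨Pi.single ⟨1, by omega⟩ t,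
            single_mem_tail (show 0 < 1 by omega) t⟩ * invT 4 F h := by
        have hinv : Function.Injective (invT 4 F) := Function.LeftInverse.injective invT_invT
        apply hinv
        rw [map_mul (invT 4 F) (invT 4 F h), map_mul (invT 4 F) _ (invT 4 F h), invT_invT]
        simp only [SLDeg48.row, invT_rk1]
        refine mul_rk1 h _ _ ?_ hv
        show h.1 *ᵥ (-Pi.single (3 : Fin 4) t) = -Pi.single (1 : Fin 4) t
        have es : (Pi.single (3 : Fin 4) t : Fin 4 → F) = t • Pi.single 3 1 := by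
          rw [← Pi.single_smul', smul_eq_mul, mul_one]
        rw [mulVec_neg, es, mulVec_smul, hu, ← Pi.single_smul', smul_eq_mul, mul_one]
        rfl
      rw [← Module.End.mul_apply, ← map_mul, ← map_mul, ← e, map_mul, map_mul,
        Module.End.mul_apply] at hfix
      exact Siegel.ρ_inj ρ _ hfix
    · obtain ⟨a', ha0, ha1⟩ : ∃ a' : F, a' ≠ 0 ∧ a' ≠ 1 := by
        by_contra hcon
        push Not at hcon
        have hsub : (Finset.univ : Finset F) ⊆ {0, 1} := fun x _ => by
          by_cases hx : x = 0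
          · simp [hx]
          · simp [hcon x hx]
        have := (Finset.card_le_card hsub).trans Finset.card_le_two
        rw [Finset.card_univ] at this
        exact h2 (by omega)
      obtain ⟨τ, hτm, σ, hτ⟩ := exists_tor hR hr (qBin_surj hab) (⟨3, by omega⟩ : Fin r)
        (inv_ne_zero ha0)
      set j : Fin r := ⟨3, by omega⟩ with hj
      have hgh : (diagonal (Function.update (1 : Fin r → F) j a'⁻¹⁻¹))ᵀ *
          diagonal (Function.update (1 : Fin r → F) j a'⁻¹) = 1 := by
        rw [diagonal_transpose, diagonal_mul_diagonal, ← diagonal_one]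
        congr 1
        funext i
        by_cases hi : i = j
        · subst hi; simp [ha0]
        · simp [hi]
      refine Or.inl ⟨⟨τ, hτm⟩, a', ha1, key τ hτm _ _ _ hτ hgh _ ?_, fun t => Subtype.ext ?_⟩
      · rw [congA_smul, congA_altE, diag_update_single (by simp [hj]),
          diag_update_single (by simp [hj])]
      · refine hτ.lev (diag_update_rk1 (by simp [hj]) ha0 t _ _) ?_
        rw [inv_inv, show row (⟨0, by omega⟩ : Fin r) ⟨Pi.single j t, _⟩ = rk1 _ _ _ from rfl,
          show row (⟨0, by omega⟩ : Fin r) ⟨Pi.single j (a' * t), _⟩ = rk1 _ _ _ from rfl,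
          invT_rk1, invT_rk1]
        exact diag_update_rk1' (by simp [hj]) ha0 t _ _
  · intro hone
    exact S.exists_fixed_std ρ hr hψ hone hB1
  · exact ⟨⟨gc, hgcm⟩, fun t => ⟨-t, Subtype.ext (hgc t)⟩⟩
  · intro hC0 heq
    rw [Fintype.card_fin] at heq
    rw [heq, add_comm (finrank ℂ (S.D ρ ψ 0))]
    refine Nat.add_le_add_left ?_ _
    by_contra hlt
    push Not at hlt
    have hsum := sum_mul_pred (Fintype.card F) (r - 1) (by omega)
    rw [show r - 1 + 1 = r by omega] at hsum
    have hsmall : finrank ℂ (S.D ρ ψ 0) + 1 < Fintype.card F ^ r := by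
      have := Nat.le_mul_of_pos_right (∑ i ∈ Finset.range (r - 1), Fintype.card F ^ (i + 1))
        (show 0 < Fintype.card F - 1 by omega)
      omega
    have hqv := S.qv_trivial_on_zero ρ (show 2 ≤ r by omega) hψ hsmall
    obtain ⟨v1, hv1⟩ := hB1 1
    have hfixL : ∀ z : S.D ρ ψ 0, (∀ g, S.levRep ρ ψ g z = z) → z = 0 := fun z hz =>
      Subtype.ext (hfixG z.1 (fixed_of_levi_fixed hR hr (qBin_anisotropic hab) ⟨v1, hv1⟩ ρ hqv z.2
        fun g => congrArg Subtype.val (hz g)))
    have hpos : 0 < finrank ℂ (S.D ρ ψ 0) :=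
      Module.finrank_pos_iff.2 (Submodule.nontrivial_iff_ne_bot.2 hC0)
    by_cases hex : (r, Fintype.card F) ≠ (3, 2) ∧ (r, Fintype.card F) ≠ (3, 4) ∧
        (r, Fintype.card F) ≠ (4, 2) ∧ (r, Fintype.card F) ≠ (4, 3)
    · have := bound_of_no_fixed hr hex (S.levRep ρ ψ) hpos hfixL
      omega
    rw [heq] at hdvd
    by_cases h2 : Fintype.card F = 2
    · have h34 : r = 3 ∨ r = 4 := by
        simp only [ne_eq, Prod.mk.injEq, h2] at hex
        omega
      rw [h2] at hlt hdvd
      rcases bound_two (S.levRep ρ ψ) hr hpos hfixL with h | h | ⟨h3, h⟩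
      · rw [h2] at h; omega
      · rw [h2] at h
        rcases h34 with rfl | rfl <;> rw [h] at hdvd <;>
          norm_num [numDec, Finset.sum_range_succ, Finset.prod_range_succ] at hdvd
      · rw [h2] at h
        rcases h34 with rfl | rfl
        · rw [show finrank ℂ (S.D ρ ψ 0) = 5 by omega] at hdvd
          norm_num [numDec, Finset.sum_range_succ, Finset.prod_range_succ] at hdvd
        · omega
    · obtain ⟨a', ha0, ha1⟩ : ∃ a' : F, a' ≠ 0 ∧ a' ≠ 1 := by
        by_contra hcon
        push Not at hcon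
        have hsub : (Finset.univ : Finset F) ⊆ {0, 1} := fun x _ => by
          by_cases hx : x = 0
          · simp [hx]
          · simp [hcon x hx]
        have := (Finset.card_le_card hsub).trans Finset.card_le_two
        rw [Finset.card_univ] at this
        exact h2 (by omega)
      obtain ⟨τ, hτm, σ, hτ⟩ := exists_tor hR hr hB1 (⟨r - 1, by omega⟩ : Fin r) ha0
      have hgh : (diagonal (Function.update (1 : Fin r → F) ⟨r - 1, by omega⟩ a'⁻¹))ᵀ *
          diagonal (Function.update (1 : Fin r → F) ⟨r - 1, by omega⟩ a') = 1 := by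
        rw [diagonal_transpose, diagonal_mul_diagonal, ← diagonal_one]
        congr 1
        funext i
        by_cases hi : i = (⟨r - 1, by omega⟩ : Fin r)
        · subst hi; simp [ha0]
        · simp [hi]
      have hmap := key τ hτm _ _ _ hτ hgh 0 (Siegel.congA_zero _)
      rcases bound_torus (S.levRep ρ ψ) hr hpos hfixL ((ρ ⟨τ, hτm⟩).restrict hmap)
        (fun x y h => Subtype.ext (Siegel.ρ_inj ρ _ (congrArg Subtype.val h))) ha0 ha1
        (fun g g' hg z => Subtype.ext (by
          show ρ ⟨τ, hτm⟩ (ρ (S.L g) z.1) = ρ (S.L g') (ρ ⟨τ, hτm⟩ z.1)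
          rw [← Module.End.mul_apply, ← map_mul, ← Module.End.mul_apply, ← map_mul]
          congr 2
          refine Subtype.ext (hτ.lev hg (invT_diag (fun i => ?_) hg))
          by_cases hi : i = (⟨r - 1, by omega⟩ : Fin r)
          · subst hi; simp [ha0]
          · simp [hi])) with h | ⟨h3, h⟩
      · omega
      · subst h3
        have h4 : Fintype.card F = 4 := by
          simp only [ne_eq, Prod.mk.injEq] at hex
          omega
        rw [h4] at h hdvd
        rw [show finrank ℂ (S.D ρ ψ 0) = 19 by omega] at hdvd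
        norm_num [numDec, Finset.sum_range_succ, Finset.prod_range_succ] at hdvd
  · simp only [Fintype.card_fin]
    have hmul := numDec_mul (Fintype.card F) (by omega) r (by omega)
    have hB' := bound_le_two_mul (F := F) (n := r) (by omega)
    obtain ⟨s, hs⟩ : ∃ s, r = s + 2 := ⟨r - 2, by omega⟩
    rw [hs, show s + 2 - 1 = s + 1 by omega] at hmul hB' ⊢
    rw [show s + 2 - 2 = s by omega]
    have hK : 1 ≤ Fintype.card F ^ (s + 1) := Nat.one_le_pow _ _ (by omega)
    have hP : 1 ≤ Fintype.card F ^ s := Nat.one_le_pow _ _ (by omega)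
    generalize hBdef : ∑ i ∈ Finset.range (s + 1), Fintype.card F ^ (i + 1) = B at *
    generalize hNdef : numDec (Fintype.card F) (s + 2) = N at *
    generalize hKdef : Fintype.card F ^ (s + 1) - 1 = K at *
    have h3 : 3 ≤ Fintype.card F ^ 2 - 1 := by
      have : 4 ≤ Fintype.card F ^ 2 := Nat.pow_le_pow_left hq 2
      omega
    have h1 : 3 * N ≤ Fintype.card F ^ (s + 2) * K :=
      calc 3 * N ≤ N * (Fintype.card F ^ 2 - 1) := by
            rw [mul_comm 3]; exact Nat.mul_le_mul_left _ h3
        _ = (Fintype.card F ^ (s + 2) - 1) * K := hmul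
        _ ≤ _ := Nat.mul_le_mul_right _ (Nat.sub_le _ _)
    have h1' := Nat.mul_le_mul_left (Fintype.card F ^ 2) h1
    have hbig : 4 * K ≤ Fintype.card F ^ 2 * (Fintype.card F ^ (s + 2) * K) := by
      rw [← mul_assoc]
      exact Nat.mul_le_mul_right _ (le_trans (Nat.pow_le_pow_left hq 2)
        (Nat.le_mul_of_pos_right _ (Nat.pow_pos (by omega))))
    have e : K * Fintype.card F ^ s * (Fintype.card F ^ 2) ^ 2 =
        Fintype.card F ^ 2 * (Fintype.card F ^ (s + 2) * K) := by ring
    rw [e]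
    have e2 : Fintype.card F ^ 2 * (3 * N) = 3 * (Fintype.card F ^ 2 * N) := by ring
    omega
  · simp only [Fintype.card_fin]
    have hB' := bound_le_two_mul (F := F) (n := r) (by omega)
    have hN : (Fintype.card F ^ (r - 1) - 1) * 1 ≤ numDec (Fintype.card F) r := by
      refine le_trans ?_ (Finset.single_le_sum (f := fun i =>
        (Fintype.card F ^ (r - i - 1) - 1) * Fintype.card F ^ (r - i - 2))
        (fun _ _ => Nat.zero_le _) (Finset.mem_range.2 (show 0 < r by omega)))
      simp only [Nat.sub_zero]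
      exact Nat.mul_le_mul_left _ (Nat.one_le_pow _ _ (by omega))
    have h4 : 2 * (Fintype.card F ^ (r - 1) - 1) ≤
        Fintype.card F ^ 2 * numDec (Fintype.card F) r := by
      refine Nat.mul_le_mul ?_ (by omega)
      exact le_trans (show 2 ≤ Fintype.card F by omega) (Nat.le_self_pow two_ne_zero _)
    rw [mul_assoc]
    omega

theorem minus_bound_eq (q n : ℕ) (hq : 2 ≤ q) (hn : 4 ≤ n) :
    (q ^ n + 1) * (q ^ (n - 1) - q) / (q ^ 2 - 1) =
      q ^ 2 * numDec q (n - 1) + ∑ i ∈ Finset.range (n - 1 - 1), q ^ (i + 1) := by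
  obtain ⟨r, rfl⟩ : ∃ r, n = r + 1 := ⟨n - 1, by omega⟩
  rw [Nat.add_sub_cancel]
  have hq2 : 2 ≤ q ^ 2 := le_trans hq (Nat.le_self_pow two_ne_zero q)
  refine Nat.div_eq_of_eq_mul_left (by omega) ?_
  have h1 := numDec_mul q (by omega) r (by omega)
  have h2 := sum_mul_pred q (r - 1) (by omega)
  rw [show r - 1 + 1 = r by omega] at h2
  generalize (∑ i ∈ Finset.range (r - 1), q ^ (i + 1)) = B at *
  generalize numDec q r = N at *
  obtain ⟨s, rfl⟩ : ∃ s, r = s + 1 := ⟨r - 1, by omega⟩
  rw [Nat.add_sub_cancel] at h1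
  have hle : q ≤ q ^ (s + 1) := Nat.le_self_pow (by omega) q
  zify [Nat.one_le_pow (s + 1) q (by omega), Nat.one_le_pow s q (by omega),
    show 1 ≤ q ^ 2 by omega, show 1 ≤ q by omega, hle] at h1 h2 ⊢
  linear_combination -(q : ℤ) ^ 2 * h1 - ((q : ℤ) + 1) * h2

end Cfsg.Agent.Lib.OrthDeg48
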