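import Cfsg.Agent.Lib.OrthDeg48.Data
import Cfsg.Agent.Lib.OrthOmega.Structure

/-!
The Siegel parabolic of the form `x ⬝ y + R z` inside the group generated by Siegel
transformations.
-/

set_option autoImplicit false
set_option linter.unusedSectionVars false

namespace Cfsg.Agent.Lib.OrthDeg48

open Matrix Module QuadraticMap Cfsg.Agent.Lib.Forms Cfsg.Agent.Lib.OrthOmega Cfsg.Agent.Lib.SLDeg48
open scoped commutatorElement

variable {F : Type*} [Field F] {r : ℕ} {κ : Type*} [Fintype κ]

/-- The model space. -/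
abbrev V3 (F : Type*) [Field F] (r : ℕ) (κ : Type*) :=
  (Fin r → F) × (Fin r → F) × (κ → F)

/-- The model form `x ⬝ y + R z`. -/
def qS (r : ℕ) (R : QuadraticForm F (κ → F)) : QuadraticForm F (V3 F r κ) :=
  LinearMap.BilinMap.toQuadraticMap
      (LinearMap.mk₂ F (fun X Y : V3 F r κ => X.1 ⬝ᵥ Y.2.1)
        (fun a b c => add_dotProduct _ _ _) (fun c a b => smul_dotProduct _ _ _)
        (fun a b c => dotProduct_add _ _ _) (fun c a b => dotProduct_smul _ _ _)) +
    R.comp ((LinearMap.snd F (Fin r → F) (κ → F)).comp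
      (LinearMap.snd F (Fin r → F) ((Fin r → F) × (κ → F))))

variable {R : QuadraticForm F (κ → F)}

theorem qS_apply (X : V3 F r κ) : qS r R X = X.1 ⬝ᵥ X.2.1 + R X.2.2 := rfl

theorem qS_polar (X Y : V3 F r κ) :
    polar (qS r R) X Y = X.1 ⬝ᵥ Y.2.1 + Y.1 ⬝ᵥ X.2.1 + polar R X.2.2 Y.2.2 := by
  simp only [polar, qS_apply, Prod.fst_add, Prod.snd_add, add_dotProduct, dotProduct_add]
  ring

theorem nondeg_qS (hR : Nondeg R) : Nondeg (qS r R) := by
  intro X hX
  obtain ⟨x, y, z⟩ := X
  have hx : x = 0 := funext fun i => by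
    have := hX (0, Pi.single i 1, 0)
    simpa [qS_polar, polar_zero_right] using this
  have hy : y = 0 := funext fun i => by
    have := hX (Pi.single i 1, 0, 0)
    simpa [qS_polar, polar_zero_right] using this
  have hz : z = 0 := hR z fun w => by
    have := hX (0, 0, w)
    simpa [qS_polar] using this
  rw [hx, hy, hz]; rfl

theorem finrank_V3 : finrank F (V3 F r κ) = 2 * r + Fintype.card κ := by
  simp [V3, Module.finrank_prod]
  ring

variable (R)

/-- The pair of a root element. -/
theorem qv_pair (u : Fin r → F) (n : κ → F) :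
    SPair (qS r R) (u, 0, 0) (0, 0, n) := ⟨by simp [qS_apply], by simp [qS_polar, polar_zero_left]⟩

/-- The non-central root element of the unipotent radical. -/
def qvO (u : Fin r → F) (n : κ → F) : orth (qS r R) := rho (qv_pair R u n)

theorem qvO_apply (u : Fin r → F) (n : κ → F) (X : V3 F r κ) :
    (qvO R u n).1 X = (X.1 - (polar R n X.2.2 + R n * (u ⬝ᵥ X.2.1)) • u, X.2.1,
      X.2.2 + (u ⬝ᵥ X.2.1) • n) := by
  rw [qvO, rho_apply]
  simp [qS_polar, qS_apply, polar_zero_left]
  refine Prod.ext ?_ (Prod.ext ?_ ?_)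
  all_goals simp

theorem alt_dot (A : altM F r) (y : Fin r → F) : (A.1 *ᵥ y) ⬝ᵥ y = 0 := by
  have h : pairA (altE y y) A = 0 := by rw [altE_self]; simp [pairA]
  rw [pairA_altE_left] at h
  rwa [dotProduct_comm]

/-- The central element. -/
def zhE (A : altM F r) : V3 F r κ ≃ₗ[F] V3 F r κ where
  toFun X := (X.1 + A.1 *ᵥ X.2.1, X.2.1, X.2.2)
  map_add' X Y := by
    refine Prod.ext ?_ (Prod.ext rfl rfl)
    simp [mulVec_add]; abel
  map_smul' c X := by
    refine Prod.ext ?_ (Prod.ext rfl rfl)
    simp [mulVec_smul, smul_add]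
  invFun X := (X.1 - A.1 *ᵥ X.2.1, X.2.1, X.2.2)
  left_inv X := Prod.ext (by simp) (Prod.ext rfl rfl)
  right_inv X := Prod.ext (by simp) (Prod.ext rfl rfl)

/-- The central element as an isometry. -/
def zhO (A : altM F r) : orth (qS r R) := ⟨zhE A, fun X => by
  show qS r R (X.1 + A.1 *ᵥ X.2.1, X.2.1, X.2.2) = _
  rw [qS_apply, qS_apply, add_dotProduct, alt_dot, add_zero]⟩

theorem zhO_apply (A : altM F r) (X : V3 F r κ) :
    (zhO R A).1 X = (X.1 + A.1 *ᵥ X.2.1, X.2.1, X.2.2) := rfl

/-- The Levi element of a pair of inverse matrices. -/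
def levE (g h : Matrix (Fin r) (Fin r) F) (hgh : hᵀ * g = 1) : orth (qS r R) :=
  ⟨{ toFun := fun X => (g *ᵥ X.1, h *ᵥ X.2.1, X.2.2)
     map_add' := fun X Y => by
       refine Prod.ext ?_ (Prod.ext ?_ rfl) <;> simp [mulVec_add]
     map_smul' := fun c X => by
       refine Prod.ext ?_ (Prod.ext ?_ rfl) <;> simp [mulVec_smul]
     invFun := fun X => (hᵀ *ᵥ X.1, gᵀ *ᵥ X.2.1, X.2.2)
     left_inv := fun X => by
       refine Prod.ext ?_ (Prod.ext ?_ rfl)
       · show hᵀ *ᵥ (g *ᵥ X.1) = X.1
         rw [mulVec_mulVec, hgh, one_mulVec]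
       · show gᵀ *ᵥ (h *ᵥ X.2.1) = X.2.1
         rw [mulVec_mulVec, show gᵀ * h = 1 by
           have := congrArg Matrix.transpose hgh
           simpa [transpose_mul] using this, one_mulVec]
     right_inv := fun X => by
       have h1 : g * hᵀ = 1 := mul_eq_one_comm.1 hgh
       refine Prod.ext ?_ (Prod.ext ?_ rfl)
       · show g *ᵥ (hᵀ *ᵥ X.1) = X.1
         rw [mulVec_mulVec, h1, one_mulVec]
       · show h *ᵥ (gᵀ *ᵥ X.2.1) = X.2.1
         rw [mulVec_mulVec, show h * gᵀ = 1 by
           have := congrArg Matrix.transpose h1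
           simpa [transpose_mul] using this, one_mulVec] },
  fun X => by
    show qS r R (g *ᵥ X.1, h *ᵥ X.2.1, X.2.2) = _
    rw [qS_apply, qS_apply]
    congr 1
    rw [dotProduct_mulVec, vecMul_mulVec, show gᵀ * h = 1 by
      have := congrArg Matrix.transpose hgh
      simpa [transpose_mul] using this, vecMul_one]⟩

theorem levE_apply (g h : Matrix (Fin r) (Fin r) F) (hgh : hᵀ * g = 1) (X : V3 F r κ) :
    (levE R g h hgh).1 X = (g *ᵥ X.1, h *ᵥ X.2.1, X.2.2) := rfl

theorem invT_cond' (g : SL' r F) : (invT r F g).1ᵀ * g.1 = 1 := by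
  show ((g⁻¹).1ᵀ)ᵀ * g.1 = 1
  rw [transpose_transpose]
  exact congrArg Subtype.val (inv_mul_cancel g)

/-- The Levi homomorphism. -/
def levHom : SL' r F →* orth (qS r R) where
  toFun g := levE R g.1 (invT r F g).1 (invT_cond' g)
  map_one' := orth_ext fun X => by
    rw [levE_apply, map_one]
    show ((1 : Matrix (Fin r) (Fin r) F) *ᵥ X.1, (1 : Matrix (Fin r) (Fin r) F) *ᵥ X.2.1, X.2.2) = X
    rw [one_mulVec, one_mulVec]
  map_mul' g g' := orth_ext fun X => by
    rw [orth_mul_apply, levE_apply, levE_apply, levE_apply, map_mul]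
    show ((g.1 * g'.1) *ᵥ X.1, ((invT r F g).1 * (invT r F g').1) *ᵥ X.2.1, X.2.2) = _
    rw [mulVec_mulVec, mulVec_mulVec]

theorem levHom_apply (g : SL' r F) (X : V3 F r κ) :
    (levHom R g).1 X = (g.1 *ᵥ X.1, (invT r F g).1 *ᵥ X.2.1, X.2.2) := rfl

theorem zhO_add (A B : altM F r) : zhO R (A + B) = zhO R A * zhO R B :=
  orth_ext fun X => by
    rw [orth_mul_apply, zhO_apply, zhO_apply, zhO_apply, Submodule.coe_add, add_mulVec]
    refine Prod.ext ?_ rfl
    show X.1 + (A.1 *ᵥ X.2.1 + B.1 *ᵥ X.2.1) = X.1 + B.1 *ᵥ X.2.1 + A.1 *ᵥ X.2.1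
    abel

theorem alt2_mulVec (u v y : Fin r → F) :
    alt2 u v *ᵥ y = (v ⬝ᵥ y) • u - (u ⬝ᵥ y) • v := by
  rw [alt2, sub_mulVec, vecMulVec_mulVec, vecMulVec_mulVec, op_smul_eq_smul, op_smul_eq_smul]

theorem qvO_add (u : Fin r → F) (n n' : κ → F) :
    qvO R u (n + n') = qvO R u n * qvO R u n' := by
  rw [qvO, qvO, qvO, rho_mul]
  exact rho_congr _ _ rfl (Prod.ext (by simp) (Prod.ext (by simp) rfl))

theorem qvO_smul (c : F) (u : Fin r → F) (n : κ → F) :
    qvO R (c • u) n = qvO R u (c • n) :=
  orth_ext fun X => by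
    rw [qvO_apply, qvO_apply, smul_dotProduct, polar_smul_left, Q_smul]
    refine Prod.ext ?_ (Prod.ext rfl ?_)
    · simp only [smul_eq_mul, smul_smul]; congr 2; ring
    · simp only [smul_eq_mul, smul_smul]; congr 2; ring

theorem qvO_add_left (u u' : Fin r → F) (n : κ → F) :
    qvO R (u + u') n = qvO R u n * qvO R u' n * zhO R (R n • altE u u') :=
  orth_ext fun X => by
    simp only [orth_mul_apply, qvO_apply, zhO_apply, Submodule.coe_smul, altE_coe, smul_mulVec,
      alt2_mulVec, add_dotProduct, polar_add_right, polar_smul_right, polar_self']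
    refine Prod.ext ?_ (Prod.ext rfl ?_)
    · ext i
      simp only [Pi.add_apply, Pi.sub_apply, Pi.smul_apply, smul_eq_mul]
      ring
    · ext i
      simp only [Pi.add_apply, Pi.smul_apply, smul_eq_mul]
      ring

theorem qvO_comm (u u' : Fin r → F) (n n' : κ → F) :
    qvO R u n * qvO R u' n' =
      qvO R u' n' * qvO R u n * zhO R (polar R n n' • altE u' u) :=
  orth_ext fun X => by
    simp only [orth_mul_apply, qvO_apply, zhO_apply, Submodule.coe_smul, altE_coe, smul_mulVec,
      alt2_mulVec, polar_add_right, polar_smul_right, polar_comm R n' n]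
    refine Prod.ext ?_ (Prod.ext rfl ?_)
    · ext i
      simp only [Pi.add_apply, Pi.sub_apply, Pi.smul_apply, smul_eq_mul]
      ring
    · ext i
      simp only [Pi.add_apply, Pi.smul_apply, smul_eq_mul]
      ring

theorem zhO_qvO (A : altM F r) (u : Fin r → F) (n : κ → F) :
    Commute (zhO R A) (qvO R u n) :=
  orth_ext fun X => by
    simp only [orth_mul_apply, qvO_apply, zhO_apply]
    refine Prod.ext ?_ rfl
    show _ - _ + _ = _ + _ - _
    abel

theorem levE_zhO (g h : Matrix (Fin r) (Fin r) F) (hgh : hᵀ * g = 1) (A : altM F r) :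
    levE R g h hgh * zhO R A = zhO R (congA g A) * levE R g h hgh :=
  orth_ext fun X => by
    simp only [orth_mul_apply, levE_apply, zhO_apply, congA_coe]
    refine Prod.ext ?_ rfl
    show g *ᵥ (X.1 + A.1 *ᵥ X.2.1) = g *ᵥ X.1 + (g * A.1 * gᵀ) *ᵥ (h *ᵥ X.2.1)
    rw [mulVec_add, mulVec_mulVec, mulVec_mulVec, Matrix.mul_assoc (g * A.1),
      show gᵀ * h = 1 by
        have := congrArg Matrix.transpose hgh
        simpa [transpose_mul] using this, mul_one]

theorem levE_qvO (g h : Matrix (Fin r) (Fin r) F) (hgh : hᵀ * g = 1) (u : Fin r → F) (n : κ → F) :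
    levE R g h hgh * qvO R u n = qvO R (g *ᵥ u) n * levE R g h hgh := by
  rw [qvO, qvO, ← mul_inv_eq_iff_eq_mul, rho_conj]
  refine rho_congr _ _ ?_ ?_
  · rw [levE_apply]; simp
  · rw [levE_apply]; simp

/-- The subgroup generated by the Siegel transformations contains the root elements. -/
theorem qvO_mem (u : Fin r → F) (n : κ → F) : qvO R u n ∈ EG (qS r R) := rho_mem _

theorem zhO_altE_mem (u v : Fin r → F) : zhO R (altE v u) ∈ EG (qS r R) := by
  have h : SPair (qS r R) ((u, 0, 0) : V3 F r κ) (v, 0, 0) :=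
    ⟨by simp [qS_apply], by simp [qS_polar]⟩
  have e : zhO R (altE v u) = rho h := orth_ext fun X => by
    rw [rho_apply, zhO_apply, altE_coe, alt2_mulVec]
    simp [qS_polar, qS_apply, polar_zero_left]
    refine Prod.ext ?_ (Prod.ext ?_ ?_)
    all_goals simp
    abel
  rw [e]; exact rho_mem h

theorem zhO_mem (A : altM F r) : zhO R A ∈ EG (qS r R) := by
  classical
  let N : AddSubgroup (altM F r) :=
    { carrier := {B | zhO R B ∈ EG (qS r R)}
      zero_mem' := by
        have : zhO R (0 : altM F r) = 1 := orth_ext fun X => by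
          rw [zhO_apply]; simp
        show zhO R 0 ∈ EG (qS r R)
        rw [this]; exact one_mem _
      add_mem' := fun {a b} ha hb => by
        show zhO R (a + b) ∈ EG (qS r R)
        rw [zhO_add]; exact mul_mem ha hb
      neg_mem' := fun {a} ha => by
        show zhO R (-a) ∈ EG (qS r R)
        have : zhO R (-a) = (zhO R a)⁻¹ := eq_inv_of_mul_eq_one_left (by
          rw [← zhO_add, neg_add_cancel]
          exact orth_ext fun X => by rw [zhO_apply]; simp)
        rw [this]; exact inv_mem ha }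
  have hA : A = ∑ a, ∑ b, (if a < b then A.1 a b else 0) •
      altE (Pi.single a (1 : F)) (Pi.single b 1) := by
    apply Subtype.ext
    ext x y
    simp only [Submodule.coe_sum, Submodule.coe_smul, Matrix.sum_apply, Matrix.smul_apply,
      altE_coe, alt2_apply, Pi.single_apply, smul_eq_mul]
    simp only [mul_sub, Finset.sum_sub_distrib, ite_mul, mul_ite, one_mul, mul_one, zero_mul,
      mul_zero, Finset.sum_ite_eq, Finset.sum_ite_irrel, Finset.sum_const_zero, Finset.mem_univ,
      if_true]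
    rcases lt_trichotomy x y with h | h | h
    · simp [h, h.not_gt]
    · subst h; simp [A.2.1]
    · simp [h, h.not_gt, A.2.2 y x]
  have hmem : ∀ (c : F) (u v : Fin r → F), c • altE u v ∈ N := fun c u v => by
    rw [← altE_smul_left]
    exact zhO_altE_mem R _ _
  have : A ∈ N := by
    rw [hA]
    exact sum_mem fun a _ => sum_mem fun b _ => hmem _ _ _
  exact this

theorem levHom_mem (hr : 2 ≤ r) (g : SL' r F) : levHom R g ∈ EG (qS r R) := by
  have : Nontrivial (Fin r) := Fin.nontrivial_iff_two_le.2 hr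
  induction g using AutPSL.transvection_induction with
  | htr i j hij c =>
    have hd : (Pi.single j c : Fin r → F) ⬝ᵥ Pi.single i 1 = 0 := by simp [hij, hij.symm]
    have e : SpecialLinearGroup.transvection hij c = rk1 (Pi.single i 1) (Pi.single j c) hd := by
      apply Subtype.ext
      ext a b
      rw [rk1_apply, SpecialLinearGroup.transvection_coe, Matrix.add_apply, single_apply]
      simp only [Pi.single_apply]
      grind
    have h : SPair (qS r R) ((Pi.single i 1, 0, 0) : V3 F r κ) (0, -Pi.single j c, 0) :=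
      ⟨by simp [qS_apply], by simp [qS_polar, hij, hij.symm]⟩
    have e' : levHom R (SpecialLinearGroup.transvection hij c) = rho h := orth_ext fun X => by
      rw [rho_apply, levHom_apply, e, invT_rk1, rk1_coe, rk1_coe, add_mulVec, add_mulVec,
        one_mulVec, one_mulVec, vecMulVec_mulVec, vecMulVec_mulVec, op_smul_eq_smul,
        op_smul_eq_smul]
      simp [qS_polar, qS_apply, polar_zero_left, dotProduct_comm X.1]
      refine Prod.ext ?_ (Prod.ext ?_ ?_)
      all_goals simp
    rw [e']; exact rho_mem h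
  | hmul A B hA hB => rw [map_mul]; exact mul_mem hA hB

/-- The Siegel parabolic inside the group generated by the Siegel transformations. -/
noncomputable def modelSiegel (hR : Nondeg R) (hr : 2 ≤ r) :
    Siegel F r κ (EG (qS r R)) where
  L := (levHom R).codRestrict _ (levHom_mem R hr)
  Zh A := ⟨zhO R A, zhO_mem R A⟩
  Qv u n := ⟨qvO R u n, qvO_mem R u n⟩
  B0 := polarBilin R
  Q0 := R
  Zh_add A B := Subtype.ext (zhO_add R A B)
  Qv_add u n n' := Subtype.ext (qvO_add R u n n')
  Qv_smul c u n := Subtype.ext (qvO_smul R c u n)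
  Qv_add_left u u' n := Subtype.ext (qvO_add_left R u u' n)
  Qv_comm u u' n n' := Subtype.ext (qvO_comm R u u' n n')
  Zh_Qv A u n := Subtype.ext (zhO_qvO R A u n)
  L_Zh g A := Subtype.ext (levE_zhO R _ _ (invT_cond' g) A)
  L_Qv g u n := Subtype.ext (levE_qvO R _ _ (invT_cond' g) u n)
  B0_nd n hn := by
    by_contra hcon
    push Not at hcon
    exact hn (hR n fun m => by rw [polar_comm]; exact hcon m)

end Cfsg.Agent.Lib.OrthDeg48
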