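import Cfsg.Agent.Lib.OrthDeg48.Levi
import Cfsg.Agent.Lib.OrthDeg48.Count

/-!
The Levi part is non-trivial on the fixed space of the centre.
-/

set_option autoImplicit false
set_option linter.unusedSectionVars false

namespace Cfsg.Agent.Lib.OrthDeg48

open Matrix Module Cfsg.Agent.Lib.SLDeg48 Cfsg.Agent.Lib.UniDeg48

variable {F : Type*} [Field F] {r : ℕ}
variable {κ : Type*} [Fintype κ] {G : Type*} [Group G] (S : Siegel F r κ G)
variable [Fintype F] {M : Type*} [AddCommGroup M] [Module ℂ M] [FiniteDimensional ℂ M]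
variable (ρ : Representation ℂ G M) {ψ : AddChar F ℂ}

namespace Siegel

/-- The Levi root subgroup at the first two coordinates. -/
def xlHom (hr : 3 ≤ r) : Multiplicative F →* G :=
  S.L.comp (MonoidHom.mk'
    (fun t => row ⟨0, by omega⟩ ⟨Pi.single ⟨1, by omega⟩ t.toAdd,
      single_mem_tail (show 0 < 1 by omega) t.toAdd⟩)
    (fun s t => by
      rw [← row_add]
      exact congrArg _ (Subtype.ext (Pi.single_add (f := fun _ : Fin r => F) _ _ _))))

/-- The central root subgroup at the first two coordinates. -/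
def xzHom (hr : 3 ≤ r) : Multiplicative F →* G :=
  S.zhHom.comp (MonoidHom.mk'
    (fun t => Multiplicative.ofAdd
      (t.toAdd • altE (bv F 0 (show 0 < r by omega)) (bv F 1 (show 1 < r by omega))))
    (fun s t => congrArg Multiplicative.ofAdd (add_smul s.toAdd t.toAdd _)))

theorem xlHom_apply (hr : 3 ≤ r) (t : F) :
    S.xlHom hr (Multiplicative.ofAdd t) = S.L (row ⟨0, by omega⟩
      ⟨Pi.single ⟨1, by omega⟩ t, single_mem_tail (show 0 < 1 by omega) t⟩) := rfl

theorem xzHom_apply (hr : 3 ≤ r) (t : F) :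
    S.xzHom hr (Multiplicative.ofAdd t) =
      S.Zh (t • altE (bv F 0 (show 0 < r by omega)) (bv F 1 (show 1 < r by omega))) := rfl

theorem xz_inf_eq (hr : 3 ≤ r) (hψ : ψ.IsPrimitive) [DecidableEq F] (β : altM F r) :
    (eigSub ρ (S.xzHom hr) 1 ⊓ S.D ρ ψ β : Submodule ℂ M) =
      if β.1 ⟨0, by omega⟩ ⟨1, by omega⟩ = 0 then S.D ρ ψ β else ⊥ := by
  split_ifs with h
  · refine inf_eq_right.2 fun z hz => ?_
    rw [mem_eigSub]
    intro t
    rw [xzHom_apply, (S.mem_D ρ ψ).1 hz, pairA_smul_right, pairA_single, h, mul_zero,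
      AddChar.map_zero_eq_one]
    rfl
  · rw [Submodule.eq_bot_iff]
    rintro z ⟨h1, h2⟩
    by_contra hz
    have h1' := (mem_eigSub ρ (S.xzHom hr)).1 h1
    have hall : ∀ t, ψ (t * β.1 ⟨0, by omega⟩ ⟨1, by omega⟩) = 1 := fun t => by
      have := h1' t
      rw [xzHom_apply, (S.mem_D ρ ψ).1 h2, pairA_smul_right, pairA_single,
        AddChar.one_apply] at this
      exact smul_left_injective ℂ hz this
    refine hψ h ?_
    ext t
    rw [AddChar.mulShift_apply, AddChar.one_apply, mul_comm]
    exact hall t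

theorem finrank_xz (hr : 3 ≤ r) (hψ : ψ.IsPrimitive) [DecidableEq F] :
    finrank ℂ (eigSub ρ (S.xzHom hr) 1) =
      ∑ β : altM F r, if β.1 ⟨0, by omega⟩ ⟨1, by omega⟩ = 0 then finrank ℂ (S.D ρ ψ β) else 0 := by
  rw [← sum_inf_eig ρ S.zhHom (eigSub ρ (S.xzHom hr) 1) (fun a z hz => ?_),
    ← (chA_bijective hψ).sum_comp (fun χ => finrank ℂ (eigSub ρ (S.xzHom hr) 1 ⊓
      eigSub ρ S.zhHom χ : Submodule ℂ M))]
  · refine Finset.sum_congr rfl fun β _ => ?_
    show finrank ℂ (eigSub ρ (S.xzHom hr) 1 ⊓ S.D ρ ψ β : Submodule ℂ M) = _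
    rw [S.xz_inf_eq ρ hr hψ β]
    by_cases h : β.1 ⟨0, by omega⟩ ⟨1, by omega⟩ = 0
    · rw [if_pos h, if_pos h]
    · rw [if_neg h, if_neg h]
      exact finrank_bot ℂ M
  · refine map_eigSub ρ _ _ (fun t => ?_) hz
    rw [xzHom_apply]
    show Commute (S.Zh a.toAdd) (S.Zh _)
    rw [commute_iff_eq, ← S.Zh_add, ← S.Zh_add, add_comm]

theorem inf_xl_eq (hr : 3 ≤ r) {β : altM F r} (h : ∀ z ∈ S.D ρ ψ β, ∀ t : F,
    ρ (S.L (row ⟨0, by omega⟩
      ⟨Pi.single ⟨1, by omega⟩ t, single_mem_tail (show 0 < 1 by omega) t⟩)) z = z) :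
    (S.D ρ ψ β ⊓ eigSub ρ (S.xlHom hr) 1 : Submodule ℂ M) = S.D ρ ψ β :=
  inf_eq_left.2 fun z hz => (mem_eigSub ρ (S.xlHom hr)).2 fun t => by
    rw [xlHom_apply, h z hz t, AddChar.one_apply, one_smul]

/-- The translation of `β` by the Levi root element. -/
def shiftA (hr : 3 ≤ r) (t : F) (β : altM F r) : altM F r :=
  β + altE (-(Pi.single ⟨1, by omega⟩ t : Fin r → F)) (β.1 ⟨0, by omega⟩)

/-- The first row is a multiple of the second basis vector. -/
abbrev Row1 (hr : 3 ≤ r) (β : altM F r) : Prop :=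
  ∀ j, j ≠ (⟨1, by omega⟩ : Fin r) → β.1 ⟨0, by omega⟩ j = 0

variable (hr : 3 ≤ r) (hψ : ψ.IsPrimitive)

open Classical in
include hψ in
/-- The fixed space of the Levi root subgroup. -/
theorem finrank_xl_mul :
    Fintype.card F * finrank ℂ (eigSub ρ (S.xlHom hr) 1) =
      (∑ β ∈ Finset.univ.filter (Row1 (F := F) hr),
        Fintype.card F * finrank ℂ (S.D ρ ψ β ⊓ eigSub ρ (S.xlHom hr) 1 : Submodule ℂ M)) +
      ∑ β ∈ Finset.univ.filter (fun β : altM F r => ¬ Row1 hr β), finrank ℂ (S.D ρ ψ β) := by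
  set k : Fin r := ⟨0, by omega⟩ with hk
  set i : Fin r := ⟨1, by omega⟩ with hi
  let e : altM F r ≃ AddChar (altM F r) ℂ := Equiv.ofBijective _ (chA_bijective hψ)
  have he : ∀ β, e β = chA ψ β := fun _ => rfl
  let P : altM F r → Prop := fun β => ∀ j, j ≠ i → β.1 k j = 0
  have key := card_mul_finrank_fixed ρ S.zhHom (S.xlHom hr)
    (fun t χ => e (shiftA hr t (e.symm χ)))
    (fun t χ z hz => by
      have hz' : z ∈ S.D ρ ψ (e.symm χ) := by
        show z ∈ eigSub ρ S.zhHom (e (e.symm χ))
        rwa [Equiv.apply_symm_apply]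
      exact S.map_D_row ρ k
        (⟨Pi.single i t, single_mem_tail (show 0 < 1 by omega) t⟩ : tail F r k.val) hz')
    (fun χ => P (e.symm χ))
    (fun t χ h => by
      have hrow : (e.symm χ).1 k = ((e.symm χ).1 k i) • Pi.single i 1 := by
        funext j
        by_cases hj : j = i
        · rw [hj]; simp
        · simp [h j hj, hj]
      show e (_ + altE (-(Pi.single i t : Fin r → F)) ((e.symm χ).1 k)) = χ
      rw [hrow, show (-(Pi.single i t : Fin r → F)) = (-t) • Pi.single i 1 by
        rw [← Pi.single_neg, ← Pi.single_smul', smul_eq_mul, mul_one], altE_smul_left,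
        altE_smul_right, altE_self, smul_zero, smul_zero, add_zero, Equiv.apply_symm_apply])
    (fun t χ ht h heq => by
      simp only [P, not_forall] at h
      obtain ⟨j, hji, hj⟩ := h
      have h1 := congrArg e.symm heq
      rw [Equiv.symm_apply_apply] at h1
      have h2 := congrArg (fun A : altM F r => A.1 i j) h1
      simp [shiftA, altE_coe, alt2_apply, ← hk, ← hi, hji] at h2
      rcases h2 with h2 | h2
      · exact ht h2
      · exact hj h2)
  suffices key' : Fintype.card F * finrank ℂ (eigSub ρ (S.xlHom hr) 1) =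
      (∑ β ∈ Finset.univ.filter P, Fintype.card F * finrank ℂ (S.D ρ ψ β ⊓ eigSub ρ (S.xlHom hr) 1 : Submodule ℂ M)) +
        ∑ β ∈ Finset.univ.filter (fun β => ¬ P β), finrank ℂ (S.D ρ ψ β) from key'
  rw [key]
  congr 1
  · refine Finset.sum_nbij' e.symm e ?_ ?_ ?_ ?_ ?_
    · intro χ hχ; simpa using hχ
    · intro β hβ; simpa using hβ
    · intro χ _; simp
    · intro β _; simp
    · intro χ _
      show _ = Fintype.card F *
        finrank ℂ (eigSub ρ S.zhHom (e (e.symm χ)) ⊓ eigSub ρ (S.xlHom hr) 1 : Submodule ℂ M)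
      rw [Equiv.apply_symm_apply]
  · refine Finset.sum_nbij' e.symm e ?_ ?_ ?_ ?_ ?_
    · intro χ hχ; simpa using hχ
    · intro β hβ; simpa using hβ
    · intro χ _; simp
    · intro β _; simp
    · intro χ _
      show _ = finrank ℂ (eigSub ρ S.zhHom (e (e.symm χ)))
      rw [Equiv.apply_symm_apply]

open Classical in
include hψ in
/-- The fixed space of the central root subgroup. -/
theorem finrank_xz_split :
    finrank ℂ (eigSub ρ (S.xzHom hr) 1) =
      (∑ β ∈ Finset.univ.filter (fun β : altM F r => β.1 (⟨0, by omega⟩ : Fin r) = 0),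
        finrank ℂ (S.D ρ ψ β)) +
      ∑ β ∈ Finset.univ.filter (fun β : altM F r => β.1 (⟨0, by omega⟩ : Fin r) ⟨1, by omega⟩ = 0 ∧
        β.1 (⟨0, by omega⟩ : Fin r) ≠ 0), finrank ℂ (S.D ρ ψ β) := by
  set k : Fin r := ⟨0, by omega⟩ with hk
  set i : Fin r := ⟨1, by omega⟩ with hi
  rw [S.finrank_xz ρ hr hψ, ← hk, ← hi, ← Finset.sum_filter,
    ← Finset.sum_filter_add_sum_filter_not _ (fun β : altM F r => β.1 k = 0),
    Finset.filter_filter, Finset.filter_filter]
  congr 1
  refine Finset.sum_congr ?_ (fun _ _ => rfl)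
  ext β
  simp only [Finset.mem_filter, Finset.mem_univ, true_and]
  exact ⟨fun h => h.2, fun h => ⟨by rw [h]; rfl, h⟩⟩

open Classical in
include hψ in
/-- The moved eigenspaces. -/
theorem sum_moved_eq :
    Fintype.card F * (∑ β ∈ Finset.univ.filter (fun β : altM F r =>
        β.1 (⟨0, by omega⟩ : Fin r) ⟨1, by omega⟩ = 0 ∧ β.1 (⟨0, by omega⟩ : Fin r) ≠ 0),
        finrank ℂ (S.D ρ ψ β)) =
      ∑ β ∈ Finset.univ.filter (fun β : altM F r => ¬ Row1 hr β), finrank ℂ (S.D ρ ψ β) := by
  set k : Fin r := ⟨0, by omega⟩ with hk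
  set i : Fin r := ⟨1, by omega⟩ with hi
  set d : altM F r → ℕ := fun β => finrank ℂ (S.D ρ ψ β) with hd
  -- the moved part
  set A := Finset.univ.filter (fun β : altM F r => β.1 k i = 0 ∧ β.1 k ≠ 0) with hA
  have hx : ∀ β : altM F r, β.1 k i = 0 ∧ β.1 k ≠ 0 →
      k.val < (piv k (β.1 k)).val ∧ piv k (β.1 k) ≠ i := by
    rintro β ⟨h1, h2⟩
    have hp := piv_ne k h2
    refine ⟨?_, fun h => hp (h ▸ h1)⟩
    by_contra hcon'
    exact hp (by
      rw [show piv k (β.1 k) = k from Fin.ext (by simp [hk] at hcon' ⊢; omega)]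
      exact β.2.1 k)
  let h : altM F r → F → SL' r F := fun β s =>
    if hh : β.1 k i = 0 ∧ β.1 k ≠ 0 then
      SpecialLinearGroup.transvection (Ne.symm (hx β hh).2) (s / β.1 k (piv k (β.1 k)))
    else 1
  have hrow : ∀ β s, β.1 k i = 0 ∧ β.1 k ≠ 0 →
      (congA (h β s).1 β).1 k = β.1 k + Pi.single i s := by
    intro β s hh
    have hb : Blk 1 (h β s) := by
      simp only [h, dif_pos hh]
      exact blk_transvection _ (show 1 ≤ 1 from le_rfl) (hx β hh).1 _
    rw [congA_row_blk hb β (show k.val < 1 from Nat.one_pos)]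
    simp only [h, dif_pos hh]
    rw [SpecialLinearGroup.transvection_coe, add_mulVec, one_mulVec, single_mulVec]
    congr 1
    funext b
    by_cases hb' : b = i
    · subst hb'; simp [piv_ne k hh.2]
    · simp [hb']
  have hmem : ∀ β s, β.1 k i = 0 ∧ β.1 k ≠ 0 → ¬ Row1 hr (congA (h β s).1 β) := by
    intro β s hh hP
    have := hP _ (hx β hh).2
    rw [hrow β s hh, Pi.add_apply, Pi.single_eq_of_ne (hx β hh).2, add_zero] at this
    exact piv_ne k hh.2 this
  calc Fintype.card F * ∑ β ∈ A, d β = ∑ p ∈ A ×ˢ (Finset.univ : Finset F), d p.1 := by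
        rw [Finset.sum_product, Finset.mul_sum]
        simp
    _ = ∑ p ∈ A ×ˢ (Finset.univ : Finset F), d (congA (h p.1 p.2).1 p.1) :=
        Finset.sum_congr rfl fun p _ => (S.finrank_D_congA ρ ψ _ _).symm
    _ = ∑ γ ∈ (A ×ˢ (Finset.univ : Finset F)).image
          (fun p => congA (h p.1 p.2).1 p.1), d γ := by
        rw [Finset.sum_image]
        rintro ⟨β, s⟩ hp ⟨β', s'⟩ hp' heq
        simp only [hA, Finset.coe_product, Set.mem_prod, Finset.coe_filter, Finset.coe_univ,
          Finset.mem_univ, Set.mem_setOf_eq, true_and, Set.mem_univ, and_true] at hp hp'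
        have h1 := congrArg (fun B : altM F r => B.1 k) heq
        simp only [hrow β s hp, hrow β' s' hp'] at h1
        have hs : s = s' := by
          have := congrFun h1 i
          simpa [hp.1, hp'.1] using this
        subst hs
        have h2 : β.1 k = β'.1 k := add_right_cancel h1
        have h3 : h β s = h β' s := by
          simp only [h, dif_pos hp, dif_pos hp']
          congr 1 <;> rw [h2]
        change congA (h β s).1 β = congA (h β' s).1 β' at heq
        rw [h3] at heq
        exact Prod.ext (congA_injective _ heq) rfl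
    _ = _ := by
        refine Finset.sum_congr (Finset.Subset.antisymm ?_ ?_) (fun _ _ => rfl)
        · intro γ hγ
          obtain ⟨p, hp, rfl⟩ := Finset.mem_image.1 hγ
          simp only [hA, Finset.mem_product, Finset.mem_filter, Finset.mem_univ, true_and,
            and_true] at hp
          exact Finset.mem_filter.2 ⟨Finset.mem_univ _, hmem _ _ hp⟩
        · intro γ hγ
          replace hγ := (Finset.mem_filter.1 hγ).2
          simp only [Row1, not_forall] at hγ
          obtain ⟨j, hji, hj⟩ := hγ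
          set x : Fin r → F := γ.1 k - Pi.single i (γ.1 k i) with hx'
          have hx0 : x ≠ 0 := fun e => hj (by
            have := congrFun e j
            simpa [hx', show j ≠ i from hji] using this)
          have hki : k ≠ i := by simp [hk, hi]
          have hpk : k.val < (piv k x).val := by
            by_contra hcon'
            have hp := piv_ne k hx0
            rw [show piv k x = k from Fin.ext (by simp [hk] at hcon' ⊢; omega)] at hp
            simp [hx', hki, γ.2.1] at hp
          have hpi : piv k x ≠ i := fun e => piv_ne k hx0 (by rw [e]; simp [hx'])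
          have hp0 := piv_ne k hx0
          obtain ⟨p, hp⟩ : ∃ p, piv k x = p := ⟨_, rfl⟩
          rw [hp] at hpk hpi hp0
          have hxp : x p = γ.1 k p := by rw [hx', Pi.sub_apply, Pi.single_eq_of_ne hpi, sub_zero]
          rw [hxp] at hp0
          set t : F := γ.1 k i / γ.1 k p with ht
          set g : SL' r F := SpecialLinearGroup.transvection hpi.symm (-t) with hg
          have hb : Blk 1 g := blk_transvection _ (show 1 ≤ 1 from le_rfl) hpk _
          have hrow' : (congA g.1 γ).1 k = x := by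
            rw [congA_row_blk hb γ (show k.val < 1 from Nat.one_pos), hg,
              SpecialLinearGroup.transvection_coe, add_mulVec, one_mulVec, single_mulVec, hx',
              sub_eq_add_neg]
            congr 1
            funext b
            by_cases hb' : b = i
            · subst hb'; simp [ht, hp0]
            · simp [hb']
          refine Finset.mem_image.2 ⟨(congA g.1 γ, γ.1 k i), ?_, ?_⟩
          · refine Finset.mem_product.2 ⟨Finset.mem_filter.2 ⟨Finset.mem_univ _, ?_, ?_⟩,
              Finset.mem_univ _⟩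
            · rw [hrow']; simp [hx']
            · rw [hrow']; exact hx0
          · have hh : (congA g.1 γ).1 k i = 0 ∧ (congA g.1 γ).1 k ≠ 0 := by
              rw [hrow']; exact ⟨by simp [hx'], hx0⟩
            show congA (h (congA g.1 γ) (γ.1 k i)).1 (congA g.1 γ) = γ
            have key : ∀ {a b b' : Fin r} (h1 : a ≠ b) (h2 : a ≠ b') (c c' : F), b = b' → c = c' →
                SpecialLinearGroup.transvection h1 c = SpecialLinearGroup.transvection h2 c' := by
              rintro a b b' h1 h2 c c' rfl rfl; rfl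
            have e : h (congA g.1 γ) (γ.1 k i) = g⁻¹ := by
              simp only [h, dif_pos hh]
              refine (key _ hpi.symm _ t (by rw [hrow', hp]) ?_).trans ?_
              · rw [hrow', hp, hxp, ht]
              · rw [hg, SpecialLinearGroup.transvection_inv, neg_neg]
            rw [e, congA_inv]

open Classical in
include hψ in
theorem levi_nontrivial
    (hrow : ∀ β : altM F r, β ≠ 0 → β.1 (⟨0, by omega⟩ : Fin r) = 0 →
      finrank ℂ (S.D ρ ψ β) ≠ 0 → ∀ z ∈ S.D ρ ψ β, ∀ t : F, ρ (S.L (row ⟨0, by omega⟩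
        ⟨Pi.single ⟨1, by omega⟩ t, single_mem_tail (show 0 < 1 by omega) t⟩)) z = z)
    (hfix : ∃ z : M, z ≠ 0 ∧ z ∈ S.D ρ ψ (altE (bv F 0 (by omega)) (bv F 1 (by omega))) ∧
      ∀ t : F, ρ (S.L (row ⟨0, by omega⟩ ⟨Pi.single ⟨1, by omega⟩ t,
        single_mem_tail (show 0 < 1 by omega) t⟩)) z = z)
    (hconj : finrank ℂ (eigSub ρ (S.xlHom hr) 1) ≤ finrank ℂ (eigSub ρ (S.xzHom hr) 1)) :
    ∃ (g : SL' r F) (z : M), z ∈ S.D ρ ψ 0 ∧ ρ (S.L g) z ≠ z := by
  by_contra hcon
  push Not at hcon
  have key' := S.finrank_xl_mul ρ hr hψ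
  have hzsplit := S.finrank_xz_split ρ hr hψ
  have hmov := S.sum_moved_eq ρ hr hψ
  set k : Fin r := ⟨0, by omega⟩ with hk
  set i : Fin r := ⟨1, by omega⟩ with hi
  set d : altM F r → ℕ := fun β => finrank ℂ (S.D ρ ψ β) with hd
  set f : altM F r → ℕ := fun β =>
    finrank ℂ (S.D ρ ψ β ⊓ eigSub ρ (S.xlHom hr) 1 : Submodule ℂ M) with hf
  have hrowD : ∀ β : altM F r, β.1 k = 0 → f β = d β := by
    intro β hβ
    by_cases h0 : d β = 0
    · have : f β ≤ d β := Submodule.finrank_mono inf_le_left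
      omega
    show finrank ℂ _ = finrank ℂ _
    rw [S.inf_xl_eq ρ hr]
    intro z hz t
    by_cases hβ0 : β = 0
    · subst hβ0
      exact hcon _ z hz
    · exact hrow β hβ0 hβ h0 z hz t
  set β0 := altE (bv F 0 (show 0 < r by omega)) (bv F 1 (show 1 < r by omega)) with hβ0
  have hf0 : 1 ≤ f β0 := by
    obtain ⟨z, hz0, hzD, hzX⟩ := hfix
    refine Nat.one_le_iff_ne_zero.2 fun h => hz0 ?_
    have hz' : z ∈ (S.D ρ ψ β0 ⊓ eigSub ρ (S.xlHom hr) 1 : Submodule ℂ M) :=
      ⟨hzD, (mem_eigSub ρ (S.xlHom hr)).2 fun t => by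
        rw [xlHom_apply, hzX t, AddChar.one_apply, one_smul]⟩
    rwa [Submodule.finrank_eq_zero.1 h, Submodule.mem_bot] at hz'
  have hP0 : Row1 hr β0 := fun j hj => by
    have hj' : j ≠ i := hj
    simp [hβ0, altE_coe, alt2_apply, ← hk, ← hi, hj', show k ≠ i by simp [hk, hi], Pi.single_apply]
  have hne0 : β0.1 k ≠ 0 := fun h => by
    have := congrFun h i
    simp [hβ0, altE_coe, alt2_apply, hk, hi] at this
  have hfixsum : (∑ β ∈ Finset.univ.filter (fun β : altM F r => β.1 k = 0), d β) + 1 ≤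
      ∑ β ∈ Finset.univ.filter (Row1 (F := F) hr), f β := by
    refine le_trans ?_ (Finset.sum_le_sum_of_subset
      (s := insert β0 (Finset.univ.filter (fun β : altM F r => β.1 k = 0))) ?_)
    · rw [Finset.sum_insert (by simp [hne0]), add_comm]
      refine Nat.add_le_add hf0 (le_of_eq (Finset.sum_congr rfl fun β hβ => ?_))
      exact (hrowD β (Finset.mem_filter.1 hβ).2).symm
    · intro β hβ
      rcases Finset.mem_insert.1 hβ with rfl | hβ
      · simpa using hP0
      · simp only [Finset.mem_filter, Finset.mem_univ, true_and] at hβ ⊢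
        intro j _
        rw [hβ]; rfl
  rw [← Finset.mul_sum] at key'
  have hkey : Fintype.card F * finrank ℂ (eigSub ρ (S.xlHom hr) 1) =
      Fintype.card F * (∑ β ∈ Finset.univ.filter (Row1 (F := F) hr), f β) +
        ∑ β ∈ Finset.univ.filter (fun β : altM F r => ¬ Row1 hr β), d β := key'
  have hmov' : Fintype.card F * (∑ β ∈ Finset.univ.filter
      (fun β : altM F r => β.1 k i = 0 ∧ β.1 k ≠ 0), d β) =
        ∑ β ∈ Finset.univ.filter (fun β : altM F r => ¬ Row1 hr β), d β := hmov
  have h1 := Nat.mul_le_mul_left (Fintype.card F) hfixsum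
  have h2 := Nat.mul_le_mul_left (Fintype.card F) hconj
  have hq := Fintype.card_pos (α := F)
  have hz' : finrank ℂ (eigSub ρ (S.xzHom hr) 1) =
      (∑ β ∈ Finset.univ.filter (fun β : altM F r => β.1 k = 0), d β) +
        ∑ β ∈ Finset.univ.filter (fun β : altM F r => β.1 k i = 0 ∧ β.1 k ≠ 0), d β := hzsplit
  rw [hz', mul_add] at h2
  rw [mul_add, mul_one] at h1
  omega

end Siegel

end Cfsg.Agent.Lib.OrthDeg48
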