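import Cfsg.Agent.Lib.OrthDeg48.Eigen

/-!
Normal forms of alternating matrices under congruence by block elements.
-/

set_option autoImplicit false
set_option linter.unusedSectionVars false

namespace Cfsg.Agent.Lib.OrthDeg48

open Matrix Module Cfsg.Agent.Lib.SLDeg48

variable {F : Type*} [Field F] {r : ℕ}

theorem congA_row (h : Matrix (Fin r) (Fin r) F) (β : altM F r) (a : Fin r) :
    (congA h β).1 a = h *ᵥ (h a ᵥ* β.1) := by
  funext b
  rw [congA_coe, Matrix.mul_apply, mulVec, dotProduct]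
  refine Finset.sum_congr rfl fun i _ => ?_
  rw [transpose_apply, mul_comm, Matrix.mul_apply]
  rfl

theorem blk_apply_row {k : ℕ} {h : SL' r F} (hh : Blk k h) {a : Fin r} (ha : a.val < k) :
    h.1 a = Pi.single a 1 := by
  funext b
  rw [hh a b (Or.inl ha), Matrix.one_apply, Pi.single_apply]
  simp [eq_comm]

theorem congA_row_blk {k : ℕ} {h : SL' r F} (hh : Blk k h) (β : altM F r) {a : Fin r}
    (ha : a.val < k) : (congA h.1 β).1 a = h.1 *ᵥ β.1 a := by
  rw [congA_row, blk_apply_row hh ha, single_one_vecMul]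
  rfl

theorem congA_low {k : ℕ} {h : SL' r F} (hh : Blk k h) {β : altM F r}
    (hlow : ∀ a : Fin r, a.val < k → β.1 a = 0) (a : Fin r) (ha : a.val < k) :
    (congA h.1 β).1 a = 0 := by
  rw [congA_row_blk hh β ha, hlow a ha, mulVec_zero]

theorem congA_smul (g : Matrix (Fin r) (Fin r) F) (c : F) (A : altM F r) :
    congA g (c • A) = c • congA g A :=
  Subtype.ext (by simp [congA])

theorem congA_inv (h : SL' r F) (β : altM F r) : congA (h⁻¹).1 (congA h.1 β) = β := by
  rw [congA_congA, show (h⁻¹).1 * h.1 = 1 from congrArg Subtype.val (inv_mul_cancel h), congA_one]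

theorem congA_injective (h : SL' r F) : Function.Injective (congA h.1) :=
  Function.LeftInverse.injective (congA_inv h)

theorem congA_mul (g h : SL' r F) (β : altM F r) :
    congA (g * h).1 β = congA g.1 (congA h.1 β) := by
  rw [congA_congA]; rfl

theorem congA_ne_zero (h : SL' r F) {β : altM F r} (hβ : β ≠ 0) : congA h.1 β ≠ 0 := by
  intro h0
  refine hβ (congA_injective h (h0.trans ?_))
  exact Subtype.ext (by simp [congA])

theorem dec_congA {β : altM F r} (hβ : Dec β) (g : Matrix (Fin r) (Fin r) F) : Dec (congA g β) := by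
  obtain ⟨u, v, rfl⟩ := hβ
  exact ⟨g *ᵥ u, g *ᵥ v, congA_altE g u v⟩

theorem vecMul_altE_row {β : altM F r} (k : Fin r) :
    β.1 *ᵥ Pi.single k 1 = -β.1 k := by
  funext a
  rw [mulVec_single_one, Matrix.col_apply, Pi.neg_apply, β.2.2 k a]

/-- Congruence by `1 + w e_kᵀ`. -/
theorem congA_rk1 (β : altM F r) (k : Fin r) (w : Fin r → F)
    (h : (Pi.single k 1 : Fin r → F) ⬝ᵥ w = 0) :
    congA (rk1 w (Pi.single k 1) h).1 β = β + altE w (β.1 k) := by
  have e1 : vecMulVec w (Pi.single k 1) * β.1 = vecMulVec w (β.1 k) := by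
    rw [vecMulVec_mul, single_one_vecMul]; rfl
  have e2 : β.1 * (vecMulVec w (Pi.single k 1))ᵀ = -vecMulVec (β.1 k) w := by
    rw [transpose_vecMulVec, mul_vecMulVec, vecMul_altE_row, neg_vecMulVec]
  have e3 : vecMulVec w (β.1 k) * (vecMulVec w (Pi.single k 1))ᵀ = 0 := by
    rw [transpose_vecMulVec, vecMulVec_mul_vecMulVec, dotProduct_single, mul_one, β.2.1]
    simp
  apply Subtype.ext
  show (rk1 w (Pi.single k 1) h).1 * β.1 * (rk1 w (Pi.single k 1) h).1ᵀ = _
  rw [rk1_coe, transpose_add, transpose_one, add_mul, one_mul, e1, add_mul, mul_add, mul_add, mul_one,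
    mul_one, e2, e3, Submodule.coe_add, altE_coe, alt2]
  abel

theorem blk_rk1 {k : ℕ} {u v : Fin r → F} (h : v ⬝ᵥ u = 0)
    (hu : ∀ j : Fin r, j.val < k → u j = 0) (hv : ∀ j : Fin r, j.val < k → v j = 0) :
    Blk k (rk1 u v h) := by
  intro a b hab
  rw [rk1_apply, add_eq_left]
  rcases hab with ha | hb
  · rw [hu a ha, zero_mul]
  · rw [hv b hb, mul_zero]

/-- A non-zero vector in a tail goes to a multiple of the first basis vector of the tail. -/
theorem tail_to_single {k : Fin r} (hk : k.val + 1 < r) {x : Fin r → F} (hx : x ∈ tail F r k.val)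
    (hx0 : x ≠ 0) : ∃ (h : SL' r F) (c : F), Blk (k.val + 1) h ∧ c ≠ 0 ∧
      h.1 *ᵥ x = Pi.single ⟨k.val + 1, hk⟩ c := by
  classical
  set i : Fin r := ⟨k.val + 1, hk⟩ with hi
  have step : ∀ y ∈ tail F r k.val, y i ≠ 0 →
      ∃ h : SL' r F, Blk (k.val + 1) h ∧ h.1 *ᵥ y = Pi.single i (y i) := by
    intro y hy hyi
    set u : Fin r → F := -(y i)⁻¹ • (y - Pi.single i (y i)) with hu
    have hut : ∀ j : Fin r, j.val < k.val + 1 → u j = 0 := fun j hj => by
      have : j ≠ i := fun e => by rw [e] at hj; exact lt_irrefl _ hj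
      simp [hu, hy j (by omega), this]
    have hdot : (Pi.single i 1 : Fin r → F) ⬝ᵥ u = 0 := by simp [hu]
    refine ⟨rk1 u (Pi.single i 1) hdot, blk_rk1 hdot hut (fun j hj => ?_), ?_⟩
    · have : j ≠ i := fun e => by rw [e] at hj; exact lt_irrefl _ hj
      simp [this]
    · rw [rk1_coe, add_mulVec, one_mulVec, vecMulVec_mulVec, single_dotProduct, one_mul,
        op_smul_eq_smul, hu]
      ext j
      simp only [Pi.add_apply, Pi.smul_apply, Pi.sub_apply, smul_eq_mul]
      field_simp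
      ring
  by_cases hxi : x i = 0
  · obtain ⟨j, hj⟩ : ∃ j, x j ≠ 0 := by
      by_contra hcon
      push Not at hcon
      exact hx0 (funext hcon)
    have hji : i ≠ j := fun e => hj (e ▸ hxi)
    have hjk : k.val + 1 ≤ j.val := by
      by_contra hcon
      exact hj (hx j (by omega))
    set g : SL' r F := SpecialLinearGroup.transvection hji 1
    have hg : Blk (k.val + 1) g := blk_transvection hji le_rfl hjk 1
    have hgx : g.1 *ᵥ x = x + Pi.single i (x j) := by
      rw [SpecialLinearGroup.transvection_coe, add_mulVec, one_mulVec, single_mulVec]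
      congr 1
      ext a
      simp [Pi.single_apply, one_mul, Function.update_apply]
    have hyt : g.1 *ᵥ x ∈ tail F r k.val := by
      rw [hgx]; exact add_mem hx (single_mem_tail (Nat.lt_succ_self k.val) _)
    have hyi : (g.1 *ᵥ x) i ≠ 0 := by rw [hgx]; simpa [hxi] using hj
    obtain ⟨h, hh, hhy⟩ := step _ hyt hyi
    exact ⟨h * g, _, hh.mul hg, hyi, by
      rw [show (h * g).1 = h.1 * g.1 from rfl, ← mulVec_mulVec, hhy]⟩
  · obtain ⟨h, hh, hhy⟩ := step _ hx hxi
    exact ⟨h, _, hh, hxi, hhy⟩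

/-- Block elements are transitive on the non-zero vectors of the first tail. -/
theorem blk_one_transitive (hr : 3 ≤ r) {x y : Fin r → F} (hx : x ∈ tail F r 0)
    (hx0 : x ≠ 0) (hy : y ∈ tail F r 0) (hy0 : y ≠ 0) :
    ∃ h : SL' r F, Blk 1 h ∧ h.1 *ᵥ x = y := by
  classical
  obtain ⟨h1, c1, hb1, hc1, he1⟩ := tail_to_single (k := ⟨0, by omega⟩) (show 0 + 1 < r by omega)
    hx hx0
  obtain ⟨h2, c2, hb2, hc2, he2⟩ := tail_to_single (k := ⟨0, by omega⟩) (show 0 + 1 < r by omega)
    hy hy0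
  set i : Fin r := ⟨1, by omega⟩ with hi
  set l : Fin r := ⟨2, by omega⟩ with hl
  have hil : i ≠ l := by simp [hi, hl]
  set g : SL' r F := SpecialLinearGroup.diag2n hil (c2 / c1) (div_ne_zero hc2 hc1)
  have hg : g.1 = diagonal _ := SpecialLinearGroup.diag2n_coe hil _ _
  have hgb : Blk 1 g := by
    intro a b hab
    rw [hg, Matrix.one_apply, diagonal_apply]
    split_ifs with e e1 e2
    · subst e; rw [e1] at hab; simp [hi] at hab
    · subst e; rw [e2] at hab; simp [hl] at hab
    · rfl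
    · rfl
  have hgx : g.1 *ᵥ Pi.single i c1 = Pi.single i c2 := by
    rw [hg]
    ext a
    rw [mulVec_diagonal]
    by_cases ha : a = i
    · rw [if_pos ha, ha, Pi.single_eq_same, Pi.single_eq_same]
      field_simp
    · rw [Pi.single_eq_of_ne ha, Pi.single_eq_of_ne ha, mul_zero]
  have hinv : Blk 1 h2⁻¹ := by
    intro a b hab
    have h0 : h2⁻¹.1 * h2.1 = 1 := congrArg Subtype.val (inv_mul_cancel h2)
    have h0' : h2.1 * h2⁻¹.1 = 1 := congrArg Subtype.val (mul_inv_cancel h2)
    rcases hab with ha | hb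
    · have := congrFun (congrFun h0' a) b
      rw [Matrix.mul_apply, Finset.sum_eq_single a, hb2 a a (Or.inl ha), one_apply_eq,
        one_mul] at this
      · exact this
      · intro c _ hc; rw [hb2 a c (Or.inl ha), one_apply_ne hc.symm, zero_mul]
      · simp
    · have := congrFun (congrFun h0 a) b
      rw [Matrix.mul_apply, Finset.sum_eq_single b, hb2 b b (Or.inr hb), one_apply_eq,
        mul_one] at this
      · exact this
      · intro c _ hc; rw [hb2 c b (Or.inr hb), one_apply_ne hc, mul_zero]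
      · simp
  refine ⟨h2⁻¹ * (g * h1), hinv.mul (hgb.mul hb1), ?_⟩
  show ((h2⁻¹).1 * (g.1 * h1.1)) *ᵥ x = y
  rw [← mulVec_mulVec, ← mulVec_mulVec, he1]
  show (h2⁻¹).1 *ᵥ (g.1 *ᵥ Pi.single i c1) = y
  rw [hgx]
  have : h2.1 *ᵥ y = Pi.single i c2 := he2
  rw [← this, mulVec_mulVec, show (h2⁻¹).1 * h2.1 = 1 from congrArg Subtype.val (inv_mul_cancel h2),
    one_mulVec]

/-- A non-zero alternating matrix can be moved to have non-zero row `k`. -/
theorem exists_row_ne {k : Fin r} {β : altM F r} (hβ : β ≠ 0)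
    (hlow : ∀ a : Fin r, a.val < k.val → β.1 a = 0) :
    ∃ h : SL' r F, Blk k.val h ∧ (congA h.1 β).1 k ≠ 0 := by
  classical
  by_cases hk : β.1 k = 0
  · obtain ⟨i, hi⟩ : ∃ i, β.1 i ≠ 0 := by
      by_contra hcon
      push Not at hcon
      exact hβ (Subtype.ext (funext hcon))
    have hik : k ≠ i := fun e => hi (e ▸ hk)
    have hki : k.val ≤ i.val := by
      by_contra hcon
      exact hi (hlow i (by omega))
    refine ⟨wel hik, blk_wel hik le_rfl hki, fun h0 => hi ?_⟩
    have hrow : (wel (F := F) hik).1 k = Pi.single i 1 := by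
      funext c
      rw [wel_apply, Pi.single_apply, Equiv.swap_apply_def]
      grind
    rw [congA_row, hrow, single_one_vecMul] at h0
    have h1 := congrArg (fun v => ((wel hik)⁻¹ : SL' r F).1 *ᵥ v) h0
    simp only [mulVec_mulVec, mulVec_zero,
      show ((wel hik)⁻¹ : SL' r F).1 * (wel (F := F) hik).1 = 1 from
        congrArg Subtype.val (inv_mul_cancel (wel hik)), one_mulVec] at h1
    exact h1
  · exact ⟨1, fun a b _ => rfl, by rwa [show ((1 : SL' r F)).1 = 1 from rfl, congA_one]⟩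

/-- The normal form of a decomposable matrix. -/
theorem dec_normal {k : Fin r} (hk : k.val + 1 < r) {β : altM F r} (hβ : β ≠ 0) (hdec : Dec β)
    (hlow : ∀ a : Fin r, a.val < k.val → β.1 a = 0) :
    ∃ (h : SL' r F) (c : F), Blk k.val h ∧ c ≠ 0 ∧
      congA h.1 β = c • altE (Pi.single k 1) (Pi.single ⟨k.val + 1, hk⟩ 1) := by
  classical
  set i : Fin r := ⟨k.val + 1, hk⟩ with hi
  have hki : k ≠ i := fun e => by simp [hi, Fin.ext_iff] at e
  obtain ⟨h1, hb1, hne⟩ := exists_row_ne hβ hlow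
  have hlow1 := congA_low hb1 hlow
  set β1 := congA h1.1 β with hβ1
  have htail : β1.1 k ∈ tail F r k.val := by
    intro j hj
    rcases lt_or_eq_of_le hj with hj' | hj'
    · rw [β1.2.2 j k, hlow1 j hj']; simp
    · rw [show j = k from Fin.ext hj']; exact β1.2.1 k
  obtain ⟨h2, c, hb2, hc, he2⟩ := tail_to_single hk htail hne
  have hlow2 := congA_low (hb2.mono (Nat.le_succ _)) hlow1
  set β2 := congA h2.1 β1 with hβ2
  have hrow : β2.1 k = Pi.single i c := by
    rw [hβ2, congA_row_blk hb2 β1 (Nat.lt_succ_self _), he2]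
  have hc2 : β2.1 k i = c := by rw [hrow]; simp
  have hd2 : Dec β2 := dec_congA (dec_congA hdec _) _
  set y : Fin r → F := β2.1 i + Pi.single k c with hy
  have hyk : y k = 0 := by simp [hy, β2.2.2 k i, hc2]
  have hylow : ∀ j : Fin r, j.val < k.val → y j = 0 := fun j hj => by
    have : j ≠ k := fun e => by rw [e] at hj; exact lt_irrefl _ hj
    simp [hy, this, β2.2.2 j i, hlow2 j hj]
  set w : Fin r → F := c⁻¹ • y with hw
  have hdot : (Pi.single k 1 : Fin r → F) ⬝ᵥ w = 0 := by simp [hw, hyk]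
  refine ⟨rk1 w (Pi.single k 1) hdot * (h2 * h1), c, (blk_rk1 hdot (fun j hj => by
    simp [hw, hylow j hj]) (fun j hj => ?_)).mul ((hb2.mono (Nat.le_succ _)).mul hb1), hc, ?_⟩
  · have : j ≠ k := fun e => by rw [e] at hj; exact lt_irrefl _ hj
    simp [this]
  rw [congA_mul, congA_mul, ← hβ1, ← hβ2, congA_rk1, hrow]
  have h := dec_eq hd2 (a := k) (b := i) (by rw [hc2]; exact hc)
  rw [hc2, hrow] at h
  apply Subtype.ext
  ext p q
  have hpq : β2.1 p q = c⁻¹ * ((Pi.single i c : Fin r → F) p * β2.1 i q -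
      β2.1 i p * (Pi.single i c : Fin r → F) q) := by
    have := congrArg (fun A : altM F r => A.1 p q) h
    simpa [altE_coe, alt2_apply] using this
  simp only [Submodule.coe_add, Submodule.coe_smul, Matrix.add_apply, Matrix.smul_apply, altE_coe,
    alt2_apply, hw, hy, Pi.smul_apply, Pi.add_apply, smul_eq_mul, Pi.single_apply] at hpq ⊢
  rw [hpq]
  split_ifs <;> field_simp <;> ring

/-- All non-zero decomposable matrices are congruent under `SL`. -/
theorem dec_standard (hr : 3 ≤ r) {β : altM F r} (hβ : β ≠ 0) (hdec : Dec β) :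
    ∃ h : SL' r F, congA h.1 β =
      altE (Pi.single ⟨0, by omega⟩ 1) (Pi.single ⟨1, by omega⟩ 1) := by
  classical
  obtain ⟨h1, c, -, hc, he⟩ := dec_normal (k := ⟨0, by omega⟩) (show 0 + 1 < r by omega) hβ hdec
    (fun a ha => absurd ha (Nat.not_lt_zero _))
  have hil : (⟨0, by omega⟩ : Fin r) ≠ ⟨2, by omega⟩ := by simp
  set g : SL' r F := SpecialLinearGroup.diag2n hil c⁻¹ (inv_ne_zero hc)
  have hg : g.1 = diagonal _ := SpecialLinearGroup.diag2n_coe hil _ _
  refine ⟨g * h1, ?_⟩
  rw [congA_mul, he, congA_smul, congA_altE]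
  have e0 : g.1 *ᵥ Pi.single ⟨0, by omega⟩ 1 = c⁻¹ • Pi.single ⟨0, by omega⟩ (1 : F) := by
    rw [hg]; ext a
    rw [mulVec_diagonal, Pi.smul_apply, Pi.single_apply]
    split_ifs <;> simp_all
  have e1 : g.1 *ᵥ Pi.single ⟨1, by omega⟩ 1 = (Pi.single ⟨1, by omega⟩ 1 : Fin r → F) := by
    rw [hg]; ext a
    rw [mulVec_diagonal, Pi.single_apply]
    split_ifs <;> simp_all
  rw [e0, e1, altE_smul_left, smul_smul, mul_inv_cancel₀ hc, one_smul]

end Cfsg.Agent.Lib.OrthDeg48
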