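import Cfsg.Agent.Lib.OrthDeg48.OddSmall
import Cfsg.Agent.Lib.OrthDeg48.General
import Cfsg.Agent.Lib.OrthStd.Models

/-!
The bound for the odd dimensional forms.
-/

set_option autoImplicit false
set_option linter.unusedSectionVars false

namespace Cfsg.Agent.Lib.OrthDeg48

open Matrix Module QuadraticMap Cfsg.Agent.Lib.Forms Cfsg.Agent.Lib.OrthOmega Cfsg.Agent.Lib.SLDeg48

variable {F : Type*} [Field F] [Fintype F]

/-- The square form on one coordinate. -/
def qU (F : Type*) [Field F] : QuadraticForm F (Unit → F) :=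
  (qOne (F := F) 1).comp (LinearMap.proj ())

theorem qU_apply (z : Unit → F) : qU F z = z () ^ 2 := by
  simp [qU, qOne_apply, _root_.sq]

theorem qU_anisotropic : (qU F).Anisotropic := fun z hz => by
  funext k
  rw [qU_apply] at hz
  exact pow_eq_zero_iff two_ne_zero |>.1 hz

theorem qU_nondeg (h2 : (2 : F) ≠ 0) : Nondeg (qU F) := by
  intro z hz
  have h := hz z
  rw [polar_self', qU_apply] at h
  funext k
  exact (pow_eq_zero_iff two_ne_zero).1 ((mul_eq_zero.1 h).resolve_left h2)

/-- The coordinate model of the odd form. -/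
def oddModel (r : ℕ) : (OrthStd.qOddC r F).IsometryEquiv (qS r (qU F)) where
  toFun v := (fun i => v (.inr (.inl i)), fun i => v (.inr (.inr i)), fun _ => v (.inl ()))
  map_add' _ _ := rfl
  map_smul' _ _ := rfl
  invFun X := Sum.elim X.2.2 (Sum.elim X.1 X.2.1)
  left_inv v := by
    funext j
    rcases j with j | j | j <;> rfl
  right_inv _ := rfl
  map_app' v := by
    rw [qS_apply, ← OrthStd.quadFormOdd_eq, qU_apply]
    simp [Cfsg.quadFormOdd, dotProduct]
    ring

theorem odd_bound_eq (q r : ℕ) (hq : 2 ≤ q) (hr : 2 ≤ r) :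
    (q ^ (2 * r) - 1) / (q ^ 2 - 1) =
      q * numDec q r + (∑ i ∈ Finset.range (r - 1), q ^ (i + 1)) + 1 := by
  have hq2 : 2 ≤ q ^ 2 := le_trans hq (Nat.le_self_pow two_ne_zero q)
  refine Nat.div_eq_of_eq_mul_left (by omega) ?_
  have h1 := numDec_mul q (by omega) r (by omega)
  have h2 := sum_mul_pred q (r - 1) (by omega)
  rw [show r - 1 + 1 = r by omega] at h2
  generalize (∑ i ∈ Finset.range (r - 1), q ^ (i + 1)) = B at *
  generalize numDec q r = N at *
  obtain ⟨s, rfl⟩ : ∃ s, r = s + 1 := ⟨r - 1, by omega⟩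
  rw [Nat.add_sub_cancel] at h1
  zify [Nat.one_le_pow (s + 1) q (by omega), Nat.one_le_pow s q (by omega),
    Nat.one_le_pow (2 * (s + 1)) q (by omega), show 1 ≤ q ^ 2 by omega, show 1 ≤ q by omega] at h1 h2 ⊢
  linear_combination -(q : ℤ) * h1 - ((q : ℤ) + 1) * h2

variable (r : ℕ)

set_option maxHeartbeats 800000 in
/-- The bound for the model. -/
theorem odd_bound (hr : 3 ≤ r) (hodd : Odd (Fintype.card F)) (h3 : 3 < Fintype.card F)
    (h2 : (2 : F) ≠ 0) {M : Type*} [AddCommGroup M] [Module ℂ M] [FiniteDimensional ℂ M]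
    (ρ : Representation ℂ (EG (qS r (qU F))) M) (hnt : ∃ g, ρ g ≠ 1) :
    Fintype.card F * numDec (Fintype.card F) r +
      (∑ i ∈ Finset.range (r - 1), Fintype.card F ^ (i + 1)) + 1 ≤ finrank ℂ M := by
  classical
  have hR : Nondeg (qU F) := qU_nondeg h2
  set S := modelSiegel (qU F) hR (show 2 ≤ r by omega) with hS
  obtain ⟨u, hu⟩ := exists_unit_sq_ne_one (F := F) h3
  have hnt' : Nontrivial (AddChar F ℂ) := by
    rw [← Fintype.one_lt_card_iff_nontrivial, AddChar.card_eq]
    exact Fintype.one_lt_card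
  obtain ⟨ψ, hψ1⟩ := exists_ne (1 : AddChar F ℂ)
  have hψ : ψ.IsPrimitive := AddChar.IsPrimitive.of_ne_one hψ1
  have hv : qU F (fun _ => (1 : F)) = 1 := by rw [qU_apply, one_pow]
  obtain ⟨gc, hgcm, hgc⟩ := exists_conj (R := qU F) hR hr
  have hsum := sum_mul_pred (Fintype.card F) (r - 1) (by omega)
  have hB2 := bound_le_two_mul (F := F) (n := r) (by omega)
  have hN := numDec_ge (Fintype.card F) r (by omega)
  have hmul := numDec_mul (Fintype.card F) (by omega) r (by omega)
  obtain ⟨s, hs⟩ : ∃ s, r = s + 2 := ⟨r - 2, by omega⟩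
  rcases S.main_alt ρ hr hψ (exists_zh_ne_one hR hr ρ hnt)
    (exists_moving hR hr hv hu ρ) (fun _ _ c _ h4 => Or.inl (S.torus_datum ρ h4 hu c))
    (fun hone => S.exists_fixed_sq ρ hr hψ hone hu)
    ⟨⟨gc, hgcm⟩, fun t => ⟨-t, Subtype.ext (hgc t)⟩⟩ with h | h | ⟨⟨g, z, hz, hgz⟩, heq, hone⟩
  · rw [Fintype.card_unit, pow_one] at h
    refine le_trans ?_ h
    rw [hs, show s + 2 - 1 = s + 1 by omega] at hB2 hsum hmul hN ⊢
    rw [show s + 2 - 2 = s by omega] at hN ⊢
    have hK : 1 ≤ Fintype.card F ^ (s + 1) := Nat.one_le_pow _ _ (by omega)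
    have hP : Fintype.card F ≤ Fintype.card F ^ s := Nat.le_self_pow (by omega) _
    have hK0 : Fintype.card F ^ (s + 1) ≥ 2 := le_trans (show 2 ≤ Fintype.card F by omega)
      (Nat.le_self_pow (by omega) _)
    generalize ∑ i ∈ Finset.range (s + 1), Fintype.card F ^ (i + 1) = B at *
    generalize numDec (Fintype.card F) (s + 2) = N at *
    generalize hKdef : Fintype.card F ^ (s + 1) - 1 = K at *
    have h24 : 24 ≤ Fintype.card F ^ 2 - 1 := by
      have : 5 ^ 2 ≤ Fintype.card F ^ 2 := Nat.pow_le_pow_left (by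
        rcases hodd with ⟨k, hk⟩; omega) 2
      omega
    have h1 : 24 * N ≤ Fintype.card F ^ (s + 2) * K :=
      calc 24 * N ≤ N * (Fintype.card F ^ 2 - 1) := by
            rw [mul_comm 24]; exact Nat.mul_le_mul_left _ h24
        _ = (Fintype.card F ^ (s + 2) - 1) * K := hmul
        _ ≤ _ := Nat.mul_le_mul_right _ (Nat.sub_le _ _)
    have e : K * Fintype.card F ^ s * Fintype.card F ^ 2 = Fintype.card F ^ (s + 2) * K := by ring
    rw [e]
    have h5 : Fintype.card F * (24 * N) ≤ Fintype.card F * (Fintype.card F ^ (s + 2) * K) :=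
      Nat.mul_le_mul_left _ h1
    have h6 : Fintype.card F * (Fintype.card F ^ (s + 2) * K) ≤
        2 * (Fintype.card F ^ (s + 2) * K) * Fintype.card F := by
      rw [mul_comm (2 * _)]
      exact Nat.mul_le_mul_left _ (by omega)
    have hbig : 2 * (2 * K + 1) ≤ Fintype.card F ^ (s + 2) * K := by
      have h8 : 6 ≤ Fintype.card F ^ (s + 2) := le_trans (show 6 ≤ 4 ^ 2 by norm_num)
        (le_trans (Nat.pow_le_pow_left (by omega) 2) (Nat.pow_le_pow_right (by omega) (by omega)))
      have := Nat.mul_le_mul_right K h8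
      omega
    have h7 : 2 * (Fintype.card F * N) ≤ Fintype.card F ^ (s + 2) * K := by
      have hq' : Fintype.card F * (2 * N) ≤ (Fintype.card F ^ 2 - 1) * N := by
        rw [← mul_assoc]
        refine Nat.mul_le_mul_right _ ?_
        have : Fintype.card F * 3 ≤ Fintype.card F * Fintype.card F :=
          Nat.mul_le_mul_left _ (by omega)
        rw [_root_.sq]
        omega
      calc 2 * (Fintype.card F * N) = Fintype.card F * (2 * N) := by ring
        _ ≤ (Fintype.card F ^ 2 - 1) * N := hq'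
        _ = (Fintype.card F ^ (s + 2) - 1) * K := by rw [mul_comm, hmul]
        _ ≤ _ := Nat.mul_le_mul_right _ (Nat.sub_le _ _)
    omega
  · rw [Fintype.card_unit, pow_one, mul_assoc] at h
    refine le_trans ?_ h
    rw [hs, show s + 2 - 1 = s + 1 by omega] at hB2 hN ⊢
    rw [show s + 2 - 2 = s by omega] at hN
    generalize ∑ i ∈ Finset.range (s + 1), Fintype.card F ^ (i + 1) = B at *
    generalize numDec (Fintype.card F) (s + 2) = N at *
    have hP : 1 ≤ Fintype.card F ^ s := Nat.one_le_pow _ _ (by omega)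
    have hK : 2 ≤ Fintype.card F ^ (s + 1) := le_trans (show 2 ≤ Fintype.card F by omega)
      (Nat.le_self_pow (by omega) _)
    have h1 : Fintype.card F ^ (s + 1) - 1 ≤ N :=
      le_trans (Nat.le_mul_of_pos_right _ hP) hN
    have h4 : 4 * N ≤ Fintype.card F * N := Nat.mul_le_mul_right _ (by omega)
    omega
  · rw [Fintype.card_unit, pow_one] at heq hone
    rw [heq]
    have hmove : ∃ g z, S.levRep ρ ψ g z ≠ z :=
      ⟨g, ⟨z, hz⟩, fun e => hgz (congrArg Subtype.val e)⟩
    have hex : (r, Fintype.card F) ≠ (3, 2) ∧ (r, Fintype.card F) ≠ (3, 4) ∧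
        (r, Fintype.card F) ≠ (4, 2) ∧ (r, Fintype.card F) ≠ (4, 3) := by
      rcases hodd with ⟨k, hk⟩
      simp only [ne_eq, Prod.mk.injEq]
      omega
    rcases bound_or_no_fixed (S.levRep ρ ψ) hr hex hmove with h | ⟨hlow, hnof⟩
    · omega
    by_contra hlt
    refine odd_small_false hR hr qU_anisotropic hodd h3 ρ hψ ?_ hnof hlow (show finrank ℂ (S.D ρ ψ 0) ≤ ∑ i ∈ Finset.range (r - 1), Fintype.card F ^ (i + 1) by
      omega)
    intro β h1 h2
    rw [Fintype.card_unit, pow_one]
    exact hone β h1 h2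

end Cfsg.Agent.Lib.OrthDeg48
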