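import Cfsg.Agent.Lib.OrthDeg48.Block

/-!
The marked eigenspace as a representation of its `SL_2` block when the form has one variable.
-/

set_option autoImplicit false
set_option linter.unusedSectionVars false

namespace Cfsg.Agent.Lib.OrthDeg48

open Matrix Module Cfsg.Agent.Lib.SLDeg48 Cfsg.Agent.Lib.UniDeg48

variable {F : Type*} [Field F] [Fintype F] {r : ℕ} {κ : Type*} [Fintype κ]
variable {G : Type*} [Group G] (S : Siegel F r κ G)
variable {M : Type*} [AddCommGroup M] [Module ℂ M] [FiniteDimensional ℂ M]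
variable (ρ : Representation ℂ G M) {ψ : AddChar F ℂ}

/-- Multiplication by a generator is an odd permutation of a line. -/
theorem sign_smul_generator [DecidableEq F] [DecidableEq κ] [Unique κ] {u : Fˣ}
    (hu : ∀ x : Fˣ, x ∈ Subgroup.zpowers u) (hodd : Odd (Fintype.card F)) :
    Equiv.Perm.sign (MulAction.toPerm (α := Fˣ) (β := κ → F) u⁻¹) = -1 := by
  classical
  set π := MulAction.toPerm (α := Fˣ) (β := κ → F) u⁻¹ with hπ
  have hap : ∀ m, π m = u⁻¹ • m := fun m => rfl
  have h3 : 3 ≤ Fintype.card F := by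
    have := Fintype.one_lt_card (α := F)
    rcases hodd with ⟨k, hk⟩
    omega
  have hu1 : u ≠ 1 := by
    intro e
    have hsub : ∀ x : Fˣ, x = 1 := fun x => by
      have := hu x
      rw [e, Subgroup.zpowers_one_eq_bot, Subgroup.mem_bot] at this
      exact this
    have h1 : Fintype.card Fˣ ≤ 1 := Fintype.card_le_one_iff.2 fun a b => by rw [hsub a, hsub b]
    rw [Fintype.card_units] at h1
    omega
  have hmove : ∀ m : κ → F, π m ≠ m ↔ m ≠ 0 := by
    intro m
    constructor
    · intro h e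
      exact h (by rw [hap, e, smul_zero])
    · intro h e
      obtain ⟨k, hk⟩ : ∃ k, m k ≠ 0 := Function.ne_iff.1 h
      have e' := congrFun e k
      rw [hap, Pi.smul_apply, Units.smul_def, smul_eq_mul, mul_left_eq_self₀] at e'
      rcases e' with e' | e'
      · exact hu1 (inv_eq_one.1 (Units.ext e'))
      · exact hk e'
  have hcyc : π.IsCycle := by
    refine ⟨fun _ => 1, (hmove _).2 fun e => one_ne_zero (congrFun e default), fun y hy => ?_⟩
    have hy0 : y default ≠ 0 := fun e => (hmove y).1 hy (funext fun k => by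
      rw [Unique.eq_default k, e]; rfl)
    obtain ⟨i, hi⟩ := Subgroup.mem_zpowers_iff.1 (hu (Units.mk0 _ hy0))
    refine ⟨-i, ?_⟩
    have e : π ^ (-i) = MulAction.toPerm (α := Fˣ) (β := κ → F) (u⁻¹ ^ (-i)) := by
      rw [hπ]
      exact (map_zpow (MulAction.toPermHom Fˣ (κ → F)) u⁻¹ (-i)).symm
    rw [e, _root_.inv_zpow, _root_.zpow_neg, inv_inv, hi]
    show Units.mk0 (y default) hy0 • (fun _ => (1 : F)) = y
    funext k
    rw [Unique.eq_default k]
    simp [Units.smul_def]
  rw [hcyc.sign]
  have hsupp : π.support = Finset.univ.erase 0 := by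
    ext m
    rw [Equiv.Perm.mem_support, hmove]
    simp
  rw [hsupp, Finset.card_erase_of_mem (Finset.mem_univ _), Finset.card_univ, Fintype.card_fun,
    show Fintype.card κ = 1 from Fintype.card_unique, pow_one]
  obtain ⟨k, hk⟩ := hodd
  rw [hk, Nat.add_sub_cancel]
  rw [pow_mul, Int.units_sq, one_pow]

namespace Siegel

variable (hψ : ψ.IsPrimitive)
  (hone : ∀ (β : altM F r), β ≠ 0 → Dec β →
    finrank ℂ (S.D ρ ψ β) = Fintype.card F ^ Fintype.card κ)

set_option maxHeartbeats 800000 in
include hψ hone in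
/-- The torus of the block has the eigenvalue `-1` on the vectors fixed by the root group. -/
theorem odd_eigen [Unique κ] (hQ : ∀ m, S.Q0 m = 0 → m = 0) (hodd : Odd (Fintype.card F))
    (h3 : 3 < Fintype.card F) {i j : Fin r} (hij : i ≠ j) {c : F} (hc : c ≠ 0) {u : Fˣ}
    (hu : ∀ x : Fˣ, x ∈ Subgroup.zpowers u) {z : M}
    (hz : z ∈ S.D ρ ψ (c • altE (Pi.single i 1) (Pi.single j 1))) (hz0 : z ≠ 0)
    (hX : ∀ t, ρ (S.L (SpecialLinearGroup.transvection hij t)) z = z) {e : ℂ}
    (he : ρ (S.L (diagE F r (hT i j hij u))) z = e • z) : e = -1 := by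
  classical
  have hu2 : (u : F) ^ 2 ≠ 1 := by
    intro h
    have h' : orderOf u ≤ 2 := orderOf_le_of_pow_eq_one two_pos (Units.ext (by simpa using h))
    rw [orderOf_eq_card_of_forall_mem_zpowers hu, Nat.card_eq_fintype_card,
      Fintype.card_units] at h'
    rcases hodd with ⟨k, hk⟩
    omega
  set u0 : Fin r → F := Pi.single i 1 with hu0
  set u1 : Fin r → F := Pi.single j 1 with hu1
  set β := c • altE u0 u1 with hβ
  have hij' : β.1 i j = c := by simp [hβ, hu0, hu1, altE_coe, alt2_apply, hij, hij.symm]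
  have hβ0 : β ≠ 0 := fun h => hc (by rw [← hij', h]; rfl)
  have hdec : Dec β := ⟨c • u0, u1, by rw [hβ, altE_smul_left]⟩
  have hp : pairA β (altE u1 u0) = -c := by rw [hu0, hu1, pairA_single, β.2.2, hij']
  have h1 := S.finrank_Fix_eq_one ρ hψ hone hβ0 hdec (u := u0) (w := u1)
    (by rw [hp]; exact neg_ne_zero.2 hc)
  obtain ⟨v, hv, hvn⟩ := Submodule.exists_mem_ne_zero_of_ne_bot
    (show S.Fix ρ ψ β u0 ≠ ⊥ from fun h => by rw [h, finrank_bot] at h1; omega)
  have hvsp : ∀ x ∈ S.Fix ρ ψ β u0, ∃ a : ℂ, x = a • v := fun x hx => by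
    obtain ⟨a, ha⟩ := (finrank_eq_one_iff_of_nonzero' (⟨v, hv⟩ : S.Fix ρ ψ β u0)
      (fun e => hvn (congrArg Subtype.val e))).1 h1 ⟨x, hx⟩
    exact ⟨a, (congrArg Subtype.val ha).symm⟩
  rw [mem_Fix] at hv
  have hFix : ∀ g : SL' r F, (∀ x ∈ S.D ρ ψ β, ρ (S.L g) x ∈ S.D ρ ψ β) →
      ∀ s : F, s ≠ 0 → g.1 *ᵥ u0 = s • u0 → ∃ a : ℂ, ρ (S.L g) v = a • v := by
    intro g hg s hs hgu
    refine hvsp _ ((S.mem_Fix ρ ψ).2 ⟨hg v hv.1, fun n => ?_⟩)
    have h := S.L_Qv g (s⁻¹ • u0) n
    rw [mulVec_smul, hgu, smul_smul, inv_mul_cancel₀ hs, one_smul, S.Qv_smul] at h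
    rw [← Module.End.mul_apply, ← map_mul, ← h, map_mul, Module.End.mul_apply, hv.2]
  have hXu : ∀ t, (SpecialLinearGroup.transvection hij t).1 *ᵥ u0 = u0 := fun t => by
    rw [transvection_mulVec]; simp [hu0, hij, hij.symm]
  have hXu1 : ∀ t, (SpecialLinearGroup.transvection hij t).1 *ᵥ u1 = u1 + t • u0 := fun t => by
    rw [transvection_mulVec, hu1, hu0, Pi.single_eq_same, mul_one, ← Pi.single_smul', smul_eq_mul,
      mul_one]
  have hhu : (diagE F r (hT i j hij u)).1 *ᵥ u0 = (u : F) • u0 := by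
    funext x
    rw [diagE_coe, mulVec_diagonal, hT_apply]
    by_cases hx : x = i
    · subst hx; simp [hu0, hij]
    · simp [hu0, hx]
  have hhu1 : (diagE F r (hT i j hij u)).1 *ᵥ u1 = (↑u⁻¹ : F) • u1 := by
    funext x
    rw [diagE_coe, mulVec_diagonal, hT_apply]
    by_cases hx : x = j
    · subst hx; simp [hu1]
    · simp [hu1, hx]
  have hblk : BlockPair i j i j := Or.inr (Or.inl ⟨rfl, rfl⟩)
  have hXD : ∀ t, ∀ x ∈ S.D ρ ψ β, ρ (S.L (SpecialLinearGroup.transvection hij t)) x ∈ S.D ρ ψ β :=
    fun t x hx => S.map_D_block ρ hij hij hblk t c hx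
  have hhD : ∀ x ∈ S.D ρ ψ β, ρ (S.L (diagE F r (hT i j hij u))) x ∈ S.D ρ ψ β :=
    fun x hx => S.map_D_block_diag ρ hij hij hblk u c hx
  obtain ⟨lam, hlam⟩ := hFix _ hhD _ u.ne_zero hhu
  have hXv : ∀ t, ρ (S.L (SpecialLinearGroup.transvection hij t)) v = v := by
    choose φ hφ using fun t => hFix _ (hXD t) 1 one_ne_zero ((hXu t).trans (one_smul F _).symm)
    have hinj : ∀ {p q : ℂ}, p • v = q • v → p = q := fun h => smul_left_injective ℂ hvn h
    have h0 : φ 0 = 1 := hinj (by
      rw [← hφ 0, one_smul, SpecialLinearGroup.transvection_coeff_zero, map_one, map_one,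
        Module.End.one_apply])
    have hadd : ∀ s s', φ (s + s') = φ s * φ s' := fun s s' => hinj (by
      rw [← hφ, S.L_transvection_add, map_mul, Module.End.mul_apply, hφ, map_smul, hφ, smul_smul,
        mul_comm])
    have hlam0 : lam ≠ 0 := fun h => hvn (ρ_inj ρ (S.L (diagE F r (hT i j hij u)))
      (by rw [hlam, h, zero_smul, map_zero]))
    have hsq : ∀ s, φ ((u : F) ^ 2 * s) = φ s := by
      intro s
      have e1 : ρ (S.L (SpecialLinearGroup.transvection hij ((u : F) ^ 2 * s)))
          (ρ (S.L (diagE F r (hT i j hij u))) v) =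
          φ s • ρ (S.L (diagE F r (hT i j hij u))) v := by
        rw [← Module.End.mul_apply, ← map_mul, ← map_mul, ← diagE_hT_transvection, map_mul,
          map_mul, Module.End.mul_apply, hφ, map_smul]
      rw [hlam, map_smul, hφ, smul_comm (φ s)] at e1
      exact hinj (smul_right_injective M hlam0 e1)
    intro t
    rw [hφ, trivial_of_sq φ h0 hadd hu2 hsq, one_smul]
  -- the Schrödinger basis
  let w : (κ → F) → S.D ρ ψ β := fun m => ⟨ρ (S.Qv u1 m) v, S.map_D_Qv ρ ψ _ _ hv.1⟩
  have hwQ : ∀ n m, ρ (S.Qv u0 n) (w m).1 = ψ (-c * S.B0 n m) • (w m).1 := fun n m => by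
    show ρ (S.Qv u0 n) (ρ (S.Qv u1 m) v) = _
    rw [S.Qv_Qv ρ ψ hv.1, hv.2, hp, mul_comm]
  have hchinj : Function.Injective fun m : κ → F => (⟨fun n => ψ (-c * S.B0 n m), by simp,
      fun n n' => by simp [mul_add, AddChar.map_add_eq_mul]⟩ : AddChar (κ → F) ℂ) := by
    intro m m' h
    by_contra hne
    obtain ⟨n, hn⟩ := S.B0_nd (m - m') (sub_ne_zero.2 hne)
    refine hn ?_
    have h2 : ψ.mulShift (-c * (S.B0 n m - S.B0 n m')) = 1 := by
      ext s
      have := DFunLike.congr_fun h (s • n)
      change ψ (-c * S.B0 (s • n) m) = ψ (-c * S.B0 (s • n) m') at this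
      simp only [map_smul, LinearMap.smul_apply, smul_eq_mul] at this
      rw [AddChar.mulShift_apply, AddChar.one_apply, show -c * (S.B0 n m - S.B0 n m') * s =
        -c * (s * S.B0 n m) + -(-c * (s * S.B0 n m')) by ring, AddChar.map_add_eq_mul,
        AddChar.map_neg_eq_inv, this, mul_inv_cancel₀ (AddChar.val_isUnit ψ _).ne_zero]
    have h3 : -c * (S.B0 n m - S.B0 n m') = 0 :=
      AddChar.to_mulShift_inj_of_isPrimitive hψ (h2.trans (AddChar.mulShift_zero ψ).symm)
    rw [map_sub]
    exact (mul_eq_zero.1 h3).resolve_left (neg_ne_zero.2 hc)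
  have hli : LinearIndependent ℂ w := by
    rw [Fintype.linearIndependent_iff]
    intro g hg m0
    obtain ⟨f, hf⟩ : ∃ f : Module.Dual ℂ (S.D ρ ψ β), f (w m0) ≠ 0 := by
      by_contra hcon
      push Not at hcon
      have h' : w m0 = 0 := (Module.forall_dual_apply_eq_zero_iff ℂ _).1 hcon
      exact hvn (ρ_inj ρ (S.Qv u1 m0) ((congrArg Subtype.val h').trans (map_zero _).symm))
    have hch := (AddChar.linearIndependent (κ → F) ℂ).comp _ hchinj
    rw [Fintype.linearIndependent_iff] at hch
    have := hch (fun m => g m * f (w m)) (funext fun n => ?_) m0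
    · exact (mul_eq_zero.1 this).resolve_right hf
    have h' := congrArg (fun x : S.D ρ ψ β =>
      f ((ρ (S.Qv u0 n)).restrict (fun y hy => S.map_D_Qv ρ ψ _ _ hy) x)) hg
    have hw' : ∀ m, (ρ (S.Qv u0 n)).restrict (fun y hy => S.map_D_Qv ρ ψ _ _ hy) (w m) =
        ψ (-c * S.B0 n m) • w m := fun m => Subtype.ext (hwQ n m)
    simp only [map_sum, map_smul, map_zero, hw', smul_eq_mul] at h'
    simp only [Finset.sum_apply, Pi.smul_apply, Function.comp_apply, smul_eq_mul, Pi.zero_apply]
    refine Eq.trans (Finset.sum_congr rfl fun m _ => ?_) h'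
    show g m * f (w m) * ψ (-c * S.B0 n m) = _
    ring
  have hcard : Fintype.card (κ → F) = finrank ℂ (S.D ρ ψ β) := by
    rw [hone β hβ0 hdec, Fintype.card_fun]
  let bas := basisOfLinearIndependentOfCardEqFinrank hli hcard
  have hbas : ∀ m, bas m = w m := fun m => by
    simp [bas]
  -- the root group and the torus on the basis
  have hXw : ∀ t m, ρ (S.L (SpecialLinearGroup.transvection hij t)) (w m).1 =
      ψ (S.Q0 m * (t * -c)) • (w m).1 := fun t m => by
    show ρ _ (ρ (S.Qv u1 m) v) = ψ (S.Q0 m * (t * -c)) • ρ (S.Qv u1 m) v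
    rw [← Module.End.mul_apply, ← map_mul, S.L_Qv, hXu1, map_mul, Module.End.mul_apply, hXv,
      S.Qv_add_left_apply ρ ψ hv.1, S.Qv_smul, hv.2, altE_smul_right, pairA_smul_right, hp]
  have hhw : ∀ m, ρ (S.L (diagE F r (hT i j hij u))) (w m).1 = lam • (w (u⁻¹ • m)).1 := fun m => by
    show ρ _ (ρ (S.Qv u1 m) v) = lam • ρ (S.Qv u1 (u⁻¹ • m)) v
    rw [← Module.End.mul_apply, ← map_mul, S.L_Qv, hhu1, map_mul, Module.End.mul_apply, hlam,
      map_smul, S.Qv_smul]
    rfl
  -- fixed vectors of the root group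
  have hfix0 : ∀ x : S.D ρ ψ β, (∀ t, ρ (S.L (SpecialLinearGroup.transvection hij t)) x.1 = x.1) →
      ∃ a : ℂ, x.1 = a • v := by
    intro x hx
    refine ⟨bas.repr x 0, ?_⟩
    have hcoef : ∀ m, m ≠ 0 → bas.repr x m = 0 := by
      intro m hm
      obtain ⟨t, ht⟩ : ∃ t, ψ (S.Q0 m * (t * -c)) ≠ 1 := by
        by_contra hcon
        push Not at hcon
        have h2 : ψ.mulShift (S.Q0 m * -c) = 1 := by
          ext t
          rw [AddChar.mulShift_apply, AddChar.one_apply, ← hcon t]
          congr 1; ring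
        have h4 : S.Q0 m * -c = 0 :=
          AddChar.to_mulShift_inj_of_isPrimitive hψ (h2.trans (AddChar.mulShift_zero ψ).symm)
        exact hm (hQ m ((mul_eq_zero.1 h4).resolve_right (neg_ne_zero.2 hc)))
      set T := (ρ (S.L (SpecialLinearGroup.transvection hij t))).restrict (hXD t)
      have hT' : ∀ k, T (bas k) = ψ (S.Q0 k * (t * -c)) • bas k := fun k => by
        rw [hbas]; exact Subtype.ext (hXw t k)
      have h5 : bas.repr (T x) m = ψ (S.Q0 m * (t * -c)) * bas.repr x m := by
        conv_lhs => rw [← bas.sum_repr x]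
        simp only [map_sum, map_smul, hT', Finsupp.coe_finsetSum, Finset.sum_apply,
          Finsupp.coe_smul, Pi.smul_apply, Basis.repr_self, smul_eq_mul]
        rw [Finset.sum_eq_single m]
        · rw [Finsupp.single_eq_same]; ring
        · intro k _ hk
          rw [Finsupp.single_eq_of_ne hk.symm, mul_zero, mul_zero]
        · simp
      rw [show T x = x from Subtype.ext (hx t)] at h5
      have h6 : (ψ (S.Q0 m * (t * -c)) - 1) * bas.repr x m = 0 := by linear_combination -h5
      exact (mul_eq_zero.1 h6).resolve_left (sub_ne_zero.2 ht)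
    conv_lhs => rw [← bas.sum_repr x]
    rw [Finset.sum_eq_single 0 (fun m _ hm => by rw [hcoef m hm, zero_smul]) (by simp),
      Submodule.coe_smul, hbas]
    show bas.repr x 0 • ρ (S.Qv u1 0) v = _
    rw [Qv_zero, map_one, Module.End.one_apply]
  -- the eigenvalue
  obtain ⟨a, ha⟩ := hfix0 ⟨z, hz⟩ hX
  change z = a • v at ha
  have ha0 : a ≠ 0 := fun h => hz0 (by rw [ha, h, zero_smul])
  rw [ha, map_smul, hlam, smul_comm e] at he
  have hel : lam = e := smul_left_injective ℂ hvn (smul_right_injective M ha0 he)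
  rw [← hel]
  -- the determinant
  let H : Submonoid (SL' r F) :=
    { carrier := {g | ∀ x ∈ S.D ρ ψ β, ρ (S.L g) x ∈ S.D ρ ψ β}
      one_mem' := fun x hx => by rw [map_one, map_one, Module.End.one_apply]; exact hx
      mul_mem' := fun {p q} hp hq x hx => by
        rw [map_mul, map_mul, Module.End.mul_apply]; exact hp _ (hq _ hx) }
  let Φ : H →* ℂ :=
    { toFun := fun g => LinearMap.det ((ρ (S.L g.1)).restrict g.2)
      map_one' := by
        rw [← LinearMap.det_id (A := ℂ) (M := S.D ρ ψ β)]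
        congr 1
        refine LinearMap.ext fun x => Subtype.ext ?_
        show ρ (S.L 1) x.1 = x.1
        rw [map_one, map_one, Module.End.one_apply]
      map_mul' := fun p q => by
        rw [← map_mul]
        congr 1
        refine LinearMap.ext fun x => Subtype.ext ?_
        show ρ (S.L (p.1 * q.1)) x.1 = ρ (S.L p.1) (ρ (S.L q.1) x.1)
        rw [map_mul, map_mul, Module.End.mul_apply] }
  have hroot : ∀ {p q : Fin r} (hpq : p ≠ q) (hb : BlockPair i j p q) (t : F),
      Φ ⟨SpecialLinearGroup.transvection hpq t, fun x hx => S.map_D_block ρ hij hpq hb t c hx⟩ = 1 := by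
    intro p q hpq hb
    set X : F → H := fun t =>
      ⟨SpecialLinearGroup.transvection hpq t, fun x hx => S.map_D_block ρ hij hpq hb t c hx⟩ with hX'
    set hh : Fˣ → H := fun s =>
      ⟨diagE F r (hT p q hpq s), fun x hx => S.map_D_block_diag ρ hij hpq hb s c hx⟩
    have h0 : X 0 = 1 := Subtype.ext (SpecialLinearGroup.transvection_coeff_zero hpq)
    refine trivial_of_sq (fun t => Φ (X t)) (by simp only [h0, map_one]) (fun s t => ?_) hu2
      fun t => ?_
    · rw [← map_mul]; congr 1
      exact Subtype.ext (SpecialLinearGroup.transvection_add hpq s t)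
    · have e1 : hh u * X t = X ((u : F) ^ 2 * t) * hh u :=
        Subtype.ext (diagE_hT_transvection hpq u t)
      have e2 : hh u * hh u⁻¹ = 1 := Subtype.ext (by
        show diagE F r (hT p q hpq u) * diagE F r (hT p q hpq u⁻¹) = 1
        rw [← map_mul, show hT p q hpq u * hT p q hpq u⁻¹ = (1 : tor F r) from Subtype.ext (funext
          fun x => by
            show (hT p q hpq u).1 x * (hT p q hpq u⁻¹).1 x = 1
            rw [hT_apply, hT_apply]; split_ifs <;> simp), map_one])
      have hne : Φ (hh u) ≠ 0 := fun h => by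
        have := congrArg Φ e2
        rw [map_mul, h, zero_mul, map_one] at this
        exact zero_ne_one this
      have e3 := congrArg Φ e1
      rw [map_mul, map_mul, mul_comm] at e3
      exact (mul_right_cancel₀ hne e3).symm
  have hdet1 : Φ ⟨diagE F r (hT i j hij u), hhD⟩ = 1 := by
    have hb' : BlockPair i j j i := hblk.symm
    set P : F → H := fun t =>
      ⟨SpecialLinearGroup.transvection hij t, fun x hx => S.map_D_block ρ hij hij hblk t c hx⟩
    set Q : F → H := fun t =>
      ⟨SpecialLinearGroup.transvection hij.symm t,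
        fun x hx => S.map_D_block ρ hij hij.symm hb' t c hx⟩
    have e1 : (⟨diagE F r (hT i j hij u), hhD⟩ : H) =
        P u * Q (-(u : F)⁻¹) * P u * P (-1) * Q 1 * P (-1) := Subtype.ext (by
      show diagE F r (hT i j hij u) = _
      rw [diagE_hT_eq]
      exact AutPSL.diag2n_eq_prod_transvection hij _ u.ne_zero)
    rw [e1]
    simp only [map_mul, P, Q, hroot hij hblk, hroot hij.symm hb', mul_one]
  set π := MulAction.toPerm (α := Fˣ) (β := κ → F) u⁻¹
  have hdet2 : Φ ⟨diagE F r (hT i j hij u), hhD⟩ = lam ^ Fintype.card F * (-1) := by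
    show LinearMap.det ((ρ (S.L (diagE F r (hT i j hij u)))).restrict hhD) = _
    rw [← LinearMap.det_toMatrix bas]
    have hmat : LinearMap.toMatrix bas bas ((ρ (S.L (diagE F r (hT i j hij u)))).restrict hhD) =
        lam • (π.symm.toPEquiv.toMatrix : Matrix (κ → F) (κ → F) ℂ) := by
      ext p q
      have e1 : (ρ (S.L (diagE F r (hT i j hij u)))).restrict hhD (bas q) = lam • bas (π q) := by
        rw [hbas, hbas]; exact Subtype.ext (hhw q)
      rw [LinearMap.toMatrix_apply, e1, map_smul, Finsupp.smul_apply, Basis.repr_self,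
        Matrix.smul_apply, PEquiv.toMatrix_apply, Finsupp.single_apply]
      simp only [Equiv.toPEquiv_apply, Option.mem_def, Option.some.injEq, Equiv.symm_apply_eq,
        eq_comm (a := π q)]
    rw [hmat, Matrix.det_smul, Matrix.det_permutation, Equiv.Perm.sign_symm,
      sign_smul_generator hu hodd, Fintype.card_fun, show Fintype.card κ = 1 from Fintype.card_unique, pow_one]
    simp
  have hlamq : lam ^ Fintype.card F = -1 := by linear_combination (hdet1.symm.trans hdet2)
  have hlam0 : lam ≠ 0 := fun h => by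
    rw [h, zero_pow Fintype.card_ne_zero] at hlamq
    exact neg_ne_zero.2 one_ne_zero hlamq.symm
  have hpow : ∀ k : ℕ, ρ ((S.L (diagE F r (hT i j hij u))) ^ k) v = lam ^ k • v := by
    intro k
    induction k with
    | zero => rw [pow_zero, pow_zero, map_one, one_smul, Module.End.one_apply]
    | succ k ih =>
      rw [pow_succ, map_mul, Module.End.mul_apply, hlam, map_smul, ih, smul_smul, pow_succ,
        mul_comm]
  have hcycl : lam ^ (Fintype.card F - 1) = 1 := by
    refine smul_left_injective ℂ hvn ?_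
    show lam ^ (Fintype.card F - 1) • v = (1 : ℂ) • v
    rw [← hpow, ← map_pow, ← map_pow, show hT i j hij u ^ (Fintype.card F - 1) = (1 : tor F r) from
      Subtype.ext (funext fun x => by
        rw [SubmonoidClass.coe_pow, Pi.pow_apply, ← Fintype.card_units]
        exact pow_card_eq_one), map_one, map_one, map_one, one_smul, Module.End.one_apply]
  rw [show Fintype.card F = Fintype.card F - 1 + 1 by omega, pow_succ, hcycl, one_mul] at hlamq
  exact hlamq

end Siegel

end Cfsg.Agent.Lib.OrthDeg48
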