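import Cfsg.Agent.Lib.SLDeg48.Main
import Cfsg.Agent.Lib.OrthDeg48.Main

/-!
Representations of `SL_n` of the smallest non-trivial dimension: the structure of the space of
fixed vectors of the upper triangular unipotent subgroup.
-/

set_option autoImplicit false
set_option linter.unusedSectionVars false

namespace Cfsg.Agent.Lib.OrthDeg48

open Matrix Module Cfsg.Agent.Lib.SLDeg48 Cfsg.Agent.Lib.MinDegree
open scoped Classical

variable {F : Type*} [Field F] [Fintype F] {n : ℕ}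
variable {M : Type*} [AddCommGroup M] [Module ℂ M] [FiniteDimensional ℂ M]
variable (ρ : Representation ℂ (SL' n F) M)

theorem bound_lt_two_mul (hn : 2 ≤ n) (hq : 3 ≤ Fintype.card F) :
    (∑ i ∈ Finset.range (n - 1), Fintype.card F ^ (i + 1)) <
      2 * (Fintype.card F ^ (n - 1) - 1) := by
  have h := sum_mul_pred (Fintype.card F) (n - 1) (by omega)
  generalize (∑ i ∈ Finset.range (n - 1), Fintype.card F ^ (i + 1)) = B at *
  obtain ⟨s, hs⟩ : ∃ s, Fintype.card F = s + 3 := ⟨Fintype.card F - 3, by omega⟩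
  obtain ⟨m, hm⟩ : ∃ m, n - 1 = m + 1 := ⟨n - 2, by omega⟩
  rw [hm, pow_succ (Fintype.card F) (m + 1)] at h
  rw [hm]
  have hle : Fintype.card F ≤ Fintype.card F ^ (m + 1) := Nat.le_self_pow (by omega) _
  obtain ⟨P, hP⟩ : ∃ P, Fintype.card F ^ (m + 1) = P + 1 := ⟨_, (Nat.sub_add_cancel (by omega)).symm⟩
  rw [hP, hs, show s + 3 - 1 = s + 2 by omega] at h
  rw [hP, Nat.add_sub_cancel]
  refine Nat.lt_of_mul_lt_mul_right (a := s + 2) ?_
  nlinarith

/-- Either the dimension exceeds the bound, or it is at least the bound and there are no fixed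
vectors. -/
theorem bound_or_no_fixed (hn : 3 ≤ n)
    (hex : (n, Fintype.card F) ≠ (3, 2) ∧ (n, Fintype.card F) ≠ (3, 4) ∧
      (n, Fintype.card F) ≠ (4, 2) ∧ (n, Fintype.card F) ≠ (4, 3))
    (hmove : ∃ g z, ρ g z ≠ z) :
    ∑ i ∈ Finset.range (n - 1), Fintype.card F ^ (i + 1) < finrank ℂ M ∨
      (∑ i ∈ Finset.range (n - 1), Fintype.card F ^ (i + 1) ≤ finrank ℂ M ∧
        ∀ z : M, (∀ g, ρ g z = z) → z = 0) := by
  by_cases hfix : ∀ z : M, (∀ g, ρ g z = z) → z = 0
  · obtain ⟨g, z, hgz⟩ := hmove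
    have : Nontrivial M := ⟨⟨_, _, hgz⟩⟩
    exact Or.inr ⟨bound_of_no_fixed hn hex ρ Module.finrank_pos hfix, hfix⟩
  left
  push Not at hfix
  obtain ⟨z0, hz0, hz0n⟩ := hfix
  let P : Module.End ℂ M := ∑ g : SL' n F, ρ g
  have hPg : ∀ g z, P (ρ g z) = P z := fun g z => by
    simp only [P, LinearMap.sum_apply, ← ρ_apply_mul]
    exact Fintype.sum_equiv (Equiv.mulRight g) _ _ fun _ => rfl
  have hPf : ∀ z, (∀ g, ρ g z = z) → P z = (Fintype.card (SL' n F) : ℂ) • z := fun z hz => by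
    simp only [P, LinearMap.sum_apply, hz, Finset.sum_const, Finset.card_univ, Nat.cast_smul_eq_nsmul]
  have hN : (Fintype.card (SL' n F) : ℂ) ≠ 0 := Nat.cast_ne_zero.2 Fintype.card_ne_zero
  set W := LinearMap.ker P with hW
  have hWi : ∀ g, ∀ z ∈ W, ρ g z ∈ W := fun g z hz => by
    rw [hW, LinearMap.mem_ker] at hz ⊢
    rw [hPg, hz]
  have hfixW : ∀ z : W, (∀ g, subRep ρ W hWi g z = z) → z = 0 := fun z hz => by
    have h := hPf z.1 fun g => congrArg Subtype.val (hz g)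
    rw [show P z.1 = 0 from z.2, eq_comm, smul_eq_zero] at h
    exact Subtype.ext (h.resolve_left hN)
  have hWpos : 0 < finrank ℂ W := by
    obtain ⟨g, z, hgz⟩ := hmove
    refine Module.finrank_pos_iff.2 (Submodule.nontrivial_iff_ne_bot.2 fun h => hgz ?_)
    have h1 : ρ g z - z ∈ W := by rw [hW, LinearMap.mem_ker, map_sub, hPg, sub_self]
    rw [h, Submodule.mem_bot, sub_eq_zero] at h1
    exact h1
  have hWlt : finrank ℂ W < finrank ℂ M := by
    refine Submodule.finrank_lt fun h => hz0n ?_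
    have h1 : z0 ∈ W := h ▸ Submodule.mem_top
    rw [hW, LinearMap.mem_ker, hPf z0 hz0, smul_eq_zero] at h1
    exact h1.resolve_left hN
  exact lt_of_le_of_lt (bound_of_no_fixed hn hex (subRep ρ W hWi) hWpos hfixW) hWlt

variable {ψ : AddChar F ℂ}

/-- It is impossible that all fixed vectors of the upper unipotent subgroup are fixed by the last
lower root subgroup. -/
theorem last_contra (hn : 3 ≤ n) (hfix : ∀ z : M, (∀ g, ρ g z = z) → z = 0)
    (hne : Z ρ n ≠ ⊥) {i j : Fin n} (hij : i ≠ j) (hi : i.val + 2 = n) (hj : j.val + 1 = n)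
    (hlo : ∀ v ∈ Z ρ n, ∀ t, ρ (SpecialLinearGroup.transvection hij.symm t) v = v) : False := by
  have hi1 : i.val + 1 < n := by omega
  obtain rfl : j = ⟨i.val + 1, hi1⟩ := Fin.ext (show j.val = i.val + 1 by omega)
  have hup : ∀ v ∈ Z ρ n, ∀ t, ρ (SpecialLinearGroup.transvection hij t) v = v := fun v hv t =>
    (mem_Z ρ).1 hv _ (low_transvection hij (Fin.lt_def.2 (by simp)) t)
  have hker : ∀ χ, Occurs (torRep ρ) (torId F n) χ → Ker χ i ⟨i.val + 1, hi1⟩ hij := by
    rintro χ ⟨v, hv0, hv⟩ a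
    have h1 := congrArg Subtype.val (hv (Additive.ofMul (hT _ _ hij a)))
    have h2 : ρ (diagE F n (hT _ _ hij a)) v.1 = v.1 := by
      have hd2 : diagE F n (hT _ _ hij a) =
          SpecialLinearGroup.diag2n hij (a : F) a.ne_zero := by
        apply Subtype.ext
        rw [diagE_coe, SpecialLinearGroup.diag2n_coe]
        congr 1
        funext x
        rw [hT_apply]
        by_cases hx : x = i
        · subst hx; simp [hij]
        · by_cases hx' : x = ⟨i.val + 1, hi1⟩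
          · subst hx'; simp [hij.symm]
          · simp [hx, hx']
      rw [hd2, AutPSL.diag2n_eq_prod_transvection hij _ a.ne_zero]
      simp only [ρ_apply_mul, hup _ v.2, hlo _ v.2]
    change ρ (diagE F n (hT _ _ hij a)) v.1 = χ _ • v.1 at h1
    rw [h2] at h1
    exact smul_left_injective ℂ (fun e => hv0 (Subtype.ext e))
      (h1.symm.trans (one_smul ℂ _).symm)
  have hB : ∀ v ∈ Z ρ n, IsB ρ v := fun v hv => ⟨hv, fun d =>
    tor_fix_of_ker ρ hn (fun χ hocc => ker_of_one ρ hij hker hocc) d hv⟩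
  refine Aop_ne_zero hB hfix hn hne i.val (by omega) (LinearMap.ext fun v => ?_)
  refine (Aop_eq_zero_iff hB i.val (by omega) v).2 ?_
  show ρ (wel hij) v.1 = v.1
  simp only [wel, ρ_apply_mul, hup _ v.2, hlo _ v.2]

/-- The facts about a representation of the smallest dimension. -/
theorem small_facts (hψ : ψ.IsPrimitive) (hn : 3 ≤ n) (hq : 3 ≤ Fintype.card F)
    (hfix : ∀ z : M, (∀ g, ρ g z = z) → z = 0) (hM : 0 < finrank ℂ M)
    (hle : finrank ℂ M ≤ ∑ i ∈ Finset.range (n - 1), Fintype.card F ^ (i + 1))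
    (hbig : Fintype.card F ^ (n - 1) ≤ finrank ℂ M) :
    (∀ (k : Fin n) (h : k.val + 1 < n), dd ρ ψ k h ≤ 1) ∧ Z ρ n ≠ ⊥ ∧
      finrank ℂ (Z ρ n) + 1 ≤ n := by
  have hfin : finrank ℂ (Z ρ 0) = finrank ℂ (Z ρ (0 + 1)) +
      (Fintype.card F ^ (n - 0 - 1) - 1) * dd ρ ψ ⟨0, by omega⟩ (show 0 + 1 < n by omega) :=
    finrank_Z ρ hψ hn (k := ⟨0, by omega⟩) (show 0 + 1 < n by omega)
  rw [Z_zero, finrank_top, Nat.sub_zero] at hfin
  have hd0 : dd ρ ψ ⟨0, by omega⟩ (show 0 + 1 < n by omega) ≤ 1 := by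
    by_contra hcon
    have h2 := bound_lt_two_mul (F := F) (n := n) (by omega) hq
    have h3 := Nat.mul_le_mul_left (Fintype.card F ^ (n - 1) - 1) (Nat.lt_of_not_le hcon)
    simp only [Nat.succ_eq_add_one] at h3
    omega
  have hZ1 : Z ρ 1 ≠ ⊥ := fun e => by
    have h01 : Z ρ (0 + 1) = ⊥ := e
    rw [h01, finrank_bot, zero_add] at hfin
    have h3 : (Fintype.card F ^ (n - 1) - 1) *
        dd ρ ψ ⟨0, by omega⟩ (show 0 + 1 < n by omega) ≤ Fintype.card F ^ (n - 1) - 1 :=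
      le_trans (Nat.mul_le_mul_left _ hd0) (by omega)
    have : 1 ≤ Fintype.card F ^ (n - 1) := Nat.one_le_pow _ _ (by omega)
    omega
  have hle1 : ∀ (k : Fin n) (h : k.val + 1 < n), dd ρ ψ k h ≤ 1 := by
    intro k h
    have h1 := dd_anti ρ hψ hn k.val 0 (by omega)
    simp only [Nat.zero_add] at h1
    exact h1.trans hd0
  have hne : Z ρ n ≠ ⊥ := by
    rw [← Z_last]
    exact Z_ne_bot ρ hψ hn hle1 hZ1 _ (by omega)
  refine ⟨hle1, hne, ?_⟩
  have hlast : dd ρ ψ ⟨n - 2, by omega⟩ (show n - 2 + 1 < n by omega) ≠ 0 := by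
    intro h0
    set L : Fin n := ⟨n - 2, by omega⟩ with hL
    set L' : Fin n := ⟨n - 2 + 1, by omega⟩ with hL'
    have hLL : L ≠ L' := fun e => by simp [hL, hL'] at e
    have hZ : Z ρ L.val = Z ρ n := by
      have h2 := finrank_Z ρ hψ hn (k := L) (show n - 2 + 1 < n by omega)
      rw [h0, mul_zero, add_zero, show L.val + 1 = n - 1 by simp [hL]; omega, Z_last] at h2
      exact (Submodule.eq_of_le_of_finrank_eq (Z_anti ρ L.isLt.le) h2.symm).symm
    have hmapw : ∀ {a b : Fin n} (h : a ≠ b), n - 2 ≤ a.val → n - 2 ≤ b.val → ∀ v ∈ Z ρ n,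
        ρ (wel h) v ∈ Z ρ n := by
      intro a b h ha hb v hv
      rw [← hZ] at hv ⊢
      exact map_Z ρ (blk_wel h ha hb).nrm hv
    have hup : ∀ v ∈ Z ρ n, ∀ t, ρ (SpecialLinearGroup.transvection hLL t) v = v := fun v hv t =>
      (mem_Z ρ).1 hv _ (low_transvection hLL (Fin.lt_def.2 (by simp [hL, hL'])) t)
    refine last_contra ρ hn hfix hne hLL (by simp [hL]; omega) (by simp [hL']; omega) ?_
    intro v hv t
    have h1 := wel_mul_transvection (F := F) hLL hLL hLL.symm (Equiv.swap_apply_left _ _)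
      (Equiv.swap_apply_right _ _) (-t)
    rw [if_pos rfl, if_neg hLL.symm, mul_one, neg_one_mul, neg_neg] at h1
    have hv' : ρ (wel hLL.symm) v ∈ Z ρ n :=
      hmapw hLL.symm (by simp [hL']) (by simp [hL]) v hv
    have h2 := congrArg (fun g => ρ g (ρ (wel hLL.symm) v)) h1
    simp only [ρ_apply_mul, hup _ hv'] at h2
    rw [← ρ_apply_mul, wel_mul_wel_symm, map_one, Module.End.one_apply] at h2
    exact h2.symm
  have hd1 : ∀ k (h : k + 1 < n), dd ρ ψ ⟨k, by omega⟩ h = 1 := by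
    intro k h
    have h1 := dd_anti ρ hψ hn (n - 2 - k) k (by omega)
    simp only [show k + (n - 2 - k) = n - 2 by omega] at h1
    have := hle1 ⟨k, by omega⟩ h
    omega
  have hdim := sum_dim ρ hψ hn hd1 (n - 1) (by omega)
  rw [Nat.sub_self, Z_zero, finrank_top] at hdim
  omega

/-- Disjoint pairs from the last one. -/
theorem disj_of_last {i j : Fin n} (hij : i ≠ j)
    (H : ∀ χ, Occurs (torRep ρ) (torId F n) χ → ∀ (a b : Fin n) (hab : a ≠ b), a ≠ i → a ≠ j →
      b ≠ i → b ≠ j → ¬ Ker χ a b hab → Ker χ i j hij)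
    {χ : AddChar (Additive (tor F n)) ℂ} (hocc : Occurs (torRep ρ) (torId F n) χ)
    (a b l m : Fin n) (hab : a ≠ b) (hlm : l ≠ m) (hal : a ≠ l) (ham : a ≠ m) (hbl : b ≠ l)
    (hbm : b ≠ m) (hk : ¬ Ker χ a b hab) : Ker χ l m hlm := by
  set σ₁ : Equiv.Perm (Fin n) := Equiv.swap i l
  set σ₂ : Equiv.Perm (Fin n) := Equiv.swap (σ₁ j) m
  have s1 : ∀ x, σ₁ (σ₁ x) = x := fun x => Equiv.swap_apply_self _ _ x
  have s2 : ∀ x, σ₂ (σ₂ x) = x := fun x => Equiv.swap_apply_self _ _ x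
  have h1 : σ₁ i = l := Equiv.swap_apply_left _ _
  have h2 : σ₂ l = l := Equiv.swap_apply_of_ne_of_ne
    (fun e => hij (σ₁.injective (h1.trans e))) hlm
  have h3 : σ₂ (σ₁ j) = m := Equiv.swap_apply_left _ _
  have hsymm : ∀ (x y : Fin n) (hxy : x ≠ y) (x' y' : Fin n) (hxy' : x' ≠ y'),
      σ₂ (σ₁ x) = x' → σ₂ (σ₁ y) = y' →
      (Ker (permChi (σ₁ * σ₂) χ) x y hxy ↔ Ker χ x' y' hxy') := by
    intro x y hxy x' y' hxy' hx hy
    refine forall_congr' fun u => ?_
    rw [permChi_apply, toMul_ofMul, permT_hT]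
    have : ∀ z, (σ₁ * σ₂).symm z = σ₂ (σ₁ z) := fun z =>
      (Equiv.symm_apply_eq _).2 (by simp only [Equiv.Perm.mul_apply, s2, s1])
    simp only [this, hx, hy]
  have hocc' : Occurs (torRep ρ) (torId F n) (permChi (σ₁ * σ₂) χ) := by
    rw [permChi_mul]
    exact occurs_swap' ρ (occurs_swap' ρ hocc)
  have hback : ∀ x, σ₂ (σ₁ (σ₁ (σ₂ x))) = x := fun x => by rw [s1, s2]
  have hne : ∀ x, x ≠ l → x ≠ m → σ₁ (σ₂ x) ≠ i ∧ σ₁ (σ₂ x) ≠ j := fun x hxl hxm =>
    ⟨fun e => hxl (by rw [← hback x, e, h1, h2]), fun e => hxm (by rw [← hback x, e, h3])⟩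
  refine (hsymm i j hij l m hlm (by rw [h1, h2]) h3).1
    (H _ hocc' (σ₁ (σ₂ a)) (σ₁ (σ₂ b)) (fun e => hab (σ₂.injective (σ₁.injective e)))
      (hne a hal ham).1 (hne a hal ham).2 (hne b hbl hbm).1 (hne b hbl hbm).2 fun h => hk ?_)
  exact (hsymm _ _ _ a b hab (hback a) (hback b)).1 h

/-- With few fixed vectors of the upper unipotent subgroup the torus fixes them. -/
theorem tor_trivial (hn : 3 ≤ n) (hc : finrank ℂ (Z ρ n) + 1 ≤ n)
    (hdisj : ∀ χ, Occurs (torRep ρ) (torId F n) χ → ∀ (a b l m : Fin n) (hab : a ≠ b)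
      (hlm : l ≠ m), a ≠ l → a ≠ m → b ≠ l → b ≠ m → ¬ Ker χ a b hab → Ker χ l m hlm)
    (htri : ∀ χ, Occurs (torRep ρ) (torId F n) χ → ∀ (a b l : Fin n) (hab : a ≠ b) (hbl : b ≠ l)
      (hal : a ≠ l), ¬ Ker χ a b hab → ¬ Ker χ b l hbl → Ker χ a l hal) :
    ∀ v ∈ Z ρ n, IsB ρ v := by
  refine fun v hv => ⟨hv, fun d => tor_fix_of_ker ρ hn (fun χ hocc p r hpr => ?_) d hv⟩
  by_contra hk
  -- the special position
  obtain ⟨s, hs1, hs2⟩ : ∃ s : Fin n, (∀ a b (hab : a ≠ b), a ≠ s → b ≠ s → Ker χ a b hab) ∧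
      ∀ b (hb : s ≠ b), ¬ Ker χ s b hb := by
    by_cases hA : ∃ (l : Fin n) (hpl : p ≠ l), l ≠ r ∧ ¬ Ker χ p l hpl
    · obtain ⟨l, hpl, hlr, hkl⟩ := hA
      have hrl : Ker χ r l (Ne.symm hlr) :=
        htri χ hocc r p l hpr.symm hpl (Ne.symm hlr) (fun h => hk (ker_symm h)) hkl
      have hb : ∀ b (hb : r ≠ b), b ≠ p → Ker χ r b hb := by
        intro b hb hbp
        by_cases hbl : b = l
        · subst hbl; exact hrl
        · exact ker_trans hb hrl (hdisj χ hocc p r l b hpr (Ne.symm hbl) hpl (Ne.symm hbp)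
            (Ne.symm hlr) hb hk)
      refine ⟨p, fun a b hab ha hb' => ?_, fun b hb' h => ?_⟩
      · by_cases har : a = r
        · subst har; exact hb b hab hb'
        by_cases hbr : b = r
        · subst hbr; exact ker_symm (hb a hab.symm ha)
        exact hdisj χ hocc p r a b hpr hab (Ne.symm ha) (Ne.symm hb') (Ne.symm har) (Ne.symm hbr) hk
      · by_cases hbr : b = r
        · subst hbr; exact hk h
        · exact hk (ker_trans hpr h (ker_symm (hb b (Ne.symm hbr) (Ne.symm hb'))))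
    · push Not at hA
      refine ⟨r, fun a b hab ha hb => ?_, fun b hb h => ?_⟩
      · by_cases hap : a = p
        · subst hap; exact hA b hab hb
        by_cases hbp : b = p
        · subst hbp; exact ker_symm (hA a hab.symm ha)
        exact hdisj χ hocc p r a b hpr hab (Ne.symm hap) (Ne.symm hbp) (Ne.symm ha) (Ne.symm hb) hk
      · by_cases hbp : b = p
        · subst hbp; exact hk (ker_symm h)
        · exact hk (ker_trans hpr (hA b (Ne.symm hbp) (Ne.symm hb)) (ker_symm h))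
  have hiff : ∀ (l x y : Fin n) (hxy : x ≠ y) (x' y' : Fin n) (hxy' : x' ≠ y'),
      Equiv.swap s l x = x' → Equiv.swap s l y = y' →
      (Ker (permChi (Equiv.swap s l) χ) x y hxy ↔ Ker χ x' y' hxy') := by
    intro l x y hxy x' y' hxy' hx hy
    refine forall_congr' fun u => ?_
    rw [permChi_apply, toMul_ofMul, permT_hT]
    simp only [Equiv.symm_swap, hx, hy]
  have hinj : Function.Injective fun l : Fin n => permChi (Equiv.swap s l) χ := by
    intro l l' heq
    by_contra hne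
    obtain ⟨m, -, hm⟩ := Finset.exists_mem_notMem_of_card_lt_card
      (s := ({l, l'} : Finset (Fin n))) (t := Finset.univ)
      (lt_of_le_of_lt Finset.card_le_two (by simp; omega))
    simp at hm
    have hlm : l ≠ m := Ne.symm hm.1
    have e1 : ¬ Ker (permChi (Equiv.swap s l) χ) l m hlm := fun h => hs2 (Equiv.swap s l m)
      (fun e => hlm ((Equiv.swap s l).injective ((Equiv.swap_apply_right s l).trans e)))
      ((hiff l l m hlm s _ _ (Equiv.swap_apply_right _ _) rfl).1 h)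
    have himg : ∀ x, x ≠ l' → Equiv.swap s l' x ≠ s := fun x hx e =>
      hx ((Equiv.swap s l').injective (e.trans (Equiv.swap_apply_right s l').symm))
    refine e1 ?_
    simp only at heq
    rw [heq]
    exact (hiff l' l m hlm _ _ ((Equiv.swap s l').injective.ne hlm) rfl rfl).2
      (hs1 _ _ _ (himg l hne) (himg m hm.2))
  have hle := card_le_finrank (torRep ρ) (torId F n)
    (Set.range fun l => permChi (Equiv.swap s l) χ)
    (by rintro _ ⟨l, rfl⟩; exact occurs_swap' ρ hocc)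
  rw [Nat.card_range_of_injective hinj, Nat.card_eq_fintype_card, Fintype.card_fin] at hle
  omega

end Cfsg.Agent.Lib.OrthDeg48
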