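import Cfsg.Agent.Lib.OrthDeg48.Turn
import Cfsg.Agent.Lib.OrthDeg48.SLSmall

/-!
Turning a vector fixed by the maximal unipotent subgroup.
-/

set_option autoImplicit false
set_option linter.unusedSectionVars false

namespace Cfsg.Agent.Lib.OrthDeg48

open Matrix Module QuadraticMap Cfsg.Agent.Lib.Forms Cfsg.Agent.Lib.OrthOmega Cfsg.Agent.Lib.SLDeg48
  Cfsg.Agent.Lib.UniDeg48 Cfsg.Agent.Lib.MinDegree

variable {F : Type*} [Field F] [Fintype F] {r : ℕ} {κ : Type*} [Fintype κ]
  {R : QuadraticForm F (κ → F)} (hR : Nondeg R) (hr : 3 ≤ r)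
variable {M : Type*} [AddCommGroup M] [Module ℂ M] [FiniteDimensional ℂ M]
variable (ρ : Representation ℂ (EG (qS r R)) M) {ψ : AddChar F ℂ}

include hR hr in
/-- The element of the generated group. -/
theorem twE_mem {i j : Fin r} (hij : i ≠ j) : twO R hij ∈ EG (qS r R) := twO_mem hR hr hij

/-- The Weyl element inside the generated group. -/
noncomputable abbrev twE {i j : Fin r} (hij : i ≠ j) : EG (qS r R) :=
  ⟨twO R hij, twO_mem hR hr hij⟩

theorem pairA_single_altE (A : altM F r) (i j : Fin r) :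
    pairA (altE (Pi.single i (1 : F)) (Pi.single j 1)) A = A.1 i j := by
  rw [pairA_comm, pairA_altE, single_dotProduct, one_mul, mulVec_single_one]
  rfl

variable (hψ : ψ.IsPrimitive)

include hψ in
/-- The turned vector is fixed by the centre, unless it has a component in a marked eigenspace. -/
theorem turn_mem {i j : Fin r} (hij : i ≠ j) (hi : i.val + 2 = r) (hj : j.val + 1 = r) {v : M}
    (hv : v ∈ (modelSiegel R hR (show 2 ≤ r by omega)).D ρ ψ 0)
    (hU : ∀ (a b : Fin r) (hab : a ≠ b), a.val < b.val → ∀ t,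
      ρ ((modelSiegel R hR (show 2 ≤ r by omega)).L (SpecialLinearGroup.transvection hab t)) v = v)
    (Y : Submodule ℂ M)
    (hY : ∀ x : F, ∀ z ∈ Y, ρ ((modelSiegel R hR (show 2 ≤ r by omega)).Zh
      (x • altE (Pi.single i 1) (Pi.single j 1))) z ∈ Y)
    (hwY : ρ (twE hR hr hij) v ∈ Y)
    (hno : ∀ c : F, c ≠ 0 → ∀ z ∈ Y, z ∈ (modelSiegel R hR (show 2 ≤ r by omega)).D ρ ψ
      (c • altE (Pi.single i 1) (Pi.single j 1)) → z = 0) :
    ρ (twE hR hr hij) v ∈ (modelSiegel R hR (show 2 ≤ r by omega)).D ρ ψ 0 := by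
  classical
  set S := modelSiegel R hR (show 2 ≤ r by omega) with hS
  set δ := altE (Pi.single i (1 : F)) (Pi.single j 1) with hδ
  set w := ρ (twE hR hr hij) v with hw
  have hvZ := (S.mem_D_zero ρ ψ).1 hv
  have step : ∀ (A : altM F r) (g : EG (qS r R)),
      S.Zh A * twE hR hr hij = twE hR hr hij * g → ρ g v = v → ρ (S.Zh A) w = w := by
    intro A g h hg
    rw [hw, ← Module.End.mul_apply, ← map_mul, h, map_mul, Module.End.mul_apply, hg]
  have hgen : ∀ a b : Fin r, a.val < b.val → ¬ (a = i ∧ b = j) → ∀ c : F,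
      ρ (S.Zh (c • altE (Pi.single a 1) (Pi.single b 1))) w = w := by
    intro a b hab hne c
    have hab' : a ≠ b := fun e => by rw [e] at hab; exact lt_irrefl _ hab
    have hb := b.isLt
    have hai : a ≠ i := fun e => by
      subst e
      exact hne ⟨rfl, Fin.ext (by omega)⟩
    have hai' : a.val < i.val := by
      have : a.val ≠ i.val := fun e => hai (Fin.ext e)
      omega
    have haj : a ≠ j := fun e => by rw [e] at hai'; omega
    by_cases hbj : b = j
    · subst hbj
      exact step _ (S.L (SpecialLinearGroup.transvection hai c))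
        (Subtype.ext (twO_zh_right hij hai haj c)) (hU a i hai hai' c)
    by_cases hbi : b = i
    · subst hbi
      exact step _ (S.L (SpecialLinearGroup.transvection haj (-c)))
        (Subtype.ext (twO_zh_left hij hai haj c)) (hU a j haj (by omega) (-c))
    exact step _ (S.Zh (c • altE (Pi.single a 1) (Pi.single b 1)))
      (Subtype.ext (twO_zh_low hij hab' hai haj hbi hbj c)) (hvZ _)
  let T : AddSubgroup (altM F r) :=
    { carrier := {B | ρ (S.Zh B) w = w}
      zero_mem' := by
        show ρ (S.Zh 0) w = w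
        rw [Siegel.Zh_zero, map_one, Module.End.one_apply]
      add_mem' := fun {x y} hx hy => by
        show ρ (S.Zh (x + y)) w = w
        rw [S.Zh_add, map_mul, Module.End.mul_apply, hy, hx]
      neg_mem' := fun {x} hx => by
        show ρ (S.Zh (-x)) w = w
        refine Siegel.ρ_inj ρ (S.Zh x) ?_
        rw [← Module.End.mul_apply, ← map_mul, ← S.Zh_add, add_neg_cancel, Siegel.Zh_zero, map_one,
          Module.End.one_apply]
        exact hx.symm }
  have hrest : ∀ A : altM F r, A.1 i j = 0 → A ∈ T := by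
    intro A hA
    have hA' : A = ∑ a, ∑ b, (if a < b then A.1 a b else 0) •
        altE (Pi.single a (1 : F)) (Pi.single b 1) := by
      apply Subtype.ext
      ext x y
      simp only [Submodule.coe_sum, Submodule.coe_smul, Matrix.sum_apply, Matrix.smul_apply,
        altE_coe, alt2_apply, Pi.single_apply, smul_eq_mul]
      simp only [mul_sub, Finset.sum_sub_distrib, mul_ite, mul_one, mul_zero, Finset.sum_ite_eq,
        Finset.sum_ite_irrel, Finset.sum_const_zero, Finset.mem_univ, if_true]
      rcases lt_trichotomy x y with h | h | h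
      · simp [h, h.not_gt]
      · subst h; simp [A.2.1]
      · simp [h, h.not_gt, A.2.2 y x]
    rw [hA']
    refine sum_mem fun a _ => sum_mem fun b _ => ?_
    split_ifs with hab
    · by_cases he : a = i ∧ b = j
      · rw [he.1, he.2, hA, zero_smul]; exact zero_mem T
      · exact hgen a b hab he _
    · rw [zero_smul]; exact zero_mem T
  -- the part fixed by all other root subgroups of the centre
  let Y' : Submodule ℂ M :=
    { carrier := {z | z ∈ Y ∧ ∀ A : altM F r, A.1 i j = 0 → ρ (S.Zh A) z = z}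
      add_mem' := fun {x y} hx hy => ⟨add_mem hx.1 hy.1, fun A hA => by
        rw [map_add, hx.2 A hA, hy.2 A hA]⟩
      zero_mem' := ⟨zero_mem Y, fun A _ => map_zero _⟩
      smul_mem' := fun c x hx => ⟨Y.smul_mem c hx.1, fun A hA => by rw [map_smul, hx.2 A hA]⟩ }
  have hinv : ∀ x : F, ∀ z ∈ Y', ρ (S.Zh (x • δ)) z ∈ Y' := fun x z hz => ⟨hY x z hz.1, fun A hA => by
    rw [← Module.End.mul_apply, ← map_mul, ← S.Zh_add, add_comm, S.Zh_add, map_mul,
      Module.End.mul_apply, hz.2 A hA]⟩
  let σ : Representation ℂ (Multiplicative F) Y' :=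
    { toFun := fun x => (ρ (S.Zh (x.toAdd • δ))).restrict (hinv x.toAdd)
      map_one' := by
        apply LinearMap.ext; intro u; apply Subtype.ext
        show ρ (S.Zh ((0 : F) • δ)) u.1 = u.1
        rw [zero_smul, Siegel.Zh_zero, map_one, Module.End.one_apply]
      map_mul' := fun x y => by
        apply LinearMap.ext; intro u; apply Subtype.ext
        show ρ (S.Zh ((x.toAdd + y.toAdd) • δ)) u.1 = ρ (S.Zh (x.toAdd • δ)) (ρ (S.Zh (y.toAdd • δ)) u.1)
        rw [add_smul, S.Zh_add, map_mul, Module.End.mul_apply] }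
  have hδij : δ.1 i j = 1 := by simp [hδ, altE_coe, alt2_apply, hij, hij.symm]
  have hfixall : ∀ x : F, ρ (S.Zh (x • δ)) w = w := by
    intro x
    by_contra hcon
    have hne : σ (Multiplicative.ofAdd x) ≠ 1 := fun h => hcon
      (congrArg Subtype.val (LinearMap.congr_fun h ⟨w, hwY, fun A hA => hrest A hA⟩))
    obtain ⟨χ, hχ, z, hz0, hz⟩ := exists_occurs σ (MonoidHom.id _) hne
    obtain ⟨c, hc⟩ : ∃ c, ψ.mulShift c = χ := by
      refine ((Fintype.bijective_iff_injective_and_card (fun s : F => ψ.mulShift s)).2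
        ⟨AddChar.to_mulShift_inj_of_isPrimitive hψ, ?_⟩).2 χ
      exact AddChar.card_eq.symm
    have hc0 : c ≠ 0 := fun e => hχ (by rw [← hc, e, AddChar.mulShift_zero, AddChar.one_apply])
    refine hz0 (Subtype.ext (hno c hc0 z.1 z.2.1 ?_))
    rw [S.mem_D]
    intro A
    have hA : A = (A.1 i j) • δ + (A - (A.1 i j) • δ) := (add_sub_cancel _ _).symm
    have hz' := congrArg Subtype.val (hz (A.1 i j))
    change ρ (S.Zh ((A.1 i j) • δ)) z.1 = χ (A.1 i j) • z.1 at hz'
    conv_lhs => rw [hA, S.Zh_add, map_mul, Module.End.mul_apply,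
      z.2.2 (A - (A.1 i j) • δ) (by
        show A.1 i j - A.1 i j * δ.1 i j = 0
        rw [hδij, mul_one, sub_self]), hz']
    rw [pairA_comm, pairA_smul_right, pairA_comm, pairA_single_altE, ← hc, AddChar.mulShift_apply]
  rw [S.mem_D_zero]
  intro A
  have hA : A = (A.1 i j) • δ + (A - (A.1 i j) • δ) := (add_sub_cancel _ _).symm
  rw [hA, S.Zh_add, map_mul, Module.End.mul_apply,
    hrest (A - (A.1 i j) • δ) (by
      show A.1 i j - A.1 i j * δ.1 i j = 0
      rw [hδij, mul_one, sub_self]), hfixall]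

end Cfsg.Agent.Lib.OrthDeg48
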