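import Cfsg.Agent.Lib.OrthDeg48.Block
import Cfsg.Agent.Lib.OrthDeg48.TurnRep

/-!
Common tools for representations whose fixed space of the centre is as small as possible.
-/

set_option autoImplicit false
set_option linter.unusedSectionVars false

namespace Cfsg.Agent.Lib.OrthDeg48

open Matrix Module QuadraticMap Cfsg.Agent.Lib.Forms Cfsg.Agent.Lib.OrthOmega Cfsg.Agent.Lib.SLDeg48
  Cfsg.Agent.Lib.UniDeg48 Cfsg.Agent.Lib.MinDegree

variable {F : Type*} [Field F] {r : ℕ}

theorem hT_mul {i j : Fin r} (h : i ≠ j) (a b : Fˣ) :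
    hT i j h (a * b) = hT i j h a * hT i j h b := by
  apply Subtype.ext
  funext x
  show _ = (hT i j h a).1 x * (hT i j h b).1 x
  rw [hT_apply, hT_apply, hT_apply]
  split_ifs <;> simp [mul_comm]

theorem hT_one {i j : Fin r} (h : i ≠ j) : hT i j h (1 : Fˣ) = 1 := by
  apply Subtype.ext
  funext x
  rw [hT_apply]
  split_ifs <;> simp

theorem ker_of_generator {χ : AddChar (Additive (tor F r)) ℂ} {i j : Fin r} (h : i ≠ j) {u : Fˣ}
    (hu : ∀ x : Fˣ, x ∈ Subgroup.zpowers u) (h1 : χ (Additive.ofMul (hT i j h u)) = 1) :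
    Ker χ i j h := by
  let φ : Fˣ →* ℂ :=
    { toFun := fun a => χ (Additive.ofMul (hT i j h a))
      map_one' := by rw [hT_one, ofMul_one, AddChar.map_zero_eq_one]
      map_mul' := fun a b => by rw [hT_mul, chi_mul] }
  intro a
  obtain ⟨n, rfl⟩ := Subgroup.mem_zpowers_iff.1 (hu a)
  have hz : φ.toHomUnits u = 1 := Units.ext h1
  have := congrArg Units.val (map_zpow φ.toHomUnits u n)
  rw [hz, _root_.one_zpow] at this
  exact this

variable [Fintype F] {κ : Type*} [Fintype κ] {R : QuadraticForm F (κ → F)}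

theorem congA_diag_block {i j a b : Fin r} (hij : i ≠ j) (hab : a ≠ b) (h : BlockPair i j a b)
    (u : Fˣ) :
    congA (diagE F r (hT a b hab u)).1 (altE (Pi.single i 1) (Pi.single j 1)) =
      altE (Pi.single i (1 : F)) (Pi.single j 1) := by
  have hd : ∀ x : Fin r, (diagE F r (hT a b hab u)).1 *ᵥ Pi.single x 1 =
      ((hT a b hab u).1 x : F) • (Pi.single x 1 : Fin r → F) := by
    intro x
    funext y
    rw [diagE_coe, mulVec_diagonal]
    by_cases hy : y = x
    · subst hy; simp
    · simp [hy]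
  rw [congA_altE, hd, hd, altE_smul_left, altE_smul_right, smul_smul, hT_apply, hT_apply]
  rcases h with ⟨h1, h2, h3, h4⟩ | ⟨rfl, rfl⟩ | ⟨rfl, rfl⟩
  · simp [Ne.symm h1, Ne.symm h2, Ne.symm h3, Ne.symm h4]
  · simp [hij]
  · simp [hij.symm]

theorem twO_diag {i j a b : Fin r} (hij : i ≠ j) (hab : a ≠ b) (h : BlockPair i j a b) (u : Fˣ) :
    Commute (twO R hij) (levHom R (diagE F r (hT a b hab u))) := by
  have h1 : ∀ {p q : Fin r} (hpq : p ≠ q), BlockPair i j p q → ∀ c : F,
      Commute (twO R hij) (levHom R (SpecialLinearGroup.transvection hpq c)) :=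
    fun hpq hb c => twO_transvection hij hpq hb c
  rw [diagE_hT_eq, AutPSL.diag2n_eq_prod_transvection hab _ u.ne_zero]
  simp only [map_mul]
  exact (((((h1 hab h _).mul_right (h1 hab.symm h.symm _)).mul_right (h1 hab h _)).mul_right
    (h1 hab h _)).mul_right (h1 hab.symm h.symm _)).mul_right (h1 hab h _)

variable (hR : Nondeg R) (hr : 3 ≤ r)
variable {M : Type*} [AddCommGroup M] [Module ℂ M] [FiniteDimensional ℂ M]
variable (ρ : Representation ℂ (EG (qS r R)) M) {ψ : AddChar F ℂ}

include hR hr in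
/-- An eigenvector of a block torus is turned into the fixed space of the centre unless the
eigenvalue occurs on a marked eigenspace. -/
theorem turn_eigen (hψ : ψ.IsPrimitive) {i j : Fin r} (hij : i ≠ j) (hi : i.val + 2 = r)
    (hj : j.val + 1 = r) {v : M}
    (hv : v ∈ (modelSiegel R hR (show 2 ≤ r by omega)).D ρ ψ 0)
    (hU : ∀ (a b : Fin r) (hab : a ≠ b), a.val < b.val → ∀ t,
      ρ ((modelSiegel R hR (show 2 ≤ r by omega)).L (SpecialLinearGroup.transvection hab t)) v = v)
    {a b : Fin r} (hab : a ≠ b) (hblk : BlockPair i j a b) (u : Fˣ) {e : ℂ}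
    (he : ρ ((modelSiegel R hR (show 2 ≤ r by omega)).L (diagE F r (hT a b hab u))) v = e • v)
    (hno : ∀ c : F, c ≠ 0 → ∀ z ∈ (modelSiegel R hR (show 2 ≤ r by omega)).D ρ ψ
        (c • altE (Pi.single i 1) (Pi.single j 1)),
      ρ ((modelSiegel R hR (show 2 ≤ r by omega)).L (diagE F r (hT a b hab u))) z = e • z →
      (∀ t, ρ ((modelSiegel R hR (show 2 ≤ r by omega)).L
        (SpecialLinearGroup.transvection hij t)) z = z) → z = 0) :
    ρ (twE hR hr hij) v ∈ (modelSiegel R hR (show 2 ≤ r by omega)).D ρ ψ 0 := by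
  set S := modelSiegel R hR (show 2 ≤ r by omega) with hS
  let Y : Submodule ℂ M :=
    { carrier := {z | ρ (S.L (diagE F r (hT a b hab u))) z = e • z ∧
        ∀ t, ρ (S.L (SpecialLinearGroup.transvection hij t)) z = z}
      add_mem' := fun {x y} hx hy => ⟨by rw [map_add, hx.1, hy.1, smul_add],
        fun t => by rw [map_add, hx.2, hy.2]⟩
      zero_mem' := ⟨by rw [map_zero, smul_zero], fun t => map_zero _⟩
      smul_mem' := fun c x hx => ⟨by rw [map_smul, hx.1, smul_comm],
        fun t => by rw [map_smul, hx.2]⟩ }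
  have hδ : ∀ t, congA (SpecialLinearGroup.transvection hij t).1
      (altE (Pi.single i (1 : F)) (Pi.single j 1)) = altE (Pi.single i 1) (Pi.single j 1) :=
    fun t => congA_transvection hij hij (Or.inr (Or.inl ⟨rfl, rfl⟩)) t
  refine turn_mem hR hr ρ hψ hij hi hj hv hU Y (fun x z hz => ⟨?_, fun t => ?_⟩) ⟨?_, fun t => ?_⟩
    fun c hc z hz hzD => hno c hc z hzD hz.1 hz.2
  · rw [← Module.End.mul_apply, ← map_mul, S.L_Zh, congA_smul, congA_diag_block hij hab hblk,
      map_mul, Module.End.mul_apply, hz.1, map_smul]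
  · rw [← Module.End.mul_apply, ← map_mul, S.L_Zh, congA_smul, hδ, map_mul, Module.End.mul_apply,
      hz.2]
  · have e1 : S.L (diagE F r (hT a b hab u)) * twE hR hr hij =
        twE hR hr hij * S.L (diagE F r (hT a b hab u)) :=
      Subtype.ext (twO_diag hij hab hblk u).eq.symm
    rw [← Module.End.mul_apply, ← map_mul, e1, map_mul, Module.End.mul_apply, he, map_smul]
  · have e1 : S.L (SpecialLinearGroup.transvection hij t) * twE hR hr hij =
        twE hR hr hij * S.L (SpecialLinearGroup.transvection hij t) :=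
      Subtype.ext (twO_transvection hij hij (Or.inr (Or.inl ⟨rfl, rfl⟩)) t).symm
    rw [← Module.End.mul_apply, ← map_mul, e1, map_mul, Module.End.mul_apply,
      hU i j hij (by omega) t]

include hR hr in
/-- A block torus away from the marked pair has no eigenvalue other than one there. -/
theorem eigen_away (hψ : ψ.IsPrimitive)
    (hone : ∀ β : altM F r, β ≠ 0 → Dec β →
      finrank ℂ ((modelSiegel R hR (show 2 ≤ r by omega)).D ρ ψ β) =
        Fintype.card F ^ Fintype.card κ)
    {i j a b : Fin r} (hij : i ≠ j) (hab : a ≠ b) (hai : a ≠ i) (haj : a ≠ j) (hbi : b ≠ i)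
    (hbj : b ≠ j) (u : Fˣ) {s : Fˣ} (hs : (s : F) ^ 2 ≠ 1) {e : ℂ} (he : e ≠ 1) {c : F}
    (hc : c ≠ 0) {z : M}
    (hz : z ∈ (modelSiegel R hR (show 2 ≤ r by omega)).D ρ ψ
      (c • altE (Pi.single i 1) (Pi.single j 1)))
    (hze : ρ ((modelSiegel R hR (show 2 ≤ r by omega)).L (diagE F r (hT a b hab u))) z = e • z) :
    z = 0 := by
  set S := modelSiegel R hR (show 2 ≤ r by omega) with hS
  have h1 : ∀ t, ρ (S.L (SpecialLinearGroup.transvection hab t)) z = z := fun t =>
    S.fix_away ρ hψ hone hij hab hai haj hbi hbj hc hs t z hz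
  have h2 : ∀ t, ρ (S.L (SpecialLinearGroup.transvection hab.symm t)) z = z := fun t =>
    S.fix_away ρ hψ hone hij hab.symm hbi hbj hai haj hc hs t z hz
  rw [diagE_hT_eq, AutPSL.diag2n_eq_prod_transvection hab _ u.ne_zero] at hze
  simp only [map_mul, Module.End.mul_apply, h1, h2] at hze
  have h3 : (1 - e) • z = 0 := by rw [sub_smul, one_smul, ← hze, sub_self]
  exact (smul_eq_zero.1 h3).resolve_left (sub_ne_zero.2 (Ne.symm he))

end Cfsg.Agent.Lib.OrthDeg48
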