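import Cfsg.Agent.Lib.OrthDeg48.OddBlock
import Cfsg.Agent.Lib.OrthDeg48.SmallCommon
import Cfsg.Agent.Lib.OrthDeg48.NoFixed

/-!
Odd dimensional forms: the fixed space of the centre exceeds the bound of `SL_r`.
-/

set_option autoImplicit false
set_option linter.unusedSectionVars false

namespace Cfsg.Agent.Lib.OrthDeg48

open Matrix Module QuadraticMap Cfsg.Agent.Lib.Forms Cfsg.Agent.Lib.OrthOmega Cfsg.Agent.Lib.SLDeg48
  Cfsg.Agent.Lib.UniDeg48 Cfsg.Agent.Lib.MinDegree

variable {F : Type*} [Field F] [Fintype F] {r : ℕ} {κ : Type*} [Fintype κ] [Unique κ]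
  {R : QuadraticForm F (κ → F)}
variable {M : Type*} [AddCommGroup M] [Module ℂ M] [FiniteDimensional ℂ M]

variable {W : Type*} [AddCommGroup W] [Module ℂ W] [FiniteDimensional ℂ W]

/-- The torus argument. -/
theorem torus_contra (σ : Representation ℂ (SL' r F) W) (hr : 3 ≤ r)
    (hfix : ∀ z : W, (∀ g, σ g z = z) → z = 0) (hne : Z σ r ≠ ⊥)
    (hc : finrank ℂ (Z σ r) + 1 ≤ r) {i j : Fin r} (hij : i ≠ j) (hi : i.val + 2 = r)
    (hj : j.val + 1 = r) {u : Fˣ} (hu : ∀ x : Fˣ, x ∈ Subgroup.zpowers u)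
    (eig_lower : ∀ v : W, v ∈ Z σ r → ∀ {e : ℂ}, e ≠ -1 →
      σ (diagE F r (hT i j hij u)) v = e • v →
      ∀ t, σ (SpecialLinearGroup.transvection hij.symm t) v = v)
    (away_lower : ∀ v : W, v ∈ Z σ r → ∀ {a b : Fin r} (hab : a ≠ b), a ≠ i → a ≠ j →
      b ≠ i → b ≠ j → ∀ (w : Fˣ) {e : ℂ}, e ≠ 1 → σ (diagE F r (hT a b hab w)) v = e • v →
      ∀ t, σ (SpecialLinearGroup.transvection hij.symm t) v = v) : False := by
  classical
  have hup : ∀ v : W, v ∈ Z σ r → ∀ t, σ (SpecialLinearGroup.transvection hij t) v = v :=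
    fun v hv t => (mem_Z σ).1 hv _ (low_transvection hij (Fin.lt_def.2 (by omega)) t)
  have eigW : ∀ {χ : AddChar (Additive (tor F r)) ℂ} {v : Z σ r},
      (∀ a, torRep σ (torId F r (Multiplicative.ofAdd a)) v = χ a • v) → ∀ d : tor F r,
      σ (diagE F r d) v.1 = χ (Additive.ofMul d) • v.1 := fun {χ v} hv d =>
    congrArg Subtype.val (hv (Additive.ofMul d))
  have ker_of_lower : ∀ {χ : AddChar (Additive (tor F r)) ℂ} {v : Z σ r}, v ≠ 0 →
      (∀ a, torRep σ (torId F r (Multiplicative.ofAdd a)) v = χ a • v) →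
      (∀ t, σ (SpecialLinearGroup.transvection hij.symm t) v.1 = v.1) → Ker χ i j hij := by
    intro χ v hv0 hv hlo a
    have h1 := eigW hv (hT i j hij a)
    rw [diagE_hT_eq, AutPSL.diag2n_eq_prod_transvection hij _ a.ne_zero] at h1
    simp only [map_mul, Module.End.mul_apply, hlo, hup v.1 v.2] at h1
    exact smul_left_injective ℂ (fun e => hv0 (Subtype.ext e))
      (h1.symm.trans (one_smul ℂ _).symm)
  have hlast : ∀ χ, Occurs (torRep σ) (torId F r) χ →
      Ker χ i j hij ∨ χ (Additive.ofMul (hT i j hij u)) = -1 := by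
    rintro χ ⟨v, hv0, hv⟩
    by_cases he : χ (Additive.ofMul (hT i j hij u)) = -1
    · exact Or.inr he
    · exact Or.inl (ker_of_lower hv0 hv (eig_lower v.1 v.2 he (eigW hv _)))
  have hall : ∀ χ, Occurs (torRep σ) (torId F r) χ → ∀ (a b : Fin r) (hab : a ≠ b),
      Ker χ a b hab ∨ χ (Additive.ofMul (hT a b hab u)) = -1 := by
    intro χ hocc a b hab
    set σ₁ : Equiv.Perm (Fin r) := Equiv.swap i a
    set σ₂ : Equiv.Perm (Fin r) := Equiv.swap (σ₁ j) b
    have h1 : σ₁ i = a := Equiv.swap_apply_left _ _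
    have h2 : σ₂ a = a := Equiv.swap_apply_of_ne_of_ne
      (fun e => hij (σ₁.injective (h1.trans e))) hab
    have h3' : σ₂ (σ₁ j) = b := Equiv.swap_apply_left _ _
    have s1 : σ₁.symm = σ₁ := Equiv.symm_swap _ _
    have s2 : σ₂.symm = σ₂ := Equiv.symm_swap _ _
    have hocc' : Occurs (torRep σ) (torId F r) (permChi (σ₁ * σ₂) χ) := by
      rw [permChi_mul]
      exact occurs_swap' σ (occurs_swap' σ hocc)
    have e : ∀ w : Fˣ, permChi (σ₁ * σ₂) χ (Additive.ofMul (hT i j hij w)) =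
        χ (Additive.ofMul (hT a b hab w)) := fun w => by
      rw [permChi_apply, toMul_ofMul, permT_comp, permT_hT, permT_hT]
      simp only [s1, s2, h1, h2, h3']
    rcases hlast _ hocc' with h | h
    · exact Or.inl fun w => by rw [← e]; exact h w
    · exact Or.inr (by rw [← e]; exact h)
  have hdisj' : ∀ χ, Occurs (torRep σ) (torId F r) χ → ∀ (a b : Fin r) (hab : a ≠ b), a ≠ i →
      a ≠ j → b ≠ i → b ≠ j → ¬ Ker χ a b hab → Ker χ i j hij := by
    rintro χ ⟨v, hv0, hv⟩ a b hab hai haj hbi hbj hk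
    obtain ⟨w, hw⟩ := not_forall.1 hk
    exact ker_of_lower hv0 hv (away_lower v.1 v.2 hab hai haj hbi hbj w hw (eigW hv _))
  have hIsB := tor_trivial σ hr hc
    (fun χ hocc a b l m hab hlm h1 h2 h3 h4 hk =>
      disj_of_last σ hij hdisj' hocc a b l m hab hlm h1 h2 h3 h4 hk)
    (fun χ hocc a b l hab hbl hal h1 h2 => by
      refine ker_of_generator hal hu ?_
      rw [← hT_trans hab hbl hal, chi_mul, (hall χ hocc a b hab).resolve_left h1,
        (hall χ hocc b l hbl).resolve_left h2]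
      norm_num)
  exact last_contra σ hr hfix hne hij hi hj fun v hv => eig_lower v hv (e := 1) (by norm_num)
    (by rw [one_smul, (hIsB v hv).2])


set_option maxHeartbeats 1000000 in
/-- The fixed space of the centre exceeds the bound. -/
theorem odd_small_false (hR : Nondeg R) (hr : 3 ≤ r) (hA : R.Anisotropic)
    (hodd : Odd (Fintype.card F)) (h3 : 3 < Fintype.card F)
    (ρ : Representation ℂ (EG (qS r R)) M) {ψ : AddChar F ℂ} (hψ : ψ.IsPrimitive)
    (hone : ∀ β : altM F r, β ≠ 0 → Dec β →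
      finrank ℂ ((modelSiegel R hR (show 2 ≤ r by omega)).D ρ ψ β) =
        Fintype.card F ^ Fintype.card κ)
    (hfix : ∀ z : (modelSiegel R hR (show 2 ≤ r by omega)).D ρ ψ 0, (∀ g, (modelSiegel R hR (show 2 ≤ r by omega)).levRep ρ ψ g z = z) → z = 0)
    (hlow : ∑ i ∈ Finset.range (r - 1), Fintype.card F ^ (i + 1) ≤
      finrank ℂ ((modelSiegel R hR (show 2 ≤ r by omega)).D ρ ψ 0))
    (hhigh : finrank ℂ ((modelSiegel R hR (show 2 ≤ r by omega)).D ρ ψ 0) ≤
      ∑ i ∈ Finset.range (r - 1), Fintype.card F ^ (i + 1)) : False := by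
  classical
  set S := modelSiegel R hR (show 2 ≤ r by omega) with hS
  set σ := S.levRep ρ ψ with hσ
  set i : Fin r := ⟨r - 2, by omega⟩ with hidef
  set j : Fin r := ⟨r - 1, by omega⟩ with hjdef
  have hij : i ≠ j := fun e => by simp [hidef, hjdef, Fin.ext_iff] at e; omega
  have hi : i.val + 2 = r := by simp [hidef]; omega
  have hj : j.val + 1 = r := by simp [hjdef]; omega
  have hsum := sum_mul_pred (Fintype.card F) (r - 1) (by omega)
  rw [show r - 1 + 1 = r by omega] at hsum
  have hsmall : finrank ℂ (S.D ρ ψ 0) + 1 < Fintype.card F ^ r := by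
    have := Nat.le_mul_of_pos_right (∑ i ∈ Finset.range (r - 1), Fintype.card F ^ (i + 1))
      (show 0 < Fintype.card F - 1 by omega)
    omega
  have hqv := S.qv_trivial_on_zero ρ (show 2 ≤ r by omega) hψ hsmall
  have hbig : Fintype.card F ^ (r - 1) ≤ finrank ℂ (S.D ρ ψ 0) := by
    refine le_trans ?_ hlow
    have := Finset.single_le_sum (s := Finset.range (r - 1))
      (f := fun i => Fintype.card F ^ (i + 1)) (fun _ _ => Nat.zero_le _)
      (Finset.mem_range.2 (show r - 2 < r - 1 by omega))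
    simp only [show r - 2 + 1 = r - 1 by omega] at this
    exact this
  have hpos : 0 < finrank ℂ (S.D ρ ψ 0) := lt_of_lt_of_le (Nat.pow_pos (by omega)) hbig
  obtain ⟨hle1, hne, hc⟩ := small_facts σ hψ hr (by omega) hfix hpos hhigh hbig
  have hup : ∀ v : S.D ρ ψ 0, v ∈ Z σ r → ∀ (a b : Fin r) (hab : a ≠ b), a.val < b.val → ∀ t,
      ρ (S.L (SpecialLinearGroup.transvection hab t)) v.1 = v.1 := fun v hv a b hab hlt t =>
    congrArg Subtype.val ((mem_Z σ).1 hv _ (low_transvection hab (Fin.lt_def.2 hlt) t))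
  -- a turned vector gives a lower fixed vector
  have lower : ∀ v : S.D ρ ψ 0, ρ (twE hR hr hij) v.1 ∈ S.D ρ ψ 0 →
      ∀ t, σ (SpecialLinearGroup.transvection hij.symm t) v = v := by
    intro v htv t
    set n0 : κ → F := fun _ => 1 with hn0
    have hn00 : n0 ≠ 0 := fun e => one_ne_zero (congrFun e default)
    obtain ⟨m0, hm0⟩ : ∃ m, polar R n0 m ≠ 0 := by
      by_contra hcon
      push Not at hcon
      exact hn00 (hR n0 hcon)
    have hE : SPair (qS r R) ((0, Pi.single i 1, 0) : V3 F r κ) (0, 0, n0) :=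
      ⟨by simp [qS_apply], by simp [qS_polar, polar_zero_left]⟩
    set m : κ → F := (t / polar R n0 m0) • m0 with hm
    have hpm : polar R n0 m = t := by
      rw [hm, polar_smul_right, smul_eq_mul, div_mul_cancel₀ _ hm0]
    have hp1 : SPair (qS r R) ((Pi.single j 1, 0, 0) : V3 F r κ) (0, 0, m) := qv_pair R _ m
    have hp2 : SPair (qS r R) ((Pi.single j 1, 0, 0) : V3 F r κ) (0, -Pi.single i t, 0) :=
      ⟨by simp [qS_apply], by simp [qS_polar, hij, hij.symm]⟩
    set g : EG (qS r R) := ⟨rho hE, rho_mem _⟩ with hg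
    have hgv : ρ g v.1 = v.1 := by
      refine Siegel.ρ_inj ρ (twE hR hr hij) ?_
      rw [← Module.End.mul_apply, ← map_mul,
        show twE hR hr hij * g = S.Qv (Pi.single j 1) n0 * twE hR hr hij from
          Subtype.ext (twO_opp hij n0 hE).symm, map_mul, Module.End.mul_apply, hqv _ _ _ htv]
    have hgv' : ρ g⁻¹ v.1 = v.1 := by
      refine Siegel.ρ_inj ρ g ?_
      rw [← Module.End.mul_apply, ← map_mul, mul_inv_cancel, map_one, Module.End.one_apply, hgv]
    have e1 : rho hE * qvO R (Pi.single j 1) m * (rho hE)⁻¹ = rho hp1 * rho hp2 := by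
      rw [qvO, rho_conj, rho_mul]
      refine rho_congr _ _ ?_ ?_
      · rw [rho_apply]
        simp [qS_polar, qS_apply, polar_zero_left, hij, hij.symm]
      · rw [rho_apply]
        simp [qS_polar, qS_apply, polar_zero_left, hpm]
        rw [← Pi.single_smul', smul_eq_mul, mul_one]
    have e2 : rho hp2 = levHom R (SpecialLinearGroup.transvection hij.symm t) := orth_ext fun X => by
      rw [rho_apply, levHom_transvection_apply]
      simp [qS_polar, qS_apply, polar_zero_left]
      refine Prod.ext ?_ (Prod.ext ?_ ?_)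
      all_goals
        funext p
        simp [Function.update_apply, Pi.single_apply]
        try grind
    have e3 : g * S.Qv (Pi.single j 1) m * g⁻¹ =
        S.Qv (Pi.single j 1) m * S.L (SpecialLinearGroup.transvection hij.symm t) :=
      Subtype.ext (e1.trans (by rw [e2]; rfl))
    have h := congrArg (fun x => ρ x v.1) e3
    simp only [map_mul, Module.End.mul_apply, hgv', hqv _ _ _ v.2, hgv] at h
    refine Subtype.ext (Siegel.ρ_inj ρ (S.Qv (Pi.single j 1) m) ?_)
    rw [hqv _ _ _ v.2]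
    exact h.symm
  obtain ⟨u, hu⟩ := IsCyclic.exists_generator (α := Fˣ)
  have hu2 : (u : F) ^ 2 ≠ 1 := by
    intro h
    have h' : orderOf u ≤ 2 := orderOf_le_of_pow_eq_one two_pos (Units.ext (by simpa using h))
    rw [orderOf_eq_card_of_forall_mem_zpowers hu, Nat.card_eq_fintype_card,
      Fintype.card_units] at h'
    rcases hodd with ⟨k, hk⟩
    omega
  have eig_lower : ∀ v : S.D ρ ψ 0, v ∈ Z σ r → ∀ {e : ℂ}, e ≠ -1 →
      ρ (S.L (diagE F r (hT i j hij u))) v.1 = e • v.1 →
      ∀ t, σ (SpecialLinearGroup.transvection hij.symm t) v = v := by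
    intro v hv e he hev
    refine lower v (turn_eigen hR hr ρ hψ hij hi hj v.2 (hup v hv) hij (Or.inr (Or.inl ⟨rfl, rfl⟩))
      u hev fun c hc z hz hze hzX => ?_)
    by_contra hz0
    exact he (S.odd_eigen ρ hψ hone (fun m => hA m) hodd h3 hij hc hu hz hz0 hzX hze)
  have away_lower : ∀ v : S.D ρ ψ 0, v ∈ Z σ r → ∀ {a b : Fin r} (hab : a ≠ b), a ≠ i → a ≠ j →
      b ≠ i → b ≠ j → ∀ (w : Fˣ) {e : ℂ}, e ≠ 1 →
      ρ (S.L (diagE F r (hT a b hab w))) v.1 = e • v.1 →
      ∀ t, σ (SpecialLinearGroup.transvection hij.symm t) v = v := by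
    intro v hv a b hab hai haj hbi hbj w e he hev
    exact lower v (turn_eigen hR hr ρ hψ hij hi hj v.2 (hup v hv) hab
      (Or.inl ⟨hai, haj, hbi, hbj⟩) w hev fun c hc z hz hze _ =>
        eigen_away hR hr ρ hψ hone hij hab hai haj hbi hbj w hu2 he hc hz hze)
  exact torus_contra σ hr hfix hne hc hij hi hj hu
    (fun v hv {e} he hev => eig_lower v hv he (congrArg Subtype.val hev))
    (fun v hv {a b} hab hai haj hbi hbj w {e} he hev =>
      away_lower v hv hab hai haj hbi hbj w he (congrArg Subtype.val hev))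

end Cfsg.Agent.Lib.OrthDeg48
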