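import Cfsg.Agent.Lib.OrthDeg48.Count
import Cfsg.Agent.Lib.OrthDeg48.Elements

/-!
Two families of translates of a matrix that is not decomposable.
-/

set_option autoImplicit false
set_option linter.unusedSectionVars false

namespace Cfsg.Agent.Lib.OrthDeg48

open Matrix Module QuadraticMap Cfsg.Agent.Lib.Forms Cfsg.Agent.Lib.OrthOmega Cfsg.Agent.Lib.SLDeg48
  Cfsg.Agent.Lib.UniDeg48

variable {F : Type*} [Field F] [Fintype F] {r : ℕ} {κ : Type*} [Fintype κ]

/-- The diagonal with two equal entries. -/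
def diag2 (a b : Fin r) (c : F) : Matrix (Fin r) (Fin r) F :=
  diagonal (Function.update (Function.update (1 : Fin r → F) a c) b c)

theorem diag2_cond (a b : Fin r) {c : F} (hc : c ≠ 0) :
    (diag2 a b c⁻¹)ᵀ * diag2 a b c = 1 := by
  rw [diag2, diag2, diagonal_transpose, diagonal_mul_diagonal, ← diagonal_one]
  congr 1
  funext x
  by_cases hb : x = b
  · subst hb; simp [hc]
  · by_cases ha : x = a
    · subst ha; simp [hb, hc]
    · simp [hb, ha]

variable {R : QuadraticForm F (κ → F)}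

theorem exists_tor_two (hR : Nondeg R) (hr : 3 ≤ r) {a b : Fin r} (hab : a ≠ b) {c : F}
    (hc : c ≠ 0) :
    ∃ τ ∈ EG (qS r R), HasShape τ (diag2 a b c) (diag2 a b c⁻¹) (fun z : κ → F => z) := by
  have h1 := orefl_mul_mem hR hr (a := inH a 1) (b := inH b 1) (by rw [qS_inH, qS_inH])
    (by rw [qS_inH]; exact one_ne_zero)
  have h2 := orefl_mul_mem hR hr (a := inH a c) (b := inH b c) (by rw [qS_inH, qS_inH])
    (by rw [qS_inH]; exact hc)
  refine ⟨_, mul_mem h1 h2, fun X => ?_⟩
  rw [orth_mul_apply, orth_mul_apply, orth_mul_apply]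
  show refl (qS r R) (inH a 1) (refl (qS r R) (inH b 1)
    (refl (qS r R) (inH a c) (refl (qS r R) (inH b c) X))) = _
  rw [refl_inH hc, refl_inH hc, refl_inH one_ne_zero, refl_inH one_ne_zero]
  refine Prod.ext ?_ (Prod.ext ?_ rfl)
  all_goals
    funext x
    simp only [diag2]
    rw [mulVec_diagonal]
    by_cases hb : x = b
    · subst hb; simp [hab.symm, hab]; try field_simp
    · by_cases ha : x = a
      · subst ha; simp [hb, hab]; try field_simp
      · simp [hb, ha]

variable {G : Type*} [Group G] (S : Siegel F r κ G)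
variable {M : Type*} [AddCommGroup M] [Module ℂ M] [FiniteDimensional ℂ M]
variable (ρ : Representation ℂ G M)

/-- The doubled bound for a non-decomposable matrix. -/
theorem bound_of_nondec_two (hr : 4 ≤ r) {ψ : AddChar F ℂ} (hψ : ψ.IsPrimitive) {c : F}
    (hc : c ^ 2 ≠ 1) (hscale : ∀ a b : Fin r, a ≠ b → ∀ β : altM F r,
      finrank ℂ (S.D ρ ψ β) ≤ finrank ℂ (S.D ρ ψ (congA (diag2 a b c) β)))
    (hc0 : c ≠ 0) {β : altM F r} (hβ : β ≠ 0) (hdec : ¬ Dec β) (hD : finrank ℂ (S.D ρ ψ β) ≠ 0) :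
    2 * ((Fintype.card F ^ (r - 1) - 1) * Fintype.card F ^ (r - 2)) ≤ finrank ℂ M := by
  classical
  set k : Fin r := ⟨0, by omega⟩ with hk
  set p : Fin r := ⟨1, by omega⟩ with hp
  have hkp : k ≠ p := fun e => by simp [hk, hp, Fin.ext_iff] at e
  obtain ⟨h1, -, hne⟩ := exists_row_ne (k := k) hβ (fun a ha => absurd ha (Nat.not_lt_zero _))
  have htail : ∀ γ : altM F r, γ.1 k ∈ tail F r 0 := fun γ j hj => by
    rw [show j = k from Fin.ext (Nat.le_zero.1 hj)]
    exact γ.2.1 k
  have he1 : (Pi.single p 1 : Fin r → F) ∈ tail F r 0 :=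
    single_mem_tail (show 0 < p.val by simp [hp]) 1
  obtain ⟨h2, hb2, hh2⟩ := blk_one_transitive (F := F) (show 3 ≤ r by omega) (htail _) hne he1
    (fun e => by simpa using congrFun e p)
  set β2 := congA h2.1 (congA h1.1 β) with hβ2
  have hrow2 : β2.1 k = Pi.single p 1 := by
    rw [hβ2, congA_row_blk hb2 _ (show k.val < 1 by simp [hk]), hh2]
  have hD2 : 0 < finrank ℂ (S.D ρ ψ β2) := by
    rw [hβ2, S.finrank_D_congA, S.finrank_D_congA]
    exact Nat.pos_of_ne_zero hD
  obtain ⟨a, b, hak, hap, hbk, hbp, hab⟩ : ∃ a b, a ≠ k ∧ a ≠ p ∧ b ≠ k ∧ b ≠ p ∧ β2.1 a b ≠ 0 := by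
    by_contra hcon
    push Not at hcon
    have hd2 : Dec β2 := by
      refine ⟨Pi.single k 1 - fun x => if x = k then 0 else β2.1 p x, Pi.single p 1, ?_⟩
      have hkr : ∀ x, β2.1 k x = if x = p then 1 else 0 := fun x => by
        rw [hrow2, Pi.single_apply]
      apply Subtype.ext
      ext x y
      simp only [altE_coe, alt2_apply, Pi.sub_apply, Pi.single_apply]
      by_cases hxk : x = k
      · subst hxk
        rw [hkr]
        simp [hkp, hkp.symm]
      by_cases hyk : y = k
      · subst hyk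
        rw [β2.2.2, hkr]
        simp [hkp, hkp.symm, hxk]
      by_cases hxp : x = p
      · subst hxp
        by_cases hyp : y = p
        · subst hyp; simp [β2.2.1]
        · simp [hyk, hyp, hkp.symm]
      by_cases hyp : y = p
      · subst hyp
        rw [β2.2.2]
        simp [hxk, hxp, hkp.symm]
      rw [hcon x y hxk hxp hyk hyp]
      simp [hxk, hyk, hxp, hyp]
    refine hdec ?_
    obtain ⟨u, v, huv⟩ := hd2
    have e : β = congA (h2 * h1)⁻¹.1 β2 := by
      have h3 : β2 = congA (h2 * h1).1 β := by rw [hβ2, ← congA_mul]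
      rw [h3, ← congA_mul, inv_mul_cancel]
      exact (congA_one β).symm
    exact ⟨_, _, e.trans (by rw [huv, congA_altE])⟩
  have habne : a ≠ b := fun e => hab (by rw [e]; exact β2.2.1 b)
  set β3 := congA (diag2 a b c) β2 with hβ3
  have hent : ∀ x y, β3.1 x y = Function.update (Function.update (1 : Fin r → F) a c) b c x *
      β2.1 x y * Function.update (Function.update (1 : Fin r → F) a c) b c y := fun x y => by
    show (diag2 a b c * β2.1 * (diag2 a b c)ᵀ) x y = _
    rw [diag2, diagonal_transpose, mul_diagonal, diagonal_mul]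
  have hrow3 : β3.1 k = Pi.single p 1 := by
    funext y
    rw [hent, hrow2]
    by_cases hy : y = p
    · subst hy; simp [Ne.symm hak, Ne.symm hbk, Ne.symm hap, Ne.symm hbp]
    · simp [hy]
  have hab3 : β3.1 a b = c ^ 2 * β2.1 a b := by
    rw [hent]; simp [habne]; ring
  choose g hg1 hg2 using fun x : {x : tail F r k.val // x ≠ 0} =>
    blk_one_transitive (F := F) (show 3 ≤ r by omega) he1 (fun e => by simpa using congrFun e p)
      x.1.2 (fun e => x.2 (Subtype.ext e))
  have hdot : ∀ w : tail F r k.val, (Pi.single k 1 : Fin r → F) ⬝ᵥ w.1 = 0 := fun w => by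
    rw [single_dotProduct, one_mul, w.2 k le_rfl]
  have hrow : ∀ (γ : altM F r), γ.1 k = Pi.single p 1 → ∀ x, (congA (g x).1 γ).1 k = x.1.1 :=
    fun γ hγ x => by rw [congA_row_blk (hg1 x) γ (show k.val < 1 by simp [hk]), hγ, hg2]
  let Φ : Pts F k ⊕ Pts F k → altM F r := Sum.elim
    (fun q => congA (rk1 q.2.1.1 (Pi.single k 1) (hdot q.2.1)).1 (congA (g q.1).1 β2))
    (fun q => congA (rk1 q.2.1.1 (Pi.single k 1) (hdot q.2.1)).1 (congA (g q.1).1 β3))
  have hxeq : ∀ {γ γ' : altM F r}, γ.1 k = Pi.single p 1 → γ'.1 k = Pi.single p 1 →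
      ∀ {x x'} (w : {w : tail F r k.val // w.1 (piv k x.1.1) = 0})
        (w' : {w : tail F r k.val // w.1 (piv k x'.1.1) = 0}),
      congA (g x).1 γ + altE w.1.1 x.1.1 = congA (g x').1 γ' + altE w'.1.1 x'.1.1 → x = x' := by
    intro γ γ' hγ hγ' x x' w w' h
    apply Subtype.ext; apply Subtype.ext; funext y
    have h1 := congrArg (fun A : altM F r => A.1 k y) h
    simpa [altE_coe, alt2_apply, hrow γ hγ, hrow γ' hγ', w.1.2 k le_rfl, w'.1.2 k le_rfl,
      x.1.2 k le_rfl, x'.1.2 k le_rfl] using h1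
  have hsame : ∀ {γ : altM F r}, γ.1 k = Pi.single p 1 → ∀ q q' : Pts F k,
      congA (rk1 q.2.1.1 (Pi.single k 1) (hdot q.2.1)).1 (congA (g q.1).1 γ) =
        congA (rk1 q'.2.1.1 (Pi.single k 1) (hdot q'.2.1)).1 (congA (g q'.1).1 γ) → q = q' := by
    rintro γ hγ ⟨x, w⟩ ⟨x', w'⟩ h
    simp only [congA_rk1, hrow γ hγ] at h
    obtain rfl := hxeq hγ hγ w w' h
    have hp0 := piv_ne k (fun e => x.2 (Subtype.ext e) : x.1.1 ≠ 0)
    have hw : w = w' := by
      apply Subtype.ext; apply Subtype.ext; funext y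
      have h1 := congrArg (fun A : altM F r => A.1 y (piv k x.1.1)) h
      simpa [altE_coe, alt2_apply, w.2, w'.2, hp0] using h1
    subst hw
    rfl
  have hdiff : ∀ q q' : Pts F k, Φ (.inl q) ≠ Φ (.inr q') := by
    rintro ⟨x, w⟩ ⟨x', w'⟩ h
    simp only [Φ, Sum.elim_inl, Sum.elim_inr, congA_rk1, hrow β2 hrow2, hrow β3 hrow3] at h
    obtain rfl := hxeq hrow2 hrow3 w w' h
    have hx : (g x)⁻¹.1 *ᵥ x.1.1 = Pi.single p 1 := by
      rw [← hg2 x, mulVec_mulVec,
        show (g x)⁻¹.1 * (g x).1 = 1 from congrArg Subtype.val (inv_mul_cancel (g x)), one_mulVec]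
    have h2 := congrArg (fun A : altM F r => (congA (g x)⁻¹.1 A).1 a b) h
    simp only [congA_add, ← congA_mul, inv_mul_cancel, congA_altE, hx] at h2
    rw [show (1 : SL' r F).1 = 1 from rfl, congA_one, congA_one] at h2
    simp [altE_coe, alt2_apply, hap, hbp, hab3] at h2
    exact hc ((mul_eq_right₀ hab).1 h2.symm)
  have hΦ : Function.Injective Φ := by
    rintro (q | q) (q' | q') h
    · exact congrArg Sum.inl (hsame hrow2 q q' h)
    · exact absurd h (hdiff q q')
    · exact absurd h.symm (hdiff q' q)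
    · exact congrArg Sum.inr (hsame hrow3 q q' h)
  have hd3 : 0 < finrank ℂ (S.D ρ ψ β3) := lt_of_lt_of_le hD2 (hscale a b habne β2)
  letI : Fintype (Pts F k) := ptsFintype _
  have h := add_card_mul_le_D S ρ hψ Φ hΦ (fun q => by
      have hz : ∀ γ : altM F r, γ.1 k = Pi.single p 1 → γ ≠ 0 := fun γ hγ e => by
        have h' := congrFun hγ p
        rw [e] at h'
        simp at h'
      rcases q with q | q
      · exact congA_ne_zero _ (congA_ne_zero _ (hz _ hrow2))
      · exact congA_ne_zero _ (congA_ne_zero _ (hz _ hrow3)))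
    (d := 1) (fun q => by
      rcases q with q | q <;> simp only [Φ, Sum.elim_inl, Sum.elim_inr]
      · erw [S.finrank_D_congA, S.finrank_D_congA]; exact hD2
      · erw [S.finrank_D_congA, S.finrank_D_congA]; exact hd3)
  rw [Fintype.card_sum, card_Pts, mul_one] at h
  simp only [hk, Nat.sub_zero] at h
  omega

end Cfsg.Agent.Lib.OrthDeg48
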