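import Cfsg.Agent.Lib.OrthDeg48.Elements
import Cfsg.Agent.Lib.OrthOmega.Simple
import Cfsg.Agent.Lib.MinDegree.Basic

/-!
`Ω` of a coordinate form as the group generated by Siegel transformations of the model, and
non-triviality of the centre of the unipotent radical in a non-trivial representation.
-/

set_option autoImplicit false
set_option linter.unusedSectionVars false

namespace Cfsg.Agent.Lib.OrthDeg48

open Matrix Module QuadraticMap Cfsg.Agent.Lib.Forms Cfsg.Agent.Lib.OrthOmega Cfsg.Agent.Lib.SLDeg48

variable {F : Type*} [Field F] [Finite F] {r : ℕ} {κ : Type*} [Fintype κ]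
  {R : QuadraticForm F (κ → F)}

/-- `Ω` of a coordinate form as the model group. -/
noncomputable def omegaModel {ι : Type} [Fintype ι] [DecidableEq ι] (Q : QuadraticForm F (ι → F))
    {f : (ι → F) → F} (hf : ∀ v, f v = Q v) (e : Q.IsometryEquiv (qS r R)) (hR : Nondeg R)
    (hr : 3 ≤ r) : Cfsg.Omega F f ≃* EG (qS r R) :=
  (omegaEquiv Q hf).trans (((commutator (orth Q)).equivMapOfInjective _
    (orthCongr e).injective).trans
    (MulEquiv.subgroupCongr ((map_commutator_equiv (orthCongr e)).trans
      (commutator_eq_EG (nondeg_qS hR) (five_le hr)))))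

theorem zhO_injective : Function.Injective (zhO (r := r) R) := by
  intro A B h
  refine Subtype.ext (Matrix.ext fun a b => ?_)
  have h1 := congrArg (fun g : orth (qS r R) => (g.1 (0, Pi.single b 1, 0)).1 a) h
  simpa [zhO_apply] using h1

theorem zh_not_central (hR : Nondeg R) (hr : 3 ≤ r) :
    (⟨zhO R (altE (Pi.single ⟨0, by omega⟩ (1 : F)) (Pi.single ⟨1, by omega⟩ 1)),
      zhO_mem R _⟩ : EG (qS r R)) ∉ Subgroup.center (EG (qS r R)) := by
  set k : Fin r := ⟨0, by omega⟩ with hk
  set i : Fin r := ⟨1, by omega⟩ with hi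
  set l : Fin r := ⟨2, by omega⟩ with hl
  have hlk : l ≠ k := by simp [hk, hl]
  intro hc
  rw [Subgroup.mem_center_iff] at hc
  set g : SL' r F := SpecialLinearGroup.transvection hlk 1 with hg
  have h := hc ⟨levHom R g, levHom_mem R (by omega) g⟩
  have h' : levHom R g * zhO R (altE (Pi.single k (1 : F)) (Pi.single i 1)) =
      zhO R (altE (Pi.single k (1 : F)) (Pi.single i 1)) * levHom R g := congrArg Subtype.val h
  rw [show levHom R g = levE R g.1 (invT r F g).1 (invT_cond' g) from rfl,
    levE_zhO] at h'
  have h1 := zhO_injective (mul_right_cancel h')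
  rw [congA_altE] at h1
  have h2 := congrArg (fun A : altM F r => A.1 l i) h1
  simp [hg, SpecialLinearGroup.transvection_coe, altE_coe, alt2_apply, add_mulVec, hk, hi, hl] at h2

/-- A representation of dimension at least two is non-trivial on the centre of the radical. -/
theorem exists_zh_ne_one (hR : Nondeg R) (hr : 3 ≤ r) {M : Type*} [AddCommGroup M] [Module ℂ M]
    (ρ : Representation ℂ (EG (qS r R)) M) (hnt : ∃ g, ρ g ≠ 1) :
    ∃ A, ρ ((modelSiegel R hR (by omega)).Zh A) ≠ 1 := by
  have h5 := five_le (F := F) (κ := κ) hr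
  have := isSimpleGroup_EG (nondeg_qS (r := r) hR) h5
  by_contra hcon
  push Not at hcon
  obtain ⟨g, hg⟩ := hnt
  have hperf : commutator (EG (qS r R)) = ⊤ := by
    apply Subgroup.map_injective (EG (qS r R)).subtype_injective
    rw [commutator_def, Subgroup.map_commutator, ← MonoidHom.range_eq_map, Subgroup.range_subtype]
    exact EG_perfect (nondeg_qS hR) h5
  let N : Subgroup (EG (qS r R)) := MonoidHom.ker ρ
  have hN : N = ⊤ := MinDegree.normal_eq_top_of_not_le_center hperf N
    (MonoidHom.mem_ker.2 (hcon _)) (zh_not_central hR hr)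
  exact hg (MonoidHom.mem_ker.1 (show g ∈ N by rw [hN]; trivial))

end Cfsg.Agent.Lib.OrthDeg48
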