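import Cfsg.Agent.Lib.OrthDeg48.PlusSmall
import Cfsg.Agent.Lib.OrthDeg48.PlusCount
import Cfsg.Agent.Lib.OrthDeg48.General
import Cfsg.Agent.Lib.OrthDeg48.Transfer
import Cfsg.Agent.Lib.OrthStd.Models

/-!
The bound for the forms of plus type.
-/

set_option autoImplicit false
set_option linter.unusedSectionVars false

namespace Cfsg.Agent.Lib.OrthDeg48

open Matrix Module QuadraticMap Cfsg.Agent.Lib.Forms Cfsg.Agent.Lib.OrthOmega Cfsg.Agent.Lib.SLDeg48
  Cfsg.Agent.Lib.UniDeg48 Cfsg.Agent.Lib.MinDegree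

variable {F : Type*} [Field F] [Fintype F]

/-- The empty form. -/
def qZero (F : Type*) [Field F] : QuadraticForm F (Fin 0 → F) := 0

theorem qZero_nondeg : Nondeg (qZero F) := fun z _ => Subsingleton.elim z 0

/-- The coordinate model of the plus form. -/
def plusModel (r : ℕ) : (qPlus (F := F) r).IsometryEquiv (qS r (qZero F)) where
  toFun v := (fun i => v (.inl i), fun i => v (.inr i), fun j => j.elim0)
  map_add' _ _ := Prod.ext rfl (Prod.ext rfl (funext fun j => j.elim0))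
  map_smul' _ _ := Prod.ext rfl (Prod.ext rfl (funext fun j => j.elim0))
  invFun X := Sum.elim X.1 X.2.1
  left_inv v := by
    funext j
    rcases j with j | j <;> rfl
  right_inv _ := Prod.ext rfl (Prod.ext rfl (funext fun j => j.elim0))
  map_app' v := by
    rw [qS_apply, ← OrthStd.quadFormPlus_eq]
    simp [Cfsg.quadFormPlus, qZero, dotProduct]

theorem plus_bound_eq (q n : ℕ) (hq : 2 ≤ q) (hn : 2 ≤ n) :
    (q ^ n - 1) * (q ^ (n - 1) + q) / (q ^ 2 - 1) =
      numDec q n + (∑ i ∈ Finset.range (n - 1), q ^ (i + 1)) + 1 := by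
  have hq2 : 2 ≤ q ^ 2 := le_trans hq (Nat.le_self_pow two_ne_zero q)
  refine Nat.div_eq_of_eq_mul_left (by omega) ?_
  have h1 := numDec_mul q (by omega) n (by omega)
  have h2 := sum_mul_pred q (n - 1) (by omega)
  rw [show n - 1 + 1 = n by omega] at h2
  generalize (∑ i ∈ Finset.range (n - 1), q ^ (i + 1)) = B at *
  generalize numDec q n = N at *
  obtain ⟨s, rfl⟩ : ∃ s, n = s + 1 := ⟨n - 1, by omega⟩
  rw [Nat.add_sub_cancel] at h1 ⊢
  zify [Nat.one_le_pow (s + 1) q (by omega), Nat.one_le_pow s q (by omega),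
    show 1 ≤ q ^ 2 by omega, show 1 ≤ q by omega] at h1 h2 ⊢
  linear_combination -h1 - ((q : ℤ) + 1) * h2

theorem plus_numeric (r : ℕ) (hr : 4 ≤ r) (hq : 4 ≤ Fintype.card F) :
    numDec (Fintype.card F) r + (∑ i ∈ Finset.range (r - 1), Fintype.card F ^ (i + 1)) + 1 ≤
      2 * ((Fintype.card F ^ (r - 1) - 1) * Fintype.card F ^ (r - 2)) ∧
    (∑ i ∈ Finset.range (r - 1), Fintype.card F ^ (i + 1)) + 1 ≤ numDec (Fintype.card F) r := by
  have hB := bound_le_two_mul (F := F) (n := r) (by omega)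
  have hN := numDec_ge (Fintype.card F) r (by omega)
  have hmul := numDec_mul (Fintype.card F) (by omega) r (by omega)
  obtain ⟨s, rfl⟩ : ∃ s, r = s + 2 := ⟨r - 2, by omega⟩
  rw [show s + 2 - 1 = s + 1 by omega] at hB hN hmul ⊢
  rw [show s + 2 - 2 = s by omega] at hN ⊢
  rw [pow_add _ s 2] at hmul
  have hK : 3 ≤ Fintype.card F ^ (s + 1) - 1 := by
    have : Fintype.card F ≤ Fintype.card F ^ (s + 1) := Nat.le_self_pow (by omega) _
    omega
  have hP : Fintype.card F ^ 2 ≤ Fintype.card F ^ s := Nat.pow_le_pow_right (by omega) (by omega)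
  have hQ : 16 ≤ Fintype.card F ^ 2 := le_trans (show 16 ≤ 4 ^ 2 by norm_num)
    (Nat.pow_le_pow_left hq 2)
  generalize ∑ i ∈ Finset.range (s + 1), Fintype.card F ^ (i + 1) = B at *
  generalize numDec (Fintype.card F) (s + 2) = N at *
  generalize Fintype.card F ^ (s + 1) - 1 = K at *
  generalize Fintype.card F ^ s = P at *
  generalize Fintype.card F ^ 2 = Q at *
  have h16 : 16 * K ≤ K * P := by rw [mul_comm 16]; exact Nat.mul_le_mul_left _ (by omega)
  refine ⟨?_, by omega⟩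
  refine Nat.le_of_mul_le_mul_right ?_ (show 0 < Q - 1 by omega)
  have e1 : (N + B + 1) * (Q - 1) = N * (Q - 1) + (B + 1) * (Q - 1) := by ring
  have e2 : (B + 1) * (Q - 1) ≤ (2 * K + 1) * Q := Nat.mul_le_mul (by omega) (Nat.sub_le _ _)
  have e3 : (P * Q - 1) * K ≤ P * Q * K := Nat.mul_le_mul_right _ (Nat.sub_le _ _)
  have e4 : (2 * K + 1) * Q + P * Q * K ≤ 2 * (K * P) * (Q - 1) := by
    zify [show 1 ≤ Q by omega]
    have hQ' : (16 : ℤ) ≤ Q := by exact_mod_cast hQ
    have hP' : (Q : ℤ) ≤ P := by exact_mod_cast hP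
    have hK' : (3 : ℤ) ≤ K := by exact_mod_cast hK
    nlinarith [mul_nonneg (show (0 : ℤ) ≤ (K : ℤ) * ((Q : ℤ) - 2) by nlinarith) (sub_nonneg.2 hP'),
      mul_nonneg (show (0 : ℤ) ≤ (K : ℤ) * Q by nlinarith) (sub_nonneg.2 hQ')]
  omega

variable (r : ℕ)

set_option maxHeartbeats 800000 in
/-- The alternatives for one representation of the model. -/
theorem plus_alt (hr : 4 ≤ r) (hq : 4 ≤ Fintype.card F) {M : Type*} [AddCommGroup M] [Module ℂ M]
    [FiniteDimensional ℂ M] (ρ : Representation ℂ (EG (qS r (qZero F))) M) (hnt : ∃ g, ρ g ≠ 1)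
    {ψ : AddChar F ℂ} (hψ : ψ.IsPrimitive) :
    numDec (Fintype.card F) r + (∑ i ∈ Finset.range (r - 1), Fintype.card F ^ (i + 1)) + 1 ≤
        finrank ℂ M ∨
      (finrank ℂ M = (∑ i ∈ Finset.range (r - 1), Fintype.card F ^ (i + 1)) +
          numDec (Fintype.card F) r ∧
        finrank ℂ ((modelSiegel (qZero F) qZero_nondeg (show 2 ≤ r by omega)).D ρ ψ 0) =
          (∑ i ∈ Finset.range (r - 1), Fintype.card F ^ (i + 1)) ∧
        (∀ z : (modelSiegel (qZero F) qZero_nondeg (show 2 ≤ r by omega)).D ρ ψ 0,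
          (∀ g, (modelSiegel (qZero F) qZero_nondeg (show 2 ≤ r by omega)).levRep ρ ψ g z = z) →
            z = 0) ∧
        ∀ β : altM F r, β ≠ 0 → Dec β →
          finrank ℂ ((modelSiegel (qZero F) qZero_nondeg (show 2 ≤ r by omega)).D ρ ψ β) = 1) := by
  classical
  have hR : Nondeg (qZero F) := qZero_nondeg
  set S := modelSiegel (qZero F) hR (show 2 ≤ r by omega) with hS
  obtain ⟨u, hu⟩ := exists_unit_sq_ne_one (F := F) (show 3 < Fintype.card F by omega)
  obtain ⟨hnum1, hnum2⟩ := plus_numeric (F := F) r hr hq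
  by_cases hnd : ∃ β : altM F r, β ≠ 0 ∧ ¬ Dec β ∧ finrank ℂ (S.D ρ ψ β) ≠ 0
  · obtain ⟨β, h1, h2, h3⟩ := hnd
    refine Or.inl (hnum1.trans (bound_of_nondec_two S ρ hr hψ (c := (u : F)) hu ?_ u.ne_zero h1 h2 h3))
    intro a b hab β'
    obtain ⟨τ, hτm, hτ⟩ := exists_tor_two hR (show 3 ≤ r by omega) hab (inv_ne_zero u.ne_zero)
    have hgh := diag2_cond a b (c := (u : F)⁻¹) (inv_ne_zero u.ne_zero)
    rw [inv_inv] at hτ hgh
    exact Siegel.finrank_le_of_maps ρ (⟨τ, hτm⟩ : EG (qS r (qZero F))) fun z hz =>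
      S.map_D ρ ψ (τ := ⟨τ, hτm⟩) (fun A => Subtype.ext (hτ.zh hgh A)) hgh hz
  push Not at hnd
  obtain ⟨gc, hgcm, hgc⟩ := exists_conj (R := qZero F) hR (show 3 ≤ r by omega)
  rcases S.main_alt_dec ρ (show 3 ≤ r by omega) hψ (exists_zh_ne_one hR (by omega) ρ hnt)
    (fun c => ⟨1, fun n => n, fun n => ⟨n, Subsingleton.elim _ _⟩,
      fun z hz => by rwa [map_one, Module.End.one_apply],
      fun n => by rw [one_mul, mul_one]⟩)
    (fun _ _ c _ h4 => Or.inl (S.torus_datum ρ h4 hu c))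
    (fun hone => S.exists_fixed_sq ρ (by omega) hψ hone hu)
    ⟨⟨gc, hgcm⟩, fun t => ⟨-t, Subtype.ext (hgc t)⟩⟩ hnd with h | ⟨⟨g, z, hz, hgz⟩, heq, hone⟩
  · rw [Fintype.card_fin, pow_zero, mul_one] at h
    left; omega
  rw [Fintype.card_fin, pow_zero] at heq hone
  rw [one_mul] at heq
  have hmove : ∃ g z, S.levRep ρ ψ g z ≠ z :=
    ⟨g, ⟨z, hz⟩, fun e => hgz (congrArg Subtype.val e)⟩
  have hex : (r, Fintype.card F) ≠ (3, 2) ∧ (r, Fintype.card F) ≠ (3, 4) ∧
      (r, Fintype.card F) ≠ (4, 2) ∧ (r, Fintype.card F) ≠ (4, 3) := by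
    simp only [ne_eq, Prod.mk.injEq]
    omega
  rcases bound_or_no_fixed (S.levRep ρ ψ) (by omega) hex hmove with h | ⟨hlow, hnof⟩
  · left; omega
  by_cases hlt : ∑ i ∈ Finset.range (r - 1), Fintype.card F ^ (i + 1) < finrank ℂ (S.D ρ ψ 0)
  · left; omega
  exact Or.inr ⟨by omega, by omega, hnof, hone⟩

set_option maxHeartbeats 800000 in
/-- The bound for the model. -/
theorem plus_bound (hr : 4 ≤ r) (hq : 4 ≤ Fintype.card F) {M : Type*} [AddCommGroup M] [Module ℂ M]
    [FiniteDimensional ℂ M] (ρ : Representation ℂ (EG (qS r (qZero F))) M) (hnt : ∃ g, ρ g ≠ 1) :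
    numDec (Fintype.card F) r + (∑ i ∈ Finset.range (r - 1), Fintype.card F ^ (i + 1)) + 1 ≤
      finrank ℂ M := by
  classical
  have hR : Nondeg (qZero F) := qZero_nondeg
  have hr3 : 3 ≤ r := by omega
  set S := modelSiegel (qZero F) hR (show 2 ≤ r by omega) with hS
  obtain ⟨s, hs⟩ := exists_unit_sq_ne_one (F := F) (show 3 < Fintype.card F by omega)
  have hnt' : Nontrivial (AddChar F ℂ) := by
    rw [← Fintype.one_lt_card_iff_nontrivial, AddChar.card_eq]
    exact Fintype.one_lt_card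
  obtain ⟨ψ, hψ1⟩ := exists_ne (1 : AddChar F ℂ)
  have hψ : ψ.IsPrimitive := AddChar.IsPrimitive.of_ne_one hψ1
  set i : Fin r := ⟨r - 2, by omega⟩ with hi'
  set j : Fin r := ⟨r - 1, by omega⟩ with hj'
  have hi : i.val + 2 = r := by simp [hi']; omega
  have hj : j.val + 1 = r := by simp [hj']; omega
  have hij : i ≠ j := fun e => by rw [e] at hi; omega
  set ρ' : Representation ℂ (EG (qS r (qZero F))) M := ρ.comp (twist (qZero F) j) with hρ'
  have hval : ∀ g, ρ' g = ρ (twist (qZero F) j g) := fun _ => rfl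
  have htt : ρ'.comp (twist (qZero F) j) = ρ := MonoidHom.ext fun g => by
    show ρ (twist (qZero F) j (twist (qZero F) j g)) = ρ g
    rw [twist_twist]
  rcases plus_alt r hr hq ρ hnt hψ with h | ⟨hdim, hC, hnof, hone⟩
  · exact h
  rcases plus_alt r hr hq ρ' (by
      obtain ⟨g, hg⟩ := hnt
      exact ⟨twist (qZero F) j g, by rwa [hval, twist_twist]⟩) hψ with h | ⟨-, hC', hnof', hone'⟩
  · exact h
  exfalso
  have hU : ∀ v, S.UFix ρ ψ v → S.UFix ρ' ψ v := fun v hv =>
    twist_fixed hR hr3 ρ hj hv.1 hv.2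
  have hU' : ∀ v, S.UFix ρ' ψ v → S.UFix ρ ψ v := fun v hv => by
    obtain ⟨h1, h2⟩ := twist_fixed hR hr3 ρ' hj hv.1 hv.2
    rw [htt] at h1
    exact ⟨h1, fun a b hab hlt t => by
      have := h2 a b hab hlt t
      rwa [hval, twist_twist] at this⟩
  have honeq : ∀ β : altM F r, β ≠ 0 → Dec β →
      finrank ℂ (S.D ρ ψ β) = Fintype.card F ^ Fintype.card (Fin 0) := fun β h1 h2 => by
    rw [Fintype.card_fin, pow_zero]; exact hone β h1 h2
  have honeq' : ∀ β : altM F r, β ≠ 0 → Dec β →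
      finrank ℂ (S.D ρ' ψ β) = Fintype.card F ^ Fintype.card (Fin 0) := fun β h1 h2 => by
    rw [Fintype.card_fin, pow_zero]; exact hone' β h1 h2
  refine S.plus_contra ρ ρ' hψ hr hq hij hi hj hU hU' ?_ ?_ ?_ ?_ ?_ hnof hnof' hC hC'
  · intro a b hab haj hbj x
    have h1 : ∀ {p q : Fin r} (hpq : p ≠ q), p ≠ j → q ≠ j → ∀ c : F,
        twist (qZero F) j (S.L (SpecialLinearGroup.transvection hpq c)) =
          S.L (SpecialLinearGroup.transvection hpq c) :=
      fun hpq hp hq c => Subtype.ext (flip_transvection hpq hp hq c)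
    rw [hval]
    simp only [wel, map_mul, h1 hab haj hbj, h1 hab.symm hbj haj]
  · intro v hv a b hab hai haj hbi hbj w e he hev t
    have hv' := hU v hv
    have := away_cross hR hr3 ρ' hψ honeq' hs hij hi hj hv'.1 hv'.2 hab hai haj hbi hbj w he
      (by rw [hval, twist_diag (i := i) hR hr3 hab haj hbj]; exact hev) t
    rwa [hval, twist_twist] at this
  · intro v hv a b hab hai haj hbi hbj w e he hev t
    have hv' := hU' v hv
    rw [hval, twist_diag (i := i) hR hr3 hab haj hbj] at hev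
    rw [hval]
    exact away_cross hR hr3 ρ hψ honeq hs hij hi hj hv'.1 hv'.2 hab hai haj hbi hbj w he hev t
  · intro v hv hev t
    rw [hval]
    exact top_cross hR hr3 ρ hψ hone hs hij hi hj hv.1 hv.2 hev t
  · intro v hv hev t
    have := top_cross hR hr3 ρ' hψ hone' hs hij hi hj hv.1 hv.2 hev t
    rwa [hval, twist_twist] at this

end Cfsg.Agent.Lib.OrthDeg48
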