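import Cfsg.Agent.Lib.OrthDeg48.SLChain
import Cfsg.Agent.Lib.OrthDeg48.SLSmall
import Cfsg.Agent.Lib.OrthDeg48.Fork
import Cfsg.Agent.Lib.OrthDeg48.SmallCommon

/-!
Two representations of `SL_r` sharing the vectors fixed by the upper unipotent subgroup.
-/

set_option autoImplicit false
set_option linter.unusedSectionVars false

namespace Cfsg.Agent.Lib.OrthDeg48

open Matrix Module Cfsg.Agent.Lib.SLDeg48 Cfsg.Agent.Lib.MinDegree
open scoped Classical

variable {F : Type*} [Field F] [Fintype F] {r : ℕ}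
variable {W : Type*} [AddCommGroup W] [Module ℂ W] [FiniteDimensional ℂ W]
variable {W' : Type*} [AddCommGroup W'] [Module ℂ W'] [FiniteDimensional ℂ W']

/-- The torus fixes the vectors fixed by the upper unipotent subgroup. -/
theorem isB_of_away (σ : Representation ℂ (SL' r F) W) (hr : 4 ≤ r)
    (hc : finrank ℂ (Z σ r) + 1 ≤ r) {i j : Fin r} (hij : i ≠ j) (hi : i.val + 2 = r)
    (hj : j.val + 1 = r)
    (haway : ∀ v : Z σ r, ∀ {a b : Fin r} (hab : a ≠ b), a ≠ i → a ≠ j → b ≠ i → b ≠ j →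
      ∀ (w : Fˣ) {e : ℂ}, e ≠ 1 → σ (diagE F r (hT a b hab w)) v.1 = e • v.1 →
      ∀ t, σ (SpecialLinearGroup.transvection hij.symm t) v.1 = v.1) :
    ∀ v ∈ Z σ r, IsB σ v := by
  have hdisj' : ∀ χ, Occurs (torRep σ) (torId F r) χ → ∀ (a b : Fin r) (hab : a ≠ b), a ≠ i →
      a ≠ j → b ≠ i → b ≠ j → ¬ Ker χ a b hab → Ker χ i j hij := by
    rintro χ ⟨v, hv0, hv⟩ a b hab hai haj hbi hbj hk s
    obtain ⟨w, hw⟩ := not_forall.1 hk
    have eigW : ∀ d : tor F r, σ (diagE F r d) v.1 = χ (Additive.ofMul d) • v.1 := fun d =>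
      congrArg Subtype.val (hv (Additive.ofMul d))
    have hlo := haway v hab hai haj hbi hbj w hw (eigW _)
    have hup : ∀ t, σ (SpecialLinearGroup.transvection hij t) v.1 = v.1 := fun t =>
      (mem_Z σ).1 v.2 _ (low_transvection hij (Fin.lt_def.2 (by omega)) t)
    have h1 := eigW (hT i j hij s)
    rw [diagE_hT_eq, AutPSL.diag2n_eq_prod_transvection hij _ s.ne_zero] at h1
    simp only [map_mul, Module.End.mul_apply, hlo, hup] at h1
    exact smul_left_injective ℂ (fun e => hv0 (Subtype.ext e))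
      (h1.symm.trans (one_smul ℂ _).symm)
  refine tor_trivial σ (by omega) hc (fun χ hocc a b l m hab hlm h1 h2 h3 h4 hk =>
    disj_of_last σ hij hdisj' hocc a b l m hab hlm h1 h2 h3 h4 hk) ?_
  intro χ hocc a b l hab hbl hal h1 h2
  obtain ⟨m, -, hm⟩ := Finset.exists_mem_notMem_of_card_lt_card
    (s := ({a, b, l} : Finset (Fin r))) (t := Finset.univ)
    (lt_of_le_of_lt Finset.card_le_three (by simp; omega))
  simp only [Finset.mem_insert, Finset.mem_singleton, not_or] at hm
  have h1' := disj_of_last σ hij hdisj' hocc a b l m hab (Ne.symm hm.2.2) hal (Ne.symm hm.1)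
    hbl (Ne.symm hm.2.1) h1
  have h2' := disj_of_last σ hij hdisj' hocc b l a m hbl (Ne.symm hm.1) hab.symm (Ne.symm hm.2.1)
    (Ne.symm hal) (Ne.symm hm.2.2) h2
  exact ker_trans hal h2' (ker_symm h1')

/-- A fixed line of the last Hecke idempotent. -/
theorem top_neg (τ : Representation ℂ (SL' r F) W) (hτ : ∀ v ∈ Z τ r, IsB τ v) {i : Fin r}
    (hlast : i.val + 1 < r) (hij : i ≠ ⟨i.val + 1, hlast⟩) (v : Z τ r)
    (hv : Aop τ hτ i.val hlast v = v) : Top τ hij v.1 = -v.1 := by
  have := Top_eq hτ i.val hlast v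
  rw [hv, ← sub_smul, sub_add_cancel_left, neg_smul, one_smul] at this
  exact this

/-- A lower fixed vector is killed by the last Hecke idempotent. -/
theorem aop_zero (τ : Representation ℂ (SL' r F) W) (hτ : ∀ v ∈ Z τ r, IsB τ v) {i : Fin r}
    (hlast : i.val + 1 < r) (hij : i ≠ ⟨i.val + 1, hlast⟩) (v : Z τ r)
    (hv : ∀ t, τ (SpecialLinearGroup.transvection hij.symm t) v.1 = v.1) :
    Aop τ hτ i.val hlast v = 0 := by
  refine (Aop_eq_zero_iff hτ i.val hlast v).2 ?_
  have hup : ∀ t, τ (SpecialLinearGroup.transvection hij t) v.1 = v.1 := fun t =>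
    (mem_Z τ).1 v.2 _ (low_transvection hij (Fin.lt_def.2 (by simp)) t)
  show τ (wel hij) v.1 = v.1
  simp only [wel, ρ_apply_mul, hup, hv]

variable (σ : Representation ℂ (SL' r F) W) (σ' : Representation ℂ (SL' r F) W')

set_option maxHeartbeats 1000000 in
/-- Two such representations of the smallest dimension cannot share their fixed vectors. -/
theorem plus_chain_contra {ψ : AddChar F ℂ} (hψ : ψ.IsPrimitive) (hr : 4 ≤ r)
    (hq : 4 ≤ Fintype.card F)
    (hfix : ∀ z : W, (∀ g, σ g z = z) → z = 0) (hfix' : ∀ z : W', (∀ g, σ' g z = z) → z = 0)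
    (hne : Z σ r ≠ ⊥) (hne' : Z σ' r ≠ ⊥)
    (hle : ∀ (k : Fin r) (h : k.val + 1 < r), dd σ ψ k h ≤ 1)
    (hle' : ∀ (k : Fin r) (h : k.val + 1 < r), dd σ' ψ k h ≤ 1)
    (hc : finrank ℂ (Z σ r) + 1 ≤ r)
    (hB : ∀ v ∈ Z σ r, IsB σ v) (hB' : ∀ v ∈ Z σ' r, IsB σ' v)
    (e : Z σ r ≃ₗ[ℂ] Z σ' r) {i j : Fin r} (hij : i ≠ j) (hi : i.val + 2 = r)
    (hj : j.val + 1 = r)
    (hsame : ∀ (a b : Fin r) (hab : a ≠ b) (_ : b.val = a.val + 1) (_ : b ≠ j) (v w : Z σ r),
      Top σ hab v.1 = w.1 → Top σ' hab (e v).1 = (e w).1)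
    (htop : ∀ v : Z σ r, Top σ hij v.1 = -v.1 →
      ∀ t, σ' (SpecialLinearGroup.transvection hij.symm t) (e v).1 = (e v).1)
    (htop' : ∀ v : Z σ r, Top σ' hij (e v).1 = -(e v).1 →
      ∀ t, σ (SpecialLinearGroup.transvection hij.symm t) v.1 = v.1) : False := by
  obtain ⟨k, hk⟩ : ∃ k, r = k + 3 := ⟨r - 3, by omega⟩
  obtain ⟨a, b, h1, h2, h3⟩ := chain_data σ hψ hr hB hfix hne hle
  obtain ⟨a', b', h1', h2', h3'⟩ := chain_data σ' hψ hr hB' hfix' hne' hle'
  have hq1 : (Fintype.card F : ℂ) + 1 ≠ 0 := q1_ne hB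
  have hsame' : ∀ m (hm : m + 1 < r), m + 2 < r → ∀ v : Z σ r,
      Aop σ' hB' m hm (e v) = e (Aop σ hB m hm v) := by
    intro m hm hm2 v
    set h : (⟨m, by omega⟩ : Fin r) ≠ ⟨m + 1, hm⟩ := fun e => by simp at e
    have hmj : (⟨m + 1, hm⟩ : Fin r) ≠ j := fun e' => by
      have := congrArg Fin.val e'
      simp at this
      omega
    have ht := hsame _ _ h rfl hmj v ⟨Top σ h v.1, (hB v.1 v.2).map_Top σ h rfl |>.1⟩ rfl
    have h1 : (e (Aop σ hB m hm v)) = ((Fintype.card F : ℂ) + 1)⁻¹ •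
        ((Fintype.card F : ℂ) • e v - e ⟨Top σ h v.1, (hB v.1 v.2).map_Top σ h rfl |>.1⟩) := by
      rw [← map_smul, ← map_sub, ← map_smul]
      congr 1
    apply Subtype.ext
    rw [h1, Submodule.coe_smul, AddSubgroupClass.coe_sub, Submodule.coe_smul, ← ht]
    rfl
  have hlast : i.val + 1 < r := by omega
  have hji : (⟨i.val + 1, hlast⟩ : Fin r) = j := Fin.ext (show i.val + 1 = j.val by omega)
  subst hji
  obtain ⟨hb1, hb2⟩ := h1 i.val hlast
  obtain ⟨hb1', hb2'⟩ := h1' i.val hlast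
  -- the leaves are orthogonal
  have horth : b' i.val (e (a i.val)) = 0 := by
    have hA : Aop σ hB i.val hlast (a i.val) = a i.val := by rw [hb2, hb1, one_smul]
    have h0 := aop_zero σ' hB' hlast hij (e (a i.val)) (htop _ (top_neg σ hB hlast hij _ hA))
    rw [hb2'] at h0
    exact (smul_eq_zero.1 h0).resolve_right fun e' => by simp [e'] at hb1'
  have horth' : b i.val (e.symm (a' i.val)) = 0 := by
    have hA : Aop σ' hB' i.val hlast (a' i.val) = a' i.val := by rw [hb2', hb1', one_smul]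
    have h0 := aop_zero σ hB hlast hij (e.symm (a' i.val)) (htop' _ (by
      rw [LinearEquiv.apply_symm_apply]; exact top_neg σ' hB' hlast hij _ hA))
    rw [hb2] at h0
    exact (smul_eq_zero.1 h0).resolve_right fun e' => by simp [e'] at hb1
  -- the common part
  have hrel : ∀ m (hm : m + 1 < r), m + 2 < r → ∀ v : Z σ r,
      b' m (e v) • a' m = b m v • e (a m) := by
    intro m hm hm2 v
    rw [← (h1' m hm).2, hsame' m hm hm2, (h1 m hm).2, map_smul]
  have hea : ∀ m, m + 1 < r → e (a m) ≠ 0 := fun m hm h => by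
    rw [LinearEquiv.map_eq_zero_iff] at h
    have := (h1 m hm).1
    rw [h, map_zero] at this
    exact zero_ne_one this
  have hmul : ∀ m (hm : m + 1 < r), m + 2 < r →
      b m (e.symm (a' i.val)) * b' i.val (e (a m)) = b' m (a' i.val) * b' i.val (a' m) := by
    intro m hm hm2
    have h := congrArg (b' i.val) (hrel m hm hm2 (e.symm (a' i.val)))
    rw [LinearEquiv.apply_symm_apply, map_smul, map_smul, smul_eq_mul, smul_eq_mul] at h
    exact h.symm
  have hfar' : ∀ m, m < k → b m (e.symm (a' i.val)) = 0 ∧ b' i.val (e (a m)) = 0 := by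
    intro m hm
    obtain ⟨hf1, hf2⟩ := h2' m i.val (by omega) hlast
    constructor
    · have h := hrel m (by omega) (by omega) (e.symm (a' i.val))
      rw [LinearEquiv.apply_symm_apply, hf1, zero_smul, eq_comm, smul_eq_zero] at h
      exact h.resolve_right (hea m (by omega))
    · have h := congrArg (b' i.val) (hrel m (by omega) (by omega) (a m))
      rw [map_smul, map_smul, hf2, smul_zero, (h1 m (by omega)).1, one_smul] at h
      exact h.symm
  have hx1 : (Fintype.card F : ℝ) / ((Fintype.card F : ℝ) + 1) ^ 2 ≤ 1 / 6 := by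
    rw [div_le_div_iff₀ (by positivity) (by norm_num)]
    have : (4 : ℝ) ≤ Fintype.card F := by exact_mod_cast hq
    nlinarith
  have hxc : (((Fintype.card F : ℝ) / ((Fintype.card F : ℝ) + 1) ^ 2 : ℝ) : ℂ) =
      (Fintype.card F : ℂ) / ((Fintype.card F : ℂ) + 1) ^ 2 := by push_cast; rfl
  have hik : i.val = k + 1 := by omega
  have hfork := fork_le_finrank (k := k) a b (a i.val) (e.symm (a' i.val)) (b i.val)
    ((b' i.val).comp e.toLinearMap)
    (x := (Fintype.card F : ℝ) / ((Fintype.card F : ℝ) + 1) ^ 2) (by positivity) hx1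
    (fun m hm => (h1 m (by omega)).1)
    (fun m l hm hl hor => hor.elim (fun h => (h2 m l h (by omega)).1)
      (fun h => (h2 l m h (by omega)).2))
    (fun m hm => by rw [hxc]; exact h3 m (by omega))
    hb1
    (by
      show b' i.val (e (e.symm (a' i.val))) = 1
      rw [LinearEquiv.apply_symm_apply]; exact hb1')
    horth' horth
    (fun m hm => h2 m i.val (by omega) hlast)
    (fun m hm => hfar' m hm)
    (by rw [hxc, hik]; exact h3 k (by omega))
    (by
      rw [hxc]
      show b k (e.symm (a' i.val)) * b' i.val (e (a k)) = _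
      rw [hmul k (by omega) (by omega), hik]
      exact h3' k (by omega))
  omega

end Cfsg.Agent.Lib.OrthDeg48
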