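import Cfsg.Agent.Lib.OrthDeg48.Twist

/-!
Turned vectors in terms of the twisted Levi part.
-/

set_option autoImplicit false
set_option linter.unusedSectionVars false

namespace Cfsg.Agent.Lib.OrthDeg48

open Matrix Module QuadraticMap Cfsg.Agent.Lib.Forms Cfsg.Agent.Lib.OrthOmega Cfsg.Agent.Lib.SLDeg48
  Cfsg.Agent.Lib.UniDeg48 Cfsg.Agent.Lib.MinDegree

variable {F : Type*} [Field F] [Fintype F] {r : ℕ}
variable {M : Type*} [AddCommGroup M] [Module ℂ M]

/-- Fixed vectors of `Low` are the vectors fixed by the upper root subgroups. -/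
theorem mem_Z_of_upper (σ : Representation ℂ (SL' r F) M) {z : M}
    (h : ∀ (a b : Fin r) (hab : a ≠ b), a.val < b.val → ∀ t,
      σ (SpecialLinearGroup.transvection hab t) z = z) : z ∈ Z σ r := by
  classical
  suffices hk : ∀ k, k ≤ r → z ∈ Z σ k from hk r le_rfl
  intro k
  induction k with
  | zero => intro _; rw [Z_zero]; trivial
  | succ k ih =>
    intro hk
    set kk : Fin r := ⟨k, by omega⟩
    show z ∈ Z σ (kk.val + 1)
    rw [mem_Z_succ]
    refine ⟨ih (by omega), fun y => ?_⟩
    suffices hs : ∀ (s : Finset (Fin r)) (y : tail F r kk.val), (∀ b, b ∉ s → y.1 b = 0) →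
        σ (row kk y) z = z from hs Finset.univ y fun b hb => absurd (Finset.mem_univ b) hb
    intro s
    induction s using Finset.induction_on with
    | empty =>
      intro y hy
      rw [show y = 0 from Subtype.ext (funext fun b => hy b (Finset.notMem_empty b)), row_zero,
        map_one, Module.End.one_apply]
    | insert b s _ ihs =>
      intro y hy
      by_cases hb : b.val ≤ kk.val
      · refine ihs y fun c hc => ?_
        by_cases hcb : c = b
        · subst hcb; exact y.2 c hb
        · exact hy c (by simp [hcb, hc])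
      push Not at hb
      have e : y = ⟨Pi.single b (y.1 b), single_mem_tail hb _⟩ +
          (y - ⟨Pi.single b (y.1 b), single_mem_tail hb _⟩) := (add_sub_cancel _ _).symm
      rw [e, row_add, row_single hb, ρ_apply_mul, ihs, h _ _ _ hb]
      intro c hc
      show y.1 c - (Pi.single b (y.1 b) : Fin r → F) c = 0
      by_cases hcb : c = b
      · subst hcb; simp
      · rw [Pi.single_eq_of_ne hcb, sub_zero]
        exact hy c (by simp [hcb, hc])

variable {κ : Type*} [Fintype κ] {R : QuadraticForm F (κ → F)} (hR : Nondeg R) (hr : 3 ≤ r)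
variable [FiniteDimensional ℂ M] (ρ : Representation ℂ (EG (qS r R)) M) {ψ : AddChar F ℂ}

theorem twist_diag {i j a b : Fin r} (hab : a ≠ b) (ha : a ≠ j) (hb : b ≠ j) (u : Fˣ) :
    twist R j ((modelSiegel R hR (show 2 ≤ r by omega)).L (diagE F r (hT a b hab u))) =
      (modelSiegel R hR (show 2 ≤ r by omega)).L (diagE F r (hT a b hab u)) := by
  have h1 : ∀ {p q : Fin r} (hpq : p ≠ q), p ≠ j → q ≠ j → ∀ c : F,
      twist R j ((modelSiegel R hR (show 2 ≤ r by omega)).L
        (SpecialLinearGroup.transvection hpq c)) =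
        (modelSiegel R hR (show 2 ≤ r by omega)).L (SpecialLinearGroup.transvection hpq c) :=
    fun hpq hp hq c => Subtype.ext (flip_transvection hpq hp hq c)
  rw [diagE_hT_eq, AutPSL.diag2n_eq_prod_transvection hab _ u.ne_zero]
  simp only [map_mul, h1 hab ha hb, h1 hab.symm hb ha]

include hR hr in
/-- The fixed vectors of the unipotent subgroup are those of the twisted representation. -/
theorem twist_fixed {j : Fin r} (hj : j.val + 1 = r) {v : M}
    (hv : v ∈ (modelSiegel R hR (show 2 ≤ r by omega)).D ρ ψ 0)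
    (hU : ∀ (a b : Fin r) (hab : a ≠ b), a.val < b.val → ∀ t,
      ρ ((modelSiegel R hR (show 2 ≤ r by omega)).L (SpecialLinearGroup.transvection hab t)) v = v) :
    v ∈ (modelSiegel R hR (show 2 ≤ r by omega)).D (ρ.comp (twist R j)) ψ 0 ∧
      ∀ (a b : Fin r) (hab : a ≠ b), a.val < b.val → ∀ t,
        ρ (twist R j ((modelSiegel R hR (show 2 ≤ r by omega)).L
          (SpecialLinearGroup.transvection hab t))) v = v := by
  classical
  set S := modelSiegel R hR (show 2 ≤ r by omega) with hS
  have hvZ := (S.mem_D_zero ρ ψ).1 hv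
  constructor
  · rw [S.mem_D_zero]
    intro A
    let T : AddSubgroup (altM F r) :=
      { carrier := {B | ρ (twist R j (S.Zh B)) v = v}
        zero_mem' := by
          show ρ (twist R j (S.Zh 0)) v = v
          rw [Siegel.Zh_zero, map_one, map_one, Module.End.one_apply]
        add_mem' := fun {x y} hx hy => by
          show ρ (twist R j (S.Zh (x + y))) v = v
          rw [S.Zh_add, map_mul, map_mul, Module.End.mul_apply, hy, hx]
        neg_mem' := fun {x} hx => by
          show ρ (twist R j (S.Zh (-x))) v = v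
          refine Siegel.ρ_inj ρ (twist R j (S.Zh x)) ?_
          rw [← Module.End.mul_apply, ← map_mul, ← map_mul, ← S.Zh_add, add_neg_cancel,
            Siegel.Zh_zero, map_one, map_one, Module.End.one_apply]
          exact hx.symm }
    have hA' : A = ∑ a, ∑ b, (if a < b then A.1 a b else 0) •
        altE (Pi.single a (1 : F)) (Pi.single b 1) := by
      apply Subtype.ext
      ext x y
      simp only [Submodule.coe_sum, Submodule.coe_smul, Matrix.sum_apply, Matrix.smul_apply,
        altE_coe, alt2_apply, Pi.single_apply, smul_eq_mul]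
      simp only [mul_sub, Finset.sum_sub_distrib, mul_ite, mul_one, mul_zero, Finset.sum_ite_eq,
        Finset.sum_ite_irrel, Finset.sum_const_zero, Finset.mem_univ, if_true]
      rcases lt_trichotomy x y with h | h | h
      · simp [h, h.not_gt]
      · subst h; simp [A.2.1]
      · simp [h, h.not_gt, A.2.2 y x]
    show A ∈ T
    rw [hA']
    refine sum_mem fun a _ => sum_mem fun b _ => ?_
    split_ifs with hab
    · have hlt : a.val < b.val := hab
      have hb := b.isLt
      have haj : a ≠ j := fun e => by rw [e] at hlt; omega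
      by_cases hbj : b = j
      · subst hbj
        show ρ (twist R b (S.Zh _)) v = v
        rw [show twist R b (S.Zh ((A.1 a b) • altE (Pi.single a 1) (Pi.single b 1))) =
          S.L (SpecialLinearGroup.transvection haj (-(A.1 a b))) from
            Subtype.ext (flip_zh_right haj _), hU a b haj hlt]
      · show ρ (twist R j (S.Zh _)) v = v
        rw [show twist R j (S.Zh ((A.1 a b) • altE (Pi.single a 1) (Pi.single b 1))) =
          S.Zh ((A.1 a b) • altE (Pi.single a 1) (Pi.single b 1)) from
            Subtype.ext (flip_zh (fun e => by rw [e] at hlt; exact lt_irrefl _ hlt) haj hbj _),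
          hvZ]
    · rw [zero_smul]; exact zero_mem T
  · intro a b hab hlt t
    have hb := b.isLt
    have haj : a ≠ j := fun e => by rw [e] at hlt; omega
    by_cases hbj : b = j
    · subst hbj
      rw [show twist R b (S.L (SpecialLinearGroup.transvection hab t)) =
        S.Zh ((-t) • altE (Pi.single a 1) (Pi.single b 1)) from
          Subtype.ext (flip_transvection_right hab t), hvZ]
    · rw [show twist R j (S.L (SpecialLinearGroup.transvection hab t)) =
        S.L (SpecialLinearGroup.transvection hab t) from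
          Subtype.ext (flip_transvection hab haj hbj t), hU a b hab hlt t]

include hR hr in
/-- A turned vector fixed by the centre is fixed by the twisted lower root subgroup. -/
theorem turned_lower {i j : Fin r} (hij : i ≠ j) {v : M}
    (htv : ρ (twE hR hr hij) v ∈ (modelSiegel R hR (show 2 ≤ r by omega)).D ρ ψ 0) (t : F) :
    ρ (twist R j ((modelSiegel R hR (show 2 ≤ r by omega)).L
      (SpecialLinearGroup.transvection hij.symm t))) v = v := by
  set S := modelSiegel R hR (show 2 ≤ r by omega) with hS
  refine Siegel.ρ_inj ρ (twE hR hr hij) ?_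
  have e : twE hR hr hij * twist R j (S.L (SpecialLinearGroup.transvection hij.symm t)) =
      S.Zh (t • altE (Pi.single i 1) (Pi.single j 1)) * twE hR hr hij :=
    Subtype.ext (twO_zh_last hij t).symm
  rw [← Module.End.mul_apply, ← map_mul, e, map_mul, Module.End.mul_apply,
    (S.mem_D_zero ρ ψ).1 htv]

include hR hr in
/-- An eigenvector of a torus away from the last pair gives a twisted lower fixed vector. -/
theorem away_cross (hψ : ψ.IsPrimitive)
    (hone : ∀ β : altM F r, β ≠ 0 → Dec β →
      finrank ℂ ((modelSiegel R hR (show 2 ≤ r by omega)).D ρ ψ β) =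
        Fintype.card F ^ Fintype.card κ)
    {s : Fˣ} (hs : (s : F) ^ 2 ≠ 1) {i j : Fin r} (hij : i ≠ j) (hi : i.val + 2 = r)
    (hj : j.val + 1 = r) {v : M} (hv : v ∈ (modelSiegel R hR (show 2 ≤ r by omega)).D ρ ψ 0)
    (hU : ∀ (a b : Fin r) (hab : a ≠ b), a.val < b.val → ∀ t,
      ρ ((modelSiegel R hR (show 2 ≤ r by omega)).L (SpecialLinearGroup.transvection hab t)) v = v)
    {a b : Fin r} (hab : a ≠ b) (hai : a ≠ i) (haj : a ≠ j) (hbi : b ≠ i) (hbj : b ≠ j) (u : Fˣ)
    {e : ℂ} (he : e ≠ 1)
    (hev : ρ ((modelSiegel R hR (show 2 ≤ r by omega)).L (diagE F r (hT a b hab u))) v = e • v)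
    (t : F) :
    ρ (twist R j ((modelSiegel R hR (show 2 ≤ r by omega)).L
      (SpecialLinearGroup.transvection hij.symm t))) v = v :=
  turned_lower hR hr ρ hij (turn_eigen hR hr ρ hψ hij hi hj hv hU hab
    (Or.inl ⟨hai, haj, hbi, hbj⟩) u hev fun c hc z hz hze _ =>
      eigen_away hR hr ρ hψ hone hij hab hai haj hbi hbj u hs he hc hz hze) t

include hR hr in
/-- An eigenvector of the last Hecke operator gives a twisted lower fixed vector. -/
theorem top_cross (hψ : ψ.IsPrimitive)
    (hone : ∀ β : altM F r, β ≠ 0 → Dec β →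
      finrank ℂ ((modelSiegel R hR (show 2 ≤ r by omega)).D ρ ψ β) = 1)
    {s : Fˣ} (hs : (s : F) ^ 2 ≠ 1) {i j : Fin r} (hij : i ≠ j) (hi : i.val + 2 = r)
    (hj : j.val + 1 = r) {v : M} (hv : v ∈ (modelSiegel R hR (show 2 ≤ r by omega)).D ρ ψ 0)
    (hU : ∀ (a b : Fin r) (hab : a ≠ b), a.val < b.val → ∀ t,
      ρ ((modelSiegel R hR (show 2 ≤ r by omega)).L (SpecialLinearGroup.transvection hab t)) v = v)
    (hev : ∑ x : F, ρ ((modelSiegel R hR (show 2 ≤ r by omega)).L
      (SpecialLinearGroup.transvection hij x * wel hij)) v = -v) (t : F) :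
    ρ (twist R j ((modelSiegel R hR (show 2 ≤ r by omega)).L
      (SpecialLinearGroup.transvection hij.symm t))) v = v := by
  classical
  set S := modelSiegel R hR (show 2 ≤ r by omega) with hS
  set δ := altE (Pi.single i (1 : F)) (Pi.single j 1) with hδ
  have hb1 : BlockPair i j i j := Or.inr (Or.inl ⟨rfl, rfl⟩)
  -- the block commutes with the root group and the Weyl element
  have hcZ : ∀ (x : F) {p q : Fin r} (hpq : p ≠ q), BlockPair i j p q → ∀ c : F,
      Commute (S.L (SpecialLinearGroup.transvection hpq c)) (S.Zh (x • δ)) := by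
    intro x p q hpq hb c
    show _ * _ = _ * _
    rw [S.L_Zh, congA_smul, hδ, congA_transvection hij hpq hb]
  have hct : ∀ {p q : Fin r} (hpq : p ≠ q), BlockPair i j p q → ∀ c : F,
      Commute (S.L (SpecialLinearGroup.transvection hpq c)) (twE hR hr hij) :=
    fun hpq hb c => Subtype.ext (twO_transvection hij hpq hb c).symm
  have hprod : ∀ g : EG (qS r R),
      (∀ {p q : Fin r} (hpq : p ≠ q), BlockPair i j p q → ∀ c : F,
        Commute (S.L (SpecialLinearGroup.transvection hpq c)) g) →
      ∀ x, Commute (S.L (SpecialLinearGroup.transvection hij x * wel hij)) g := by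
    intro g hg x
    simp only [wel, map_mul]
    exact (hg hij hb1 x).mul_left (((hg hij hb1 1).mul_left (hg hij.symm hb1.symm (-1))).mul_left
      (hg hij hb1 1))
  let T : Module.End ℂ M :=
    ∑ x : F, ρ (S.L (SpecialLinearGroup.transvection hij x * wel hij))
  have hT : ∀ z, T z = ∑ x : F, ρ (S.L (SpecialLinearGroup.transvection hij x * wel hij)) z :=
    fun z => LinearMap.sum_apply _ _ _
  have hcomm : ∀ g : EG (qS r R), (∀ x, Commute (S.L (SpecialLinearGroup.transvection hij x *
      wel hij)) g) → ∀ z, T (ρ g z) = ρ g (T z) := by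
    intro g hg z
    rw [hT, hT, map_sum]
    refine Finset.sum_congr rfl fun x _ => ?_
    rw [← Module.End.mul_apply, ← map_mul, (hg x).eq, map_mul, Module.End.mul_apply]
  refine turned_lower hR hr ρ hij (turn_mem hR hr ρ hψ hij hi hj hv hU
    (LinearMap.ker (T + 1)) (fun x z hz => ?_) ?_ fun c hc z hz hzD => ?_) t
  · rw [LinearMap.mem_ker, LinearMap.add_apply, Module.End.one_apply] at hz ⊢
    rw [hcomm _ (hprod _ (hcZ x)), ← map_add, hz, map_zero]
  · rw [LinearMap.mem_ker, LinearMap.add_apply, Module.End.one_apply,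
      hcomm _ (hprod _ fun hpq hb c => hct hpq hb c), ← map_add, hT, hev, neg_add_cancel, map_zero]
  · rw [LinearMap.mem_ker, LinearMap.add_apply, Module.End.one_apply] at hz
    set β := c • δ with hβ
    have hij' : β.1 i j = c := by simp [hβ, hδ, altE_coe, alt2_apply, hij, hij.symm]
    have hβ0 : β ≠ 0 := fun h => hc (by rw [← hij', h]; rfl)
    have hdec : Dec β := ⟨c • Pi.single i 1, Pi.single j 1, by rw [hβ, hδ, altE_smul_left]⟩
    by_contra hz0
    have hsc : ∀ {p q : Fin r} (hpq : p ≠ q), BlockPair i j p q → ∀ t',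
        ρ (S.L (SpecialLinearGroup.transvection hpq t')) z = z := by
      intro p q hpq hb t'
      refine S.fix_of_scalar ρ hij hpq hb hs (fun t'' => ?_) t' z hzD
      obtain ⟨a, ha⟩ := (finrank_eq_one_iff_of_nonzero' (⟨z, hzD⟩ : S.D ρ ψ β)
        (fun e => hz0 (congrArg Subtype.val e))).1 (hone β hβ0 hdec)
        ⟨_, S.map_D_block ρ hij hpq hb t'' c hzD⟩
      refine ⟨a, fun y hy => ?_⟩
      obtain ⟨a', ha'⟩ := (finrank_eq_one_iff_of_nonzero' (⟨z, hzD⟩ : S.D ρ ψ β)
        (fun e => hz0 (congrArg Subtype.val e))).1 (hone β hβ0 hdec) ⟨y, hy⟩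
      have ha1 : a • z = ρ (S.L (SpecialLinearGroup.transvection hpq t'')) z :=
        congrArg Subtype.val ha
      have ha2 : a' • z = y := congrArg Subtype.val ha'
      rw [← ha2, map_smul, ← ha1, smul_comm]
    have hTz : T z = (Fintype.card F : ℂ) • z := by
      rw [hT]
      simp only [wel, map_mul, Module.End.mul_apply, hsc hij hb1, hsc hij.symm hb1.symm,
        Finset.sum_const, Finset.card_univ, Nat.cast_smul_eq_nsmul]
    rw [hTz] at hz
    have h' : ((Fintype.card F : ℂ) + 1) • z = 0 := by rw [add_smul, one_smul, hz]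
    refine hz0 ((smul_eq_zero.1 h').resolve_left ?_)
    rw [← Nat.cast_one, ← Nat.cast_add, Nat.cast_eq_zero]
    omega

end Cfsg.Agent.Lib.OrthDeg48
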