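import Cfsg.Agent.Lib.OrthDeg48.PlusCross
import Cfsg.Agent.Lib.OrthDeg48.PlusChain
import Cfsg.Agent.Lib.OrthDeg48.Main

/-!
Plus type forms: the fixed space of the centre exceeds the bound of `SL_r`.
-/

set_option autoImplicit false
set_option linter.unusedSectionVars false

namespace Cfsg.Agent.Lib.OrthDeg48

open Matrix Module Cfsg.Agent.Lib.SLDeg48 Cfsg.Agent.Lib.UniDeg48 Cfsg.Agent.Lib.MinDegree

variable {F : Type*} [Field F] [Fintype F] {r : ℕ} {κ : Type*} [Fintype κ]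
variable {G : Type*} [Group G] (S : Siegel F r κ G)
variable {M : Type*} [AddCommGroup M] [Module ℂ M] [FiniteDimensional ℂ M]

namespace Siegel

theorem levRep_coe (ρ : Representation ℂ G M) (ψ : AddChar F ℂ) (g : SL' r F) (v : S.D ρ ψ 0) :
    (S.levRep ρ ψ g v).1 = ρ (S.L g) v.1 := rfl

theorem levRep_Top (ρ : Representation ℂ G M) (ψ : AddChar F ℂ) {a b : Fin r} (hab : a ≠ b)
    (v : S.D ρ ψ 0) :
    (Top (S.levRep ρ ψ) hab v).1 =
      ∑ x : F, ρ (S.L (SpecialLinearGroup.transvection hab x * wel hab)) v.1 := by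
  rw [Top_apply, Submodule.coe_sum]
  exact Finset.sum_congr rfl fun x _ => S.levRep_coe ρ ψ _ v

/-- The vectors fixed by the centre and the upper root subgroups. -/
def UFix (ρ : Representation ℂ G M) (ψ : AddChar F ℂ) (v : M) : Prop :=
  v ∈ S.D ρ ψ 0 ∧ ∀ (a b : Fin r) (hab : a ≠ b), a.val < b.val → ∀ t,
    ρ (S.L (SpecialLinearGroup.transvection hab t)) v = v

theorem uFix_of_mem (ρ : Representation ℂ G M) (ψ : AddChar F ℂ) {v : S.D ρ ψ 0}
    (hv : v ∈ Z (S.levRep ρ ψ) r) : S.UFix ρ ψ v.1 :=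
  ⟨v.2, fun a b hab hlt t => by
    rw [← S.levRep_coe ρ ψ _ v, (mem_Z _).1 hv _ (low_transvection hab (Fin.lt_def.2 hlt) t)]⟩

theorem mem_of_uFix (ρ : Representation ℂ G M) (ψ : AddChar F ℂ) {v : M} (h : S.UFix ρ ψ v) :
    (⟨v, h.1⟩ : S.D ρ ψ 0) ∈ Z (S.levRep ρ ψ) r :=
  mem_Z_of_upper _ fun a b hab hlt t => Subtype.ext (by
    rw [S.levRep_coe]; exact h.2 a b hab hlt t)

/-- The identification of the fixed spaces. -/
noncomputable def fixEquiv (ρ ρ' : Representation ℂ G M) (ψ : AddChar F ℂ)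
    (h : ∀ v, S.UFix ρ ψ v → S.UFix ρ' ψ v) (h' : ∀ v, S.UFix ρ' ψ v → S.UFix ρ ψ v) :
    Z (S.levRep ρ ψ) r ≃ₗ[ℂ] Z (S.levRep ρ' ψ) r where
  toFun v := ⟨⟨v.1.1, (h _ (S.uFix_of_mem ρ ψ v.2)).1⟩,
    S.mem_of_uFix ρ' ψ (h _ (S.uFix_of_mem ρ ψ v.2))⟩
  map_add' _ _ := rfl
  map_smul' _ _ := rfl
  invFun v := ⟨⟨v.1.1, (h' _ (S.uFix_of_mem ρ' ψ v.2)).1⟩,
    S.mem_of_uFix ρ ψ (h' _ (S.uFix_of_mem ρ' ψ v.2))⟩
  left_inv _ := rfl
  right_inv _ := rfl

theorem fixEquiv_coe (ρ ρ' : Representation ℂ G M) (ψ : AddChar F ℂ)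
    (h : ∀ v, S.UFix ρ ψ v → S.UFix ρ' ψ v) (h' : ∀ v, S.UFix ρ' ψ v → S.UFix ρ ψ v)
    (v : Z (S.levRep ρ ψ) r) : ((S.fixEquiv ρ ρ' ψ h h') v).1.1 = v.1.1 := rfl

set_option maxHeartbeats 1000000 in
/-- The fixed spaces cannot both be as small as possible. -/
theorem plus_contra (ρ ρ' : Representation ℂ G M) {ψ : AddChar F ℂ} (hψ : ψ.IsPrimitive)
    (hr : 4 ≤ r) (hq : 4 ≤ Fintype.card F) {i j : Fin r} (hij : i ≠ j) (hi : i.val + 2 = r)
    (hj : j.val + 1 = r)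
    (hU : ∀ v, S.UFix ρ ψ v → S.UFix ρ' ψ v) (hU' : ∀ v, S.UFix ρ' ψ v → S.UFix ρ ψ v)
    (hsame : ∀ {a b : Fin r} (hab : a ≠ b), a ≠ j → b ≠ j → ∀ x : F,
      ρ' (S.L (SpecialLinearGroup.transvection hab x * wel hab)) =
        ρ (S.L (SpecialLinearGroup.transvection hab x * wel hab)))
    (haway : ∀ v, S.UFix ρ ψ v → ∀ {a b : Fin r} (hab : a ≠ b), a ≠ i → a ≠ j → b ≠ i → b ≠ j →
      ∀ (w : Fˣ) {e : ℂ}, e ≠ 1 → ρ (S.L (diagE F r (hT a b hab w))) v = e • v →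
      ∀ t, ρ (S.L (SpecialLinearGroup.transvection hij.symm t)) v = v)
    (haway' : ∀ v, S.UFix ρ' ψ v → ∀ {a b : Fin r} (hab : a ≠ b), a ≠ i → a ≠ j → b ≠ i → b ≠ j →
      ∀ (w : Fˣ) {e : ℂ}, e ≠ 1 → ρ' (S.L (diagE F r (hT a b hab w))) v = e • v →
      ∀ t, ρ' (S.L (SpecialLinearGroup.transvection hij.symm t)) v = v)
    (htop : ∀ v, S.UFix ρ ψ v →
      ∑ x : F, ρ (S.L (SpecialLinearGroup.transvection hij x * wel hij)) v = -v →
      ∀ t, ρ' (S.L (SpecialLinearGroup.transvection hij.symm t)) v = v)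
    (htop' : ∀ v, S.UFix ρ' ψ v →
      ∑ x : F, ρ' (S.L (SpecialLinearGroup.transvection hij x * wel hij)) v = -v →
      ∀ t, ρ (S.L (SpecialLinearGroup.transvection hij.symm t)) v = v)
    (hfix : ∀ z : S.D ρ ψ 0, (∀ g, S.levRep ρ ψ g z = z) → z = 0)
    (hfix' : ∀ z : S.D ρ' ψ 0, (∀ g, S.levRep ρ' ψ g z = z) → z = 0)
    (hC : finrank ℂ (S.D ρ ψ 0) = ∑ k ∈ Finset.range (r - 1), Fintype.card F ^ (k + 1))
    (hC' : finrank ℂ (S.D ρ' ψ 0) = ∑ k ∈ Finset.range (r - 1), Fintype.card F ^ (k + 1)) :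
    False := by
  classical
  have hr3 : 3 ≤ r := by omega
  have hbig : Fintype.card F ^ (r - 1) ≤ ∑ k ∈ Finset.range (r - 1), Fintype.card F ^ (k + 1) := by
    have := Finset.single_le_sum (s := Finset.range (r - 1))
      (f := fun k => Fintype.card F ^ (k + 1)) (fun _ _ => Nat.zero_le _)
      (Finset.mem_range.2 (show r - 2 < r - 1 by omega))
    simp only [show r - 2 + 1 = r - 1 by omega] at this
    exact this
  have hp : 0 < Fintype.card F ^ (r - 1) := Nat.pow_pos (by omega)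
  have f := small_facts (S.levRep ρ ψ) hψ hr3 (by omega) hfix (by omega) (le_of_eq hC) (by omega)
  have f' := small_facts (S.levRep ρ' ψ) hψ hr3 (by omega) hfix' (by omega) (le_of_eq hC')
    (by omega)
  have hval : ∀ (τ : Representation ℂ G M) (g : SL' r F) (v : S.D τ ψ 0) {e : ℂ},
      S.levRep τ ψ g v = e • v → τ (S.L g) v.1 = e • v.1 := fun τ g v e h => by
    rw [← S.levRep_coe τ ψ g v, h, Submodule.coe_smul]
  have hB := isB_of_away _ hr f.2.2 hij hi hj fun v {a b} hab hai haj hbi hbj w {e} he hev t =>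
    Subtype.ext (by
      rw [S.levRep_coe]
      exact haway _ (S.uFix_of_mem ρ ψ v.2) hab hai haj hbi hbj w he (hval ρ _ _ hev) t)
  have hB' := isB_of_away _ hr f'.2.2 hij hi hj fun v {a b} hab hai haj hbi hbj w {e} he hev t =>
    Subtype.ext (by
      rw [S.levRep_coe]
      exact haway' _ (S.uFix_of_mem ρ' ψ v.2) hab hai haj hbi hbj w he (hval ρ' _ _ hev) t)
  refine plus_chain_contra _ _ hψ hr hq hfix hfix' f.2.1 f'.2.1 f.1 f'.1 f.2.2 hB hB'
    (S.fixEquiv ρ ρ' ψ hU hU') hij hi hj ?_ ?_ ?_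
  · intro a b hab hab' hbj v w hvw
    have hbv := b.isLt
    have haj : a ≠ j := fun e => by rw [e] at hab'; omega
    apply Subtype.ext
    rw [S.levRep_Top, S.fixEquiv_coe, S.fixEquiv_coe]
    have h1 := congrArg Subtype.val hvw
    rw [S.levRep_Top] at h1
    refine Eq.trans (Finset.sum_congr rfl fun x _ => ?_) h1
    rw [hsame hab haj hbj x]
  · intro v hv t
    apply Subtype.ext
    rw [S.levRep_coe, S.fixEquiv_coe]
    refine htop _ (S.uFix_of_mem ρ ψ v.2) ?_ t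
    rw [← S.levRep_Top, hv, Submodule.coe_neg]
  · intro v hv t
    apply Subtype.ext
    rw [S.levRep_coe]
    refine htop' _ (hU _ (S.uFix_of_mem ρ ψ v.2)) ?_ t
    have h1 := congrArg Subtype.val hv
    rw [S.levRep_Top, Submodule.coe_neg, S.fixEquiv_coe] at h1
    exact h1

end Siegel

end Cfsg.Agent.Lib.OrthDeg48
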