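import Cfsg.Agent.Lib.SLDeg48.Core

/-!
The chain of rank-one idempotents on the vectors fixed by the Borel subgroup.
-/

set_option autoImplicit false
set_option linter.unusedSectionVars false

namespace Cfsg.Agent.Lib.OrthDeg48

open Matrix Module Cfsg.Agent.Lib.SLDeg48
open scoped Classical

variable {F : Type*} [Field F] [Fintype F] {n : ℕ}
variable {M : Type*} [AddCommGroup M] [Module ℂ M] [FiniteDimensional ℂ M]
variable (ρ : Representation ℂ (SL' n F) M) {ψ : AddChar F ℂ}

/-- The data of the chain. -/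
theorem chain_data (hψ : ψ.IsPrimitive) (hn : 4 ≤ n) (hB : ∀ v ∈ Z ρ n, IsB ρ v)
    (hfix : ∀ z : M, (∀ g, ρ g z = z) → z = 0) (hne : Z ρ n ≠ ⊥)
    (hle1 : ∀ (k : Fin n) (h : k.val + 1 < n), dd ρ ψ k h ≤ 1) :
    ∃ (a : ℕ → Z ρ n) (b : ℕ → Z ρ n →ₗ[ℂ] ℂ),
      (∀ i (h : i + 1 < n), b i (a i) = 1 ∧ ∀ v, Aop ρ hB i h v = b i v • a i) ∧
      (∀ i j, i + 2 ≤ j → ∀ (_ : j + 1 < n), b i (a j) = 0 ∧ b j (a i) = 0) ∧
      ∀ i, i + 1 < n - 1 → b i (a (i + 1)) * b (i + 1) (a i) =
        (Fintype.card F : ℂ) / ((Fintype.card F : ℂ) + 1) ^ 2 := by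
  have hn3 : 3 ≤ n := by omega
  set q : ℂ := (Fintype.card F : ℂ) with hq
  have hex : ∀ i, ∃ (a : Z ρ n) (b : Z ρ n →ₗ[ℂ] ℂ), ∀ h : i + 1 < n,
      b a = 1 ∧ ∀ v, Aop ρ hB i h v = b v • a := by
    intro i
    by_cases h : i + 1 < n
    · obtain ⟨a, b, h1, h2⟩ := exists_rank_one _ (Aop_idem hB i h) (Aop_ne_zero hB hfix hn3 hne i h)
        (finrank_range_Aop hB hψ hn3 i h (hle1 _ h))
      exact ⟨a, b, fun _ => ⟨h1, h2⟩⟩
    · exact ⟨0, 0, fun h' => absurd h' h⟩
  choose a b hab using hex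
  have hfar : ∀ i j, i + 2 ≤ j → ∀ (hj : j + 1 < n), b i (a j) = 0 ∧ b j (a i) = 0 := by
    intro i j hij hj
    obtain ⟨hi1, hi2⟩ := hab i (by omega)
    obtain ⟨hj1, hj2⟩ := hab j hj
    refine (commute_rank_one hi1 hj1 fun v => ?_).resolve_left fun heq => ?_
    · rw [← hj2 v, ← hi2 (Aop ρ hB j hj v), Aop_commute hB i j _ hj hij, hi2, hj2]
    · have hA1 : Aop ρ hB i (by omega) (a i) = a i := by rw [hi2, hi1, one_smul]
      have hA2 : Aop ρ hB j hj (a i) = a i := by rw [hj2, ← heq, hi1, one_smul]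
      have hne0 : (a i).1 ≠ 0 := fun e => by
        rw [show a i = 0 from Subtype.ext e, map_zero] at hi1
        exact zero_ne_one hi1
      have hT1 := Top_eq hB i (by omega) (a i)
      have hT2 := Top_eq hB j hj (a i)
      rw [hA1, ← sub_smul, show q - (q + 1) = -1 by ring, neg_one_smul] at hT1
      rw [hA2, ← sub_smul, show q - (q + 1) = -1 by ring, neg_one_smul] at hT2
      exact far_sign ρ hψ hn3 (i := ⟨i, by omega⟩) (show i + 1 < n by omega) (hle1 _ _)
        _ (show i + 2 ≤ (⟨j, by omega⟩ : Fin n).val from hij) rfl _ (hB _ (a i).2) hne0 hT1 hT2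
  have hadj : ∀ i (h : i + 2 < n), b i (a (i + 1)) * b (i + 1) (a i) = q / (q + 1) ^ 2 ∨
      ∀ v, b i v • a i = b (i + 1) v • a (i + 1) := by
    intro i h
    obtain ⟨hi1, hi2⟩ := hab i (by omega)
    obtain ⟨hj1, hj2⟩ := hab (i + 1) h
    refine or_iff_not_imp_left.2 fun hy v => ?_
    have hs := LinearMap.congr_fun (Aop_sandwich hB i h) v
    simp only [LinearMap.sub_apply, Module.End.mul_apply, LinearMap.smul_apply, hi2, hj2,
      map_smul, smul_eq_mul] at hs
    have h2 : (b i (a (i + 1)) * b (i + 1) (a i) - q / (q + 1) ^ 2) •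
        (b i v • a i - b (i + 1) v • a (i + 1)) = 0 := by
      rw [← hq] at hs
      linear_combination (norm := module) hs
    exact sub_eq_zero.1 ((smul_eq_zero.1 h2).resolve_left (sub_ne_zero.2 hy))
  have hx0 : q / (q + 1) ^ 2 ≠ 0 :=
    div_ne_zero (Nat.cast_ne_zero.2 Fintype.card_ne_zero) (pow_ne_zero 2 (q1_ne hB))
  have hna : ∀ j, j + 1 < n → a j ≠ 0 := fun j hj e => by
    have := (hab j hj).1
    rw [e, map_zero] at this
    exact zero_ne_one this
  have hlink : ∀ i, i + 1 < n - 1 → b i (a (i + 1)) * b (i + 1) (a i) = q / (q + 1) ^ 2 := by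
    intro i hi
    refine (hadj i (by omega)).resolve_right fun heq => ?_
    by_cases h2 : i + 3 < n
    · have hf := hfar i (i + 2) le_rfl (by omega)
      have hz : b (i + 1) (a (i + 2)) = 0 := by
        have := heq (a (i + 2))
        rw [hf.1, zero_smul, eq_comm, smul_eq_zero] at this
        exact this.resolve_right (hna _ (by omega))
      rcases hadj (i + 1) (by omega) with h' | h'
      · rw [hz, zero_mul] at h'
        exact hx0 h'.symm
      · have := h' (a (i + 2))
        rw [hz, zero_smul, (hab (i + 2) (by omega)).1, one_smul] at this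
        exact hna _ (by omega) this.symm
    · obtain ⟨k, rfl⟩ : ∃ k, i = k + 1 := ⟨i - 1, by omega⟩
      have hf := hfar k (k + 2) le_rfl (by omega)
      have hz : b (k + 1) (a k) = 0 := by
        have := heq (a k)
        rw [hf.2, zero_smul, smul_eq_zero] at this
        exact this.resolve_right (hna _ (by omega))
      rcases hadj k (by omega) with h' | h'
      · rw [hz, mul_zero] at h'
        exact hx0 h'.symm
      · have := h' (a k)
        rw [hz, zero_smul, (hab k (by omega)).1, one_smul] at this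
        exact hna _ (by omega) this
  exact ⟨a, b, fun i h => hab i h, hfar, hlink⟩

end Cfsg.Agent.Lib.OrthDeg48
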