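import Cfsg.Agent.Lib.OrthDeg48.Elements
import Cfsg.Agent.Lib.OrthDeg48.Levi

/-!
A Weyl element exchanging the last long root of the centre with its opposite.
-/

set_option autoImplicit false
set_option linter.unusedSectionVars false

namespace Cfsg.Agent.Lib.OrthDeg48

open Matrix Module QuadraticMap Cfsg.Agent.Lib.Forms Cfsg.Agent.Lib.OrthOmega Cfsg.Agent.Lib.SLDeg48
  Cfsg.Agent.Lib.UniDeg48 Cfsg.Agent.Lib.MinDegree

variable {F : Type*} [Field F] [Finite F] {r : ℕ} {κ : Type*} [Fintype κ] {R : QuadraticForm F (κ → F)}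

theorem levHom_transvection_apply {a b : Fin r} (hab : a ≠ b) (c : F) (X : V3 F r κ) :
    (levHom R (SpecialLinearGroup.transvection hab c)).1 X =
      (Function.update X.1 a (X.1 a + c * X.1 b),
        Function.update X.2.1 b (X.2.1 b - c * X.2.1 a), X.2.2) := by
  have hd : (Pi.single b c : Fin r → F) ⬝ᵥ Pi.single a 1 = 0 := by simp [hab, hab.symm]
  have e : SpecialLinearGroup.transvection hab c = rk1 (Pi.single a 1) (Pi.single b c) hd := by
    apply Subtype.ext
    ext x y
    rw [rk1_apply, SpecialLinearGroup.transvection_coe, Matrix.add_apply, single_apply]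
    simp only [Pi.single_apply]
    grind
  rw [levHom_apply, e, invT_rk1, rk1_coe, rk1_coe, add_mulVec, add_mulVec, one_mulVec, one_mulVec,
    vecMulVec_mulVec, vecMulVec_mulVec, op_smul_eq_smul, op_smul_eq_smul]
  refine Prod.ext ?_ (Prod.ext ?_ rfl)
  · funext x
    by_cases hx : x = a
    · subst hx; simp
    · simp [hx]
  · funext x
    by_cases hx : x = b
    · subst hx; simp; ring
    · simp [hx]

theorem invT_wel {i j : Fin r} (h : i ≠ j) : invT r F (wel h) = wel h := by
  apply Subtype.ext
  show ((wel (F := F) h)⁻¹).1ᵀ = _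
  rw [inv_wel]
  ext a b
  rw [transpose_apply, wel_apply, wel_apply]
  simp only [Equiv.swap_apply_def]
  grind

/-- The Weyl element. -/
noncomputable def twO (R : QuadraticForm F (κ → F)) {i j : Fin r} (hij : i ≠ j) : orth (qS r R) :=
  orefl (qS r R) (inH i 1) * orefl (qS r R) (inH j 1) * levHom R (wel hij)

theorem twO_apply {i j : Fin r} (hij : i ≠ j) (X : V3 F r κ) :
    (twO R hij).1 X = (Function.update (Function.update X.1 i (-X.2.1 j)) j (X.2.1 i),
      Function.update (Function.update X.2.1 i (-X.1 j)) j (X.1 i), X.2.2) := by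
  rw [twO, orth_mul_apply, orth_mul_apply, levHom_apply, invT_wel]
  show refl (qS r R) (inH i 1) (refl (qS r R) (inH j 1) _) = _
  rw [refl_inH one_ne_zero, refl_inH one_ne_zero]
  have hw : ∀ (x : Fin r → F) (p : Fin r), ((wel (F := F) hij).1 *ᵥ x) p =
      if p = i then x j else if p = j then -x i else x p := by
    intro x p
    rw [mulVec, dotProduct, Finset.sum_eq_single (Equiv.swap i j p)]
    · rw [wel_apply, Equiv.swap_apply_self]
      simp only [Equiv.swap_apply_def]
      grind
    · intro b _ hb
      rw [wel_apply, if_neg (fun e => hb (by rw [e, Equiv.swap_apply_self])), zero_mul]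
    · simp
  refine Prod.ext ?_ (Prod.ext ?_ rfl)
  all_goals
    funext p
    simp only [Function.update_apply, hw, inv_one, one_mul]
    grind

theorem twO_mem (hR : Nondeg R) (hr : 3 ≤ r) {i j : Fin r} (hij : i ≠ j) :
    twO R hij ∈ EG (qS r R) :=
  mul_mem (orefl_mul_mem hR hr (by rw [qS_inH, qS_inH]) (by rw [qS_inH]; exact one_ne_zero))
    (levHom_mem R (by omega) _)

/-- The Weyl element commutes with the transvections of the two blocks. -/
theorem twO_transvection {i j a b : Fin r} (hij : i ≠ j) (hab : a ≠ b)
    (h : (a ≠ i ∧ a ≠ j ∧ b ≠ i ∧ b ≠ j) ∨ (a = i ∧ b = j) ∨ (a = j ∧ b = i)) (c : F) :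
    twO R hij * levHom R (SpecialLinearGroup.transvection hab c) =
      levHom R (SpecialLinearGroup.transvection hab c) * twO R hij := by
  refine orth_ext fun X => ?_
  rw [orth_mul_apply, orth_mul_apply, twO_apply, twO_apply, levHom_transvection_apply,
    levHom_transvection_apply]
  refine Prod.ext ?_ (Prod.ext ?_ rfl)
  all_goals
    funext p
    simp only [Function.update_apply]
    grind

theorem alt2_single_mulVec (a b : Fin r) (y : Fin r → F) :
    alt2 (Pi.single a (1 : F)) (Pi.single b 1) *ᵥ y = Pi.single a (y b) - Pi.single b (y a) := by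
  rw [alt2_mulVec]
  funext p
  by_cases h1 : p = a <;> by_cases h2 : p = b <;> simp [h1, h2, Pi.single_apply]

theorem zhO_single_apply {a b : Fin r} (hab : a ≠ b) (c : F) (X : V3 F r κ) :
    (zhO R (c • altE (Pi.single a 1) (Pi.single b 1))).1 X =
      (Function.update (Function.update X.1 a (X.1 a + c * X.2.1 b)) b (X.1 b - c * X.2.1 a),
        X.2.1, X.2.2) := by
  rw [zhO_apply, Submodule.coe_smul, altE_coe, smul_mulVec, alt2_single_mulVec]
  refine Prod.ext ?_ rfl
  funext p
  simp only [Pi.add_apply, Pi.smul_apply, Pi.sub_apply, Pi.single_apply, smul_eq_mul,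
    Function.update_apply]
  grind

theorem twO_zh_low {i j a b : Fin r} (hij : i ≠ j) (hab : a ≠ b) (hai : a ≠ i) (haj : a ≠ j)
    (hbi : b ≠ i) (hbj : b ≠ j) (c : F) :
    zhO R (c • altE (Pi.single a 1) (Pi.single b 1)) * twO R hij =
      twO R hij * zhO R (c • altE (Pi.single a 1) (Pi.single b 1)) := by
  refine orth_ext fun X => ?_
  rw [orth_mul_apply, orth_mul_apply, twO_apply, zhO_single_apply hab, zhO_single_apply hab,
    twO_apply]
  refine Prod.ext ?_ (Prod.ext ?_ rfl)
  all_goals
    funext p
    simp only [Function.update_apply]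
    grind

theorem twO_zh_right {i j a : Fin r} (hij : i ≠ j) (hai : a ≠ i) (haj : a ≠ j) (c : F) :
    zhO R (c • altE (Pi.single a 1) (Pi.single j 1)) * twO R hij =
      twO R hij * levHom R (SpecialLinearGroup.transvection hai c) := by
  refine orth_ext fun X => ?_
  rw [orth_mul_apply, orth_mul_apply, twO_apply, zhO_single_apply haj, levHom_transvection_apply,
    twO_apply]
  refine Prod.ext ?_ (Prod.ext ?_ rfl)
  all_goals
    funext p
    simp only [Function.update_apply]
    grind

theorem twO_zh_left {i j a : Fin r} (hij : i ≠ j) (hai : a ≠ i) (haj : a ≠ j) (c : F) :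
    zhO R (c • altE (Pi.single a 1) (Pi.single i 1)) * twO R hij =
      twO R hij * levHom R (SpecialLinearGroup.transvection haj (-c)) := by
  refine orth_ext fun X => ?_
  rw [orth_mul_apply, orth_mul_apply, twO_apply, zhO_single_apply hai, levHom_transvection_apply,
    twO_apply]
  refine Prod.ext ?_ (Prod.ext ?_ rfl)
  all_goals
    funext p
    simp only [Function.update_apply]
    grind

theorem flip_transvection_apply {i j : Fin r} (hij : i ≠ j) (c : F) (X : V3 F r κ) :
    (orefl (qS r R) (inH j 1) * levHom R (SpecialLinearGroup.transvection hij.symm c) *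
      orefl (qS r R) (inH j 1)).1 X =
      (X.1, Function.update (Function.update X.2.1 i (X.2.1 i + c * X.1 j)) j
        (X.2.1 j - c * X.1 i), X.2.2) := by
  rw [orth_mul_apply, orth_mul_apply]
  show refl (qS r R) (inH j 1) ((levHom R _).1 (refl (qS r R) (inH j 1) X)) = _
  rw [refl_inH one_ne_zero, levHom_transvection_apply, refl_inH one_ne_zero]
  refine Prod.ext ?_ (Prod.ext ?_ rfl)
  all_goals
    funext p
    simp only [Function.update_apply, inv_one, one_mul]
    grind

theorem twO_zh_last {i j : Fin r} (hij : i ≠ j) (c : F) :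
    zhO R (c • altE (Pi.single i 1) (Pi.single j 1)) * twO R hij =
      twO R hij * (orefl (qS r R) (inH j 1) *
        levHom R (SpecialLinearGroup.transvection hij.symm c) * orefl (qS r R) (inH j 1)) := by
  refine orth_ext fun X => ?_
  rw [orth_mul_apply, orth_mul_apply, twO_apply, zhO_single_apply hij, flip_transvection_apply hij,
    twO_apply]
  refine Prod.ext ?_ (Prod.ext ?_ rfl)
  all_goals
    funext p
    simp only [Function.update_apply]
    grind

theorem twO_opp {i j : Fin r} (hij : i ≠ j) (n : κ → F)
    (h : SPair (qS r R) ((0, Pi.single i 1, 0) : V3 F r κ) (0, 0, n)) :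
    qvO R (Pi.single j 1) n * twO R hij = twO R hij * rho h := by
  refine (mul_inv_eq_iff_eq_mul.1 ?_).symm
  rw [rho_conj, qvO]
  refine rho_congr _ _ ?_ ?_
  · rw [twO_apply]
    refine Prod.ext ?_ (Prod.ext ?_ rfl)
    all_goals
      funext p
      simp only [Function.update_apply, Pi.single_apply, Pi.zero_apply]
      grind
  · rw [twO_apply]
    refine Prod.ext ?_ (Prod.ext ?_ rfl)
    all_goals
      funext p
      simp only [Function.update_apply, Pi.zero_apply]
      grind

end Cfsg.Agent.Lib.OrthDeg48
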