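import Cfsg.Agent.Lib.OrthDeg48.SmallCommon

/-!
The automorphism exchanging the two classes of maximal singular subspaces.
-/

set_option autoImplicit false
set_option linter.unusedSectionVars false

namespace Cfsg.Agent.Lib.OrthDeg48

open Matrix Module QuadraticMap Cfsg.Agent.Lib.Forms Cfsg.Agent.Lib.OrthOmega Cfsg.Agent.Lib.SLDeg48
  Cfsg.Agent.Lib.UniDeg48

variable {F : Type*} [Field F] [Finite F] {r : ℕ} {κ : Type*} [Fintype κ]
  {R : QuadraticForm F (κ → F)}

/-- The reflection exchanging `x_j` and `y_j`. -/
noncomputable def flipO (R : QuadraticForm F (κ → F)) (j : Fin r) : orth (qS r R) :=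
  orefl (qS r R) (inH j 1)

theorem flipO_apply (j : Fin r) (X : V3 F r κ) :
    (flipO R j).1 X = (Function.update X.1 j (-X.2.1 j), Function.update X.2.1 j (-X.1 j), X.2.2) := by
  show refl (qS r R) (inH j 1) X = _
  rw [refl_inH one_ne_zero]
  simp

theorem flipO_mul_self (j : Fin r) : flipO R j * flipO R j = 1 := by
  refine orth_ext fun X => ?_
  rw [orth_mul_apply, flipO_apply, flipO_apply]
  refine Prod.ext ?_ (Prod.ext ?_ rfl)
  all_goals
    funext p
    by_cases hp : p = j
    · subst hp; simp
    · simp [hp]

theorem flipO_inv (j : Fin r) : (flipO R j)⁻¹ = flipO R j :=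
  inv_eq_of_mul_eq_one_right (flipO_mul_self j)

theorem flip_transvection {j a b : Fin r} (hab : a ≠ b) (ha : a ≠ j) (hb : b ≠ j) (c : F) :
    flipO R j * levHom R (SpecialLinearGroup.transvection hab c) * flipO R j =
      levHom R (SpecialLinearGroup.transvection hab c) := by
  refine orth_ext fun X => ?_
  rw [orth_mul_apply, orth_mul_apply, flipO_apply, flipO_apply, levHom_transvection_apply,
    levHom_transvection_apply]
  refine Prod.ext ?_ (Prod.ext ?_ rfl)
  all_goals
    funext p
    simp only [Function.update_apply]
    grind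

theorem flip_zh {j a b : Fin r} (hab : a ≠ b) (ha : a ≠ j) (hb : b ≠ j) (c : F) :
    flipO R j * zhO R (c • altE (Pi.single a 1) (Pi.single b 1)) * flipO R j =
      zhO R (c • altE (Pi.single a 1) (Pi.single b 1)) := by
  refine orth_ext fun X => ?_
  rw [orth_mul_apply, orth_mul_apply, flipO_apply, flipO_apply, zhO_single_apply hab,
    zhO_single_apply hab]
  refine Prod.ext ?_ (Prod.ext ?_ rfl)
  all_goals
    funext p
    simp only [Function.update_apply]
    grind

theorem flip_zh_right {j a : Fin r} (ha : a ≠ j) (c : F) :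
    flipO R j * zhO R (c • altE (Pi.single a 1) (Pi.single j 1)) * flipO R j =
      levHom R (SpecialLinearGroup.transvection ha (-c)) := by
  refine orth_ext fun X => ?_
  rw [orth_mul_apply, orth_mul_apply, flipO_apply, flipO_apply, zhO_single_apply ha,
    levHom_transvection_apply]
  refine Prod.ext ?_ (Prod.ext ?_ rfl)
  all_goals
    funext p
    simp only [Function.update_apply]
    grind

theorem flip_transvection_right {j a : Fin r} (ha : a ≠ j) (c : F) :
    flipO R j * levHom R (SpecialLinearGroup.transvection ha c) * flipO R j =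
      zhO R ((-c) • altE (Pi.single a 1) (Pi.single j 1)) := by
  refine orth_ext fun X => ?_
  rw [orth_mul_apply, orth_mul_apply, flipO_apply, flipO_apply, zhO_single_apply ha,
    levHom_transvection_apply]
  refine Prod.ext ?_ (Prod.ext ?_ rfl)
  all_goals
    funext p
    simp only [Function.update_apply]
    grind

theorem flip_mem (j : Fin r) {g : orth (qS r R)} (hg : g ∈ EG (qS r R)) :
    flipO R j * g * flipO R j ∈ EG (qS r R) := by
  have h : EG (qS r R) ≤ (EG (qS r R)).comap (MulAut.conj (flipO R j)).toMonoidHom := by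
    refine EG_le fun e u hu => ?_
    show flipO R j * rho hu * (flipO R j)⁻¹ ∈ EG (qS r R)
    rw [rho_conj]
    exact rho_mem _
  have h' := h hg
  change flipO R j * g * (flipO R j)⁻¹ ∈ EG (qS r R) at h'
  rwa [flipO_inv] at h'

variable (R)

/-- The twist. -/
noncomputable def twist (j : Fin r) : EG (qS r R) →* EG (qS r R) where
  toFun g := ⟨flipO R j * g.1 * flipO R j, flip_mem j g.2⟩
  map_one' := Subtype.ext (by
    show flipO R j * 1 * flipO R j = 1
    rw [mul_one, flipO_mul_self])
  map_mul' g h := Subtype.ext (by
    show flipO R j * (g.1 * h.1) * flipO R j =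
      flipO R j * g.1 * flipO R j * (flipO R j * h.1 * flipO R j)
    rw [show flipO R j * g.1 * flipO R j * (flipO R j * h.1 * flipO R j) =
      flipO R j * g.1 * (flipO R j * flipO R j) * h.1 * flipO R j by simp only [mul_assoc],
      flipO_mul_self, mul_one]
    simp only [mul_assoc])

theorem twist_coe (j : Fin r) (g : EG (qS r R)) :
    (twist R j g).1 = flipO R j * g.1 * flipO R j := rfl

theorem twist_twist (j : Fin r) (g : EG (qS r R)) : twist R j (twist R j g) = g := by
  refine Subtype.ext ?_
  rw [twist_coe, twist_coe,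
    show flipO R j * (flipO R j * g.1 * flipO R j) * flipO R j =
      (flipO R j * flipO R j) * g.1 * (flipO R j * flipO R j) by simp only [mul_assoc],
    flipO_mul_self, one_mul, mul_one]

end Cfsg.Agent.Lib.OrthDeg48
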